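import Mathlib

/-!
Ranks of the powers of an operator with `N ^ p = 0`, and ranks under reduction.
-/

set_option autoImplicit false
set_option linter.unusedSectionVars false

namespace Cfsg.Agent.H31.Defect

open Module

section Nilpotent

variable {k V : Type*} [Field k] [AddCommGroup V] [Module k V] [FiniteDimensional k V]
  (N : V →ₗ[k] V)

/-- `dim (ker N ∩ range (N ^ j))`. -/
noncomputable def kdim (j : ℕ) : ℕ :=
  finrank k ↥(LinearMap.ker N ⊓ LinearMap.range (N ^ j))

theorem kdim_antitone {i j : ℕ} (h : i ≤ j) : kdim N j ≤ kdim N i := by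
  refine Submodule.finrank_mono (inf_le_inf_left _ ?_)
  rintro _ ⟨v, rfl⟩
  exact ⟨(N ^ (j - i)) v, by rw [← Module.End.mul_apply, ← pow_add, Nat.add_sub_cancel' h]⟩

theorem rank_pow_eq (j : ℕ) :
    finrank k ↥(LinearMap.range (N ^ j)) =
      finrank k ↥(LinearMap.range (N ^ (j + 1))) + kdim N j := by
  have h := LinearMap.finrank_range_add_finrank_ker (N.domRestrict (LinearMap.range (N ^ j)))
  rw [LinearMap.range_domRestrict, ← LinearMap.range_comp, ← Module.End.mul_eq_comp, ← pow_succ',
    LinearMap.ker_domRestrict] at h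
  rw [← h, kdim, inf_comm, ← Submodule.map_comap_subtype, Submodule.finrank_map_subtype_eq]

theorem rank_pow_sum : ∀ j : ℕ, finrank k V =
    finrank k ↥(LinearMap.range (N ^ j)) + ∑ i ∈ Finset.range j, kdim N i
  | 0 => by rw [pow_zero, Module.End.one_eq_id, LinearMap.range_id, finrank_top, Finset.range_zero, Finset.sum_empty, add_zero]
  | j + 1 => by rw [rank_pow_sum j, rank_pow_eq N j, Finset.sum_range_succ]; ring

variable {p : ℕ}

/-- The two bounds in terms of `W = rank (N ^ (p - 1))`. -/
theorem rank_bounds (hp : 1 ≤ p) (hN : N ^ p = 0) :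
    finrank k V ≤ finrank k ↥(LinearMap.range (N ^ (p - 1))) +
        (p - 1) * (finrank k V - finrank k ↥(LinearMap.range N)) ∧
      (p - 1) * finrank k ↥(LinearMap.range (N ^ (p - 1))) ≤ finrank k ↥(LinearMap.range N) ∧
      p * finrank k ↥(LinearMap.range (N ^ (p - 1))) ≤ finrank k V := by
  obtain ⟨q, rfl⟩ : ∃ q, p = q + 1 := ⟨p - 1, by omega⟩
  rw [show q + 1 - 1 = q from Nat.add_sub_cancel q 1]
  have h1 := rank_pow_sum N q
  have h2 := rank_pow_eq N q
  rw [hN, LinearMap.range_zero, finrank_bot, zero_add] at h2
  have hk0 : kdim N 0 = finrank k V - finrank k ↥(LinearMap.range N) := by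
    have := rank_pow_eq N 0
    rw [pow_zero, pow_one, Module.End.one_eq_id, LinearMap.range_id, finrank_top] at this
    omega
  have hup : ∑ i ∈ Finset.range q, kdim N i ≤ q * kdim N 0 := by
    simpa using Finset.sum_le_card_nsmul (Finset.range q) _ _ fun i _ => kdim_antitone N (Nat.zero_le i)
  have hlow : q * kdim N q ≤ ∑ i ∈ Finset.range q, kdim N i := by
    simpa using Finset.card_nsmul_le_sum (Finset.range q) (kdim N) _
      fun i hi => kdim_antitone N (Finset.mem_range.1 hi).le
  have hlow' : q * kdim N q ≤ finrank k ↥(LinearMap.range N) := by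
    have h3 := rank_pow_sum N (q + 1)
    rw [hN, LinearMap.range_zero, finrank_bot, zero_add, Finset.sum_range_succ'] at h3
    have hlow2 : q * kdim N q ≤ ∑ i ∈ Finset.range q, kdim N (i + 1) := by
      simpa using Finset.card_nsmul_le_sum (Finset.range q) (fun i => kdim N (i + 1)) _
        fun i hi => kdim_antitone N (Finset.mem_range.1 hi)
    omega
  rw [h2, ← hk0]
  refine ⟨by omega, hlow', ?_⟩
  rw [Nat.add_mul, one_mul]
  omega

end Nilpotent

section Reduction

variable {K : Type*} [Field K] (O : ValuationSubring K)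

open IsLocalRing

/-- Vectors with independent reductions are independent. -/
theorem linearIndependent_of_residue {ι n : Type*} [Fintype ι] (v : ι → n → O)
    (h : LinearIndependent (ResidueField O) fun i j => residue O (v i j)) :
    LinearIndependent K fun i j => (v i j : K) := by
  rw [Fintype.linearIndependent_iff] at h ⊢
  intro g hg
  by_contra hne
  push Not at hne
  obtain ⟨i₁, hi₁⟩ := hne
  obtain ⟨i₀, -, hmax⟩ := Finset.exists_max_image Finset.univ (fun i => O.valuation (g i))
    ⟨i₁, Finset.mem_univ _⟩
  have hg0 : g i₀ ≠ 0 := by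
    intro h0
    have := hmax i₁ (Finset.mem_univ _)
    rw [h0, map_zero] at this
    exact hi₁ ((map_eq_zero O.valuation).1 (le_antisymm this zero_le))
  have hmem : ∀ i, g i / g i₀ ∈ O := fun i => by
    rw [← O.valuation_le_one_iff, map_div₀]
    exact div_le_one_of_le₀ (hmax i (Finset.mem_univ _)) zero_le
  have h0 := h (fun i => residue O ⟨g i / g i₀, hmem i⟩) (by
    funext j
    simp only [Finset.sum_apply, Pi.smul_apply, smul_eq_mul, ← map_mul, ← map_sum, Pi.zero_apply]
    rw [show (∑ i, (⟨g i / g i₀, hmem i⟩ : O) * v i j) = 0 from ?_, map_zero]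
    apply Subtype.ext
    push_cast
    have hj := congrFun hg j
    simp only [Finset.sum_apply, Pi.smul_apply, smul_eq_mul, Pi.zero_apply] at hj
    calc ∑ i, g i / g i₀ * (v i j : K) = (g i₀)⁻¹ * ∑ i, g i * (v i j : K) := by
          rw [Finset.mul_sum]; exact Finset.sum_congr rfl fun i _ => by ring
      _ = 0 := by rw [hj, mul_zero]) i₀
  rw [show (⟨g i₀ / g i₀, hmem i₀⟩ : O) = 1 from Subtype.ext (div_self hg0), map_one] at h0
  exact one_ne_zero h0

/-- The rank does not increase under reduction. -/
theorem rank_residue_le {m n : Type*} [Fintype m] [Fintype n] (A : Matrix m n O) :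
    (A.map (residue O)).rank ≤ (A.map (fun x => (x : K))).rank := by
  classical
  rw [Matrix.rank_eq_finrank_span_cols, Matrix.rank_eq_finrank_span_cols]
  obtain ⟨b, hb, hspan, hli⟩ := exists_linearIndependent (ResidueField O)
    (Set.range (A.map (residue O)).col)
  rw [← hspan]
  have hfin : Fintype b := ((Set.finite_range _).subset hb).fintype
  rw [finrank_span_set_eq_card hli, Set.toFinset_card]
  choose c hc using fun x : b => hb x.2
  have hli' : LinearIndependent K fun (x : b) (i : m) => ((A i (c x) : O) : K) := by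
    refine linearIndependent_of_residue O (fun x i => A i (c x)) ?_
    rw [show (fun (x : b) (i : m) => residue O (A i (c x))) = ((↑) : b → (m → ResidueField O)) from
      funext fun x => hc x]
    exact hli
  calc Fintype.card b = finrank K ↥(Submodule.span K
        (Set.range fun (x : b) (i : m) => ((A i (c x) : O) : K))) :=
        (finrank_span_eq_card hli').symm
    _ ≤ _ := Submodule.finrank_mono (Submodule.span_mono (by
        rintro _ ⟨x, rfl⟩
        exact ⟨c x, rfl⟩))

end Reduction

end Cfsg.Agent.H31.Defect
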