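import Mathlib
import Cfsg.Agent.H31.Defect.TraceRank

/-!
Matrices of order `p` over a valuation ring with residue characteristic `p`: the trace of an
idempotent commuting with one is controlled by the Tate cohomology of the reduction.
-/

set_option autoImplicit false
set_option linter.unusedSectionVars false

namespace Cfsg.Agent.H31.Defect

open Module IsLocalRing Matrix

variable {K : Type*} [Field K] {O : ValuationSubring K} {p : ℕ} [hp : Fact p.Prime]
variable {n : Type*} [Fintype n] [DecidableEq n]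

/-- A matrix of order dividing `p` over `O`. -/
structure OrderP (O : ValuationSubring K) (p : ℕ) (Z : Matrix n n O) : Prop where
  mem : (p : O) ∈ maximalIdeal O
  pow : Z ^ p = 1

theorem OrderP.charP {Z : Matrix n n O} (h : OrderP O p Z) : CharP (ResidueField O) p :=
  (CharP.charP_iff_prime_eq_zero hp.out).2 (by
    rw [← map_natCast (residue O), residue_eq_zero_iff]
    exact h.mem)

/-- Reduction of matrices. -/
noncomputable def red (O : ValuationSubring K) (n : Type*) [Fintype n] [DecidableEq n] :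
    Matrix n n O →+* Matrix n n (ResidueField O) := (residue O).mapMatrix

/-- Matrices over `O` as matrices over `K`. -/
def toK (O : ValuationSubring K) (n : Type*) [Fintype n] [DecidableEq n] :
    Matrix n n O →+* Matrix n n K := O.subtype.mapMatrix

/-- The image of `Z - 1` on the reduction. -/
noncomputable def imN (Z : Matrix n n O) : Submodule (ResidueField O) (n → ResidueField O) :=
  LinearMap.range (Matrix.toLin' (red O n Z - 1))

/-- The kernel of the trace on the reduction. -/
noncomputable def kerT (p : ℕ) (Z : Matrix n n O) :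
    Submodule (ResidueField O) (n → ResidueField O) :=
  LinearMap.ker (Matrix.toLin' ((red O n Z - 1) ^ (p - 1)))

/-- Killing the Tate cohomology of the reduction. -/
def Kills (p : ℕ) (Z A : Matrix n n O) : Prop :=
  ∀ v ∈ kerT p Z, Matrix.toLin' (red O n A) v ∈ imN Z

theorem OrderP.red_pow {Z : Matrix n n O} (h : OrderP O p Z) : red O n Z ^ p = 1 := by
  rw [← map_pow, h.pow, map_one]

theorem OrderP.sub_one_pow {Z : Matrix n n O} (h : OrderP O p Z) : (red O n Z - 1) ^ p = 0 := by
  have := h.charP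
  rcases isEmpty_or_nonempty n with hn | hn
  · exact Subsingleton.elim _ _
  rw [sub_pow_char_of_commute (p := p) (Commute.one_right _), h.red_pow, one_pow, sub_self]

theorem OrderP.trace_eq {Z : Matrix n n O} (h : OrderP O p Z) :
    ∑ i ∈ Finset.range p, red O n Z ^ i = (red O n Z - 1) ^ (p - 1) := by
  have := h.charP
  have key : ∑ i ∈ Finset.range p, (Polynomial.X : Polynomial (ResidueField O)) ^ i =
      (Polynomial.X - 1) ^ (p - 1) := by
    refine mul_right_cancel₀ (b := (Polynomial.X - 1 : Polynomial (ResidueField O)))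
      (Polynomial.X_sub_C_ne_zero 1) ?_
    rw [geom_sum_mul, ← pow_succ, Nat.sub_add_cancel hp.out.one_le, sub_pow_char, one_pow]
  have := congrArg (Polynomial.aeval (red O n Z)) key
  simpa using this

theorem imN_le_kerT {Z : Matrix n n O} (h : OrderP O p Z) : imN Z ≤ kerT p Z := by
  rintro _ ⟨v, rfl⟩
  rw [kerT, LinearMap.mem_ker, ← LinearMap.comp_apply, ← Matrix.toLin'_mul, ← pow_succ,
    Nat.sub_add_cancel hp.out.one_le, h.sub_one_pow, map_zero, LinearMap.zero_apply]

/-- The dimension of the Tate cohomology of the reduction. -/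
noncomputable def hdim (p : ℕ) (Z : Matrix n n O) : ℕ :=
  finrank (ResidueField O) ↥(kerT p Z) - finrank (ResidueField O) ↥(imN Z)

/-- Ranks for the reduction restricted to the range of a commuting idempotent. -/
theorem idem_bounds {Z π : Matrix n n O} (h : OrderP O p Z) (hπ : π * π = π)
    (hc : Commute π Z) :
    let W := ((red O n Z - 1) ^ (p - 1) * red O n π).rank
    let r := (red O n π).rank
    let r₁ := ((red O n Z - 1) * red O n π).rank
    (p - 1) * W ≤ r₁ ∧ r₁ ≤ r ∧ ∃ η : ℕ, r ≤ W + (p - 1) * (W + η) ∧ r ≤ r₁ + W + η ∧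
      η ≤ hdim p Z ∧ (Kills p Z π → η = 0) := by
  classical
  intro W r r₁
  set Nm := red O n Z - 1 with hNm
  set Nl := Matrix.toLin' Nm with hNl
  set πl := Matrix.toLin' (red O n π) with hπl
  have hcl : Commute (red O n π) Nm := (hc.map (red O n)).sub_right (Commute.one_right _)
  have hππ : ∀ v, πl (πl v) = πl v := fun v => by
    rw [hπl, ← LinearMap.comp_apply, ← Matrix.toLin'_mul, ← map_mul, hπ]
  have hcomm : ∀ v, πl (Nl v) = Nl (πl v) := fun v => by
    rw [hπl, hNl, ← LinearMap.comp_apply, ← Matrix.toLin'_mul, hcl.eq, Matrix.toLin'_mul,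
      LinearMap.comp_apply]
  set R := LinearMap.range πl with hR
  have hmaps : ∀ v ∈ R, Nl v ∈ R := by
    rintro _ ⟨u, rfl⟩
    exact ⟨Nl u, hcomm u⟩
  set N' : R →ₗ[ResidueField O] R := Nl.restrict hmaps with hN'
  have hpow : ∀ (j : ℕ) (v : R), ((N' ^ j) v : n → ResidueField O) = Matrix.toLin' (Nm ^ j) v := by
    intro j
    induction j with
    | zero => intro v; simp
    | succ j ih =>
      intro v
      rw [pow_succ, pow_succ, Module.End.mul_apply, ih, Matrix.toLin'_mul, LinearMap.comp_apply]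
      rfl
  have hrank : ∀ j : ℕ, finrank (ResidueField O) ↥(LinearMap.range (N' ^ j)) = (Nm ^ j * red O n π).rank := by
    intro j
    rw [Matrix.rank, ← Submodule.finrank_map_subtype_eq R, ← Matrix.toLin'_apply', Matrix.toLin'_mul,
      LinearMap.range_comp]
    suffices e : (LinearMap.range (N' ^ j)).map R.subtype =
        R.map (Matrix.toLin' (Nm ^ j)) by rw [e]
    ext x
    constructor
    · rintro ⟨_, ⟨v, rfl⟩, rfl⟩
      exact ⟨v.1, v.2, (hpow j v).symm⟩
    · rintro ⟨v, hv, rfl⟩
      exact ⟨_, ⟨⟨v, hv⟩, rfl⟩, hpow j _⟩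
  have hrR : finrank (ResidueField O) ↥R = r := by rw [hR, hπl, Matrix.toLin'_apply']; rfl
  have hN'p : N' ^ p = 0 := LinearMap.ext fun v => Subtype.ext (by
    rw [hpow, h.sub_one_pow, map_zero]; rfl)
  obtain ⟨b1, b2, -⟩ := rank_bounds N' hp.out.one_le hN'p
  rw [hrank, hrR] at b1
  have e1 : finrank (ResidueField O) ↥(LinearMap.range N') = r₁ := by
    have := hrank 1
    rwa [pow_one, pow_one] at this
  rw [hrank, e1] at b2
  rw [e1] at b1
  have hle : r₁ ≤ r := by rw [← e1, ← hrR]; exact Submodule.finrank_le _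
  -- the part of the kernel of the trace in `R`
  set A := R ⊓ kerT p Z with hA
  have hkerA : finrank (ResidueField O) ↥(LinearMap.ker (N' ^ (p - 1))) = finrank (ResidueField O) ↥A := by
    rw [← Submodule.finrank_map_subtype_eq R]
    suffices e : (LinearMap.ker (N' ^ (p - 1))).map R.subtype = A by rw [e]
    ext x
    constructor
    · rintro ⟨v, hv, rfl⟩
      refine ⟨v.2, ?_⟩
      rw [kerT]
      change Matrix.toLin' (Nm ^ (p - 1)) (v : n → ResidueField O) = 0
      rw [← hpow, LinearMap.mem_ker.1 hv]; rfl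
    · rintro ⟨hxR, hx⟩
      refine ⟨⟨x, hxR⟩, LinearMap.mem_ker.2 (Subtype.ext ?_), rfl⟩
      rw [hpow]
      exact hx
  have hAim : finrank (ResidueField O) ↥(A ⊓ imN Z) = r₁ := by
    rw [← e1, ← Submodule.finrank_map_subtype_eq R]
    suffices e : (LinearMap.range N').map R.subtype = A ⊓ imN Z by rw [e]
    ext x
    symm
    constructor
    · rintro ⟨⟨hxR, -⟩, u, hu⟩
      refine ⟨N' ⟨πl u, u, rfl⟩, ⟨_, rfl⟩, ?_⟩
      obtain ⟨w, rfl⟩ := hxR
      show Nl (πl u) = πl w
      rw [← hcomm, hNl, hu, hππ]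
    · rintro ⟨_, ⟨v, rfl⟩, rfl⟩
      exact ⟨⟨(N' v).2, imN_le_kerT h ⟨(v : n → ResidueField O), rfl⟩⟩, ⟨(v : n → ResidueField O), rfl⟩⟩
  have hker := LinearMap.finrank_range_add_finrank_ker (N' ^ (p - 1))
  rw [hrank, hrR, hkerA] at hker
  have hAle : r₁ ≤ finrank (ResidueField O) ↥A := by rw [← hAim]; exact Submodule.finrank_mono inf_le_left
  change W + finrank (ResidueField O) ↥A = r at hker
  refine ⟨b2, hle, finrank (ResidueField O) ↥A - r₁, ?_, by omega, ?_, ?_⟩
  · rw [show W + (finrank (ResidueField O) ↥A - r₁) = r - r₁ by omega]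
    exact b1
  · have h1 := Submodule.finrank_sup_add_finrank_inf_eq A (imN Z)
    have h2 : finrank (ResidueField O) ↥(A ⊔ imN Z) ≤ finrank (ResidueField O) ↥(kerT p Z) :=
      Submodule.finrank_mono (sup_le (inf_le_right : A ≤ kerT p Z) (imN_le_kerT h))
    have h3 : finrank (ResidueField O) ↥(imN Z) ≤ finrank (ResidueField O) ↥(A ⊔ imN Z) := Submodule.finrank_mono le_sup_right
    rw [hAim] at h1
    unfold hdim
    omega
  · intro hk
    have hAI : A ≤ imN Z := by
      rintro x ⟨hxR, hx⟩
      obtain ⟨u, rfl⟩ := hxR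
      have := hk _ hx
      rwa [show Matrix.toLin' (red O n π) (πl u) = πl u from hππ u] at this
    rw [← hAim, inf_eq_left.2 hAI, Nat.sub_self]

/-- The rank of an idempotent is its trace. -/
theorem trace_idem {A : Matrix n n K} (hA : A * A = A) : A.trace = (A.rank : K) := by
  have hp' : LinearMap.IsProj (LinearMap.range (Matrix.toLin' A)) (Matrix.toLin' A) := by
    refine ⟨fun x => ⟨x, rfl⟩, ?_⟩
    rintro _ ⟨x, rfl⟩
    rw [← LinearMap.comp_apply, ← Matrix.toLin'_mul, hA]
  rw [← Matrix.trace_toLin'_eq A, hp'.trace, Matrix.rank, Matrix.toLin'_apply']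

/-- Idempotents have the same rank before and after reduction. -/
theorem rank_red_idem [CharZero K] {π : Matrix n n O} (hπ : π * π = π) :
    (red O n π).rank = (toK O n π).rank := by
  have h1 : (red O n π).rank ≤ (toK O n π).rank := rank_residue_le O π
  have h2 : (red O n (1 - π)).rank ≤ (toK O n (1 - π)).rank := rank_residue_le O (1 - π)
  have hπ' : (1 - π) * (1 - π) = 1 - π := by
    rw [sub_mul, mul_sub, mul_sub, hπ, one_mul, one_mul, mul_one, sub_self, sub_zero]
  have h3 : (toK O n π).rank + (toK O n (1 - π)).rank = Fintype.card n := by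
    have e1 := trace_idem (A := toK O n π) (by rw [← map_mul, hπ])
    have e2 := trace_idem (A := toK O n (1 - π)) (by rw [← map_mul, hπ'])
    rw [map_sub, map_one, Matrix.trace_sub, Matrix.trace_one, e1] at e2
    have : (((toK O n π).rank + (toK O n (1 - π)).rank : ℕ) : K) = (Fintype.card n : K) := by
      push_cast [map_sub, map_one]; rw [← e2]; ring
    exact_mod_cast this
  have h4 : Fintype.card n ≤ (red O n π).rank + (red O n (1 - π)).rank := by
    have hs := Submodule.finrank_add_le_finrank_add_finrank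
      (LinearMap.range (red O n π).mulVecLin) (LinearMap.range (red O n (1 - π)).mulVecLin)
    have htop : LinearMap.range (red O n π).mulVecLin ⊔ LinearMap.range (red O n (1 - π)).mulVecLin = ⊤ := by
      rw [eq_top_iff]
      intro v _
      rw [show v = (red O n π).mulVecLin v + (red O n (1 - π)).mulVecLin v by
        rw [Matrix.mulVecLin_apply, Matrix.mulVecLin_apply, ← Matrix.add_mulVec, ← map_add,
          add_sub_cancel, map_one, Matrix.one_mulVec]]
      exact add_mem (Submodule.mem_sup_left ⟨v, rfl⟩) (Submodule.mem_sup_right ⟨v, rfl⟩)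
    rw [htop, finrank_top, Module.finrank_fintype_fun_eq_card] at hs
    exact hs
  omega

/-- Multiplying the eigenvalue sum by `Z`. -/
theorem mul_geom_twist {R : Type*} [Ring R] {Z : R} {p : ℕ} (hZ : Z ^ p = 1) :
    Z * ∑ i ∈ Finset.range p, Z ^ i = ∑ i ∈ Finset.range p, Z ^ i := by
  have h := mul_geom_sum Z p
  rw [hZ, sub_self, sub_mul, one_mul, sub_eq_zero] at h
  exact h

theorem sq_geom_twist {R : Type*} [Ring R] {Z : R} {p : ℕ} (hZ : Z ^ p = 1) :
    (∑ i ∈ Finset.range p, Z ^ i) * (∑ i ∈ Finset.range p, Z ^ i) =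
      p • ∑ i ∈ Finset.range p, Z ^ i := by
  have h : ∀ i, Z ^ i * (∑ j ∈ Finset.range p, Z ^ j) = ∑ j ∈ Finset.range p, Z ^ j := by
    intro i
    induction i with
    | zero => rw [pow_zero, one_mul]
    | succ i ih => rw [pow_succ, mul_assoc, mul_geom_twist hZ, ih]
  rw [Finset.sum_mul, Finset.sum_congr rfl fun i _ => h i, Finset.sum_const, Finset.card_range]

/-- The averaged operator `p⁻¹ (1 + Y + ⋯)` attached to a root-of-unity twist `Y` of `Z`. -/
theorem twist_idem [CharZero K] {Y P : Matrix n n K} (hY : Y ^ p = 1) (hP : P * P = P)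
    (hc : Commute P Y) :
    let E := (p : K)⁻¹ • ((∑ i ∈ Finset.range p, Y ^ i) * P)
    E * E = E := by
  intro E
  simp only [E, smul_mul_smul_comm]
  have hcs : Commute P (∑ i ∈ Finset.range p, Y ^ i) :=
    Commute.sum_right _ _ _ fun i _ => hc.pow_right i
  rw [show ((∑ i ∈ Finset.range p, Y ^ i) * P) * ((∑ i ∈ Finset.range p, Y ^ i) * P) =
    ((∑ i ∈ Finset.range p, Y ^ i) * (∑ i ∈ Finset.range p, Y ^ i)) * (P * P) by
      rw [mul_assoc, ← mul_assoc P, hcs.eq]; simp only [mul_assoc], hP, sq_geom_twist hY,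
    smul_mul_assoc, ← Nat.cast_smul_eq_nsmul K, smul_smul]
  congr 1
  field_simp [(by exact_mod_cast hp.out.ne_zero : (p : K) ≠ 0)]

/-- The trace of a commuting idempotent is bounded by the cohomology. -/
theorem trace_bound [CharZero K] {Z π : Matrix n n O} (h : OrderP O p Z) (hπ : π * π = π)
    (hc : Commute π Z) {c : ℤ} (htr : ∀ i ∈ Finset.range p, i ≠ 0 →
      (toK O n (Z ^ i * π)).trace = (c : K)) :
    |c| ≤ (hdim p Z : ℤ) ∧ (Kills p Z π → c = 0) := by
  classical
  obtain ⟨b2, hle, η, b1, b3, hη, hk⟩ := idem_bounds h hπ hc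
  set W := ((red O n Z - 1) ^ (p - 1) * red O n π).rank with hW
  set r := (red O n π).rank with hr
  set r₁ := ((red O n Z - 1) * red O n π).rank with hr₁
  have hp0 : (p : K) ≠ 0 := by exact_mod_cast hp.out.ne_zero
  set S := (∑ i ∈ Finset.range p, toK O n Z ^ i) * toK O n π with hS
  set E := (p : K)⁻¹ • S with hE
  have hZK : toK O n Z ^ p = 1 := by rw [← map_pow, h.pow, map_one]
  have hEE : E * E = E := twist_idem hZK (by rw [← map_mul, hπ]) (hc.map (toK O n))
  have hcK : Commute (toK O n π) (toK O n Z) := hc.map (toK O n)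
  set v₀ := E.rank with hv₀
  have hWv : W ≤ v₀ := by
    have hS' : S = toK O n ((∑ i ∈ Finset.range p, Z ^ i) * π) := by
      rw [hS, map_mul, map_sum]; simp only [map_pow]
    have hred : red O n ((∑ i ∈ Finset.range p, Z ^ i) * π) =
        (red O n Z - 1) ^ (p - 1) * red O n π := by
      rw [map_mul, map_sum, ← h.trace_eq]; simp only [map_pow]
    calc W ≤ (toK O n ((∑ i ∈ Finset.range p, Z ^ i) * π)).rank := by
          rw [hW, ← hred]; exact rank_residue_le O _
      _ = v₀ := by rw [← hS', hv₀, hE, Matrix.rank_smul_of_mem_nonZeroDivisors _ (mem_nonZeroDivisors_of_ne_zero (inv_ne_zero hp0))]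
  have hrK : (toK O n π).rank = r := (rank_red_idem hπ).symm
  have hPE : (toK O n π - E) * (toK O n π - E) = toK O n π - E := by
    have e1 : toK O n π * E = E := by
      rw [hE, hS, mul_smul_comm, ← mul_assoc, (Commute.sum_right _ _ _ fun i _ =>
        hcK.pow_right i).eq, mul_assoc, ← map_mul, hπ]
    have e2 : E * toK O n π = E := by
      rw [hE, hS, smul_mul_assoc, mul_assoc, ← map_mul, hπ]
    rw [sub_mul, mul_sub, mul_sub, e1, e2, hEE, ← map_mul, hπ, sub_self, sub_zero]
  have hr1v : r₁ + v₀ ≤ r := by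
    have hsum : ((toK O n π - E).rank : K) + (v₀ : K) = (r : K) := by
      rw [← trace_idem hPE, hv₀, ← trace_idem hEE, ← hrK,
        ← trace_idem (A := toK O n π) (by rw [← map_mul, hπ]), Matrix.trace_sub]
      ring
    have hsum' : (toK O n π - E).rank + v₀ = r := by exact_mod_cast hsum
    have hfac : toK O n ((Z - 1) * π) = (toK O n Z - 1) * (toK O n π - E) := by
      rw [map_mul, map_sub, map_one, mul_sub]
      have : (toK O n Z - 1) * E = 0 := by
        rw [hE, hS, mul_smul_comm, ← mul_assoc, sub_mul, one_mul, mul_geom_twist hZK, sub_self,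
          zero_mul, smul_zero]
      rw [this, sub_zero]
    have : r₁ ≤ (toK O n π - E).rank := by
      calc r₁ ≤ (toK O n ((Z - 1) * π)).rank := by
            rw [hr₁, show (red O n Z - 1) * red O n π = red O n ((Z - 1) * π) by
              rw [map_mul, map_sub, map_one]]
            exact rank_residue_le O _
        _ ≤ _ := by rw [hfac]; exact Matrix.rank_mul_le_right _ _
    omega
  -- trace of `E`
  have htrE : (p : K) * (v₀ : K) = (r : K) + ((p - 1 : ℕ) : K) * (c : K) := by
    rw [hv₀, ← trace_idem hEE, hE, Matrix.trace_smul, smul_eq_mul, ← mul_assoc,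
      mul_inv_cancel₀ hp0, one_mul, hS, Finset.sum_mul, Matrix.trace_sum,
      ← Finset.add_sum_erase _ _ (Finset.mem_range.2 hp.out.pos), pow_zero, one_mul,
      trace_idem (A := toK O n π) (by rw [← map_mul, hπ]), hrK]
    congr 1
    rw [Finset.sum_congr rfl (g := fun _ => (c : K)) fun i hi => ?_, Finset.sum_const,
      Finset.card_erase_of_mem (Finset.mem_range.2 hp.out.pos), Finset.card_range, nsmul_eq_mul]
    rw [← map_pow, ← map_mul]
    exact htr i (Finset.mem_of_mem_erase hi) (Finset.ne_of_mem_erase hi)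
  have htrE' : (p : ℤ) * (v₀ : ℤ) = (r : ℤ) + ((p - 1 : ℕ) : ℤ) * c := by exact_mod_cast htrE
  obtain ⟨q, hq⟩ : ∃ q, p = q + 1 := ⟨p - 1, by have := hp.out.pos; omega⟩
  have hq1 : 1 ≤ q := by have := hp.out.two_le; omega
  have hpq : (p - 1 : ℕ) = q := by omega
  rw [hpq] at htrE' b1 b2
  rw [hq] at htrE'
  push_cast at htrE'
  -- `r - v₀ = q (v₀ - c)`
  have key : (r : ℤ) - v₀ = (q : ℤ) * ((v₀ : ℤ) - c) := by linear_combination -htrE'
  have c1 : (W : ℤ) ≤ (v₀ : ℤ) - c := by
    refine le_of_mul_le_mul_left (a := (q : ℤ)) ?_ (by exact_mod_cast hq1)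
    rw [← key]
    have : q * W + v₀ ≤ r := by omega
    have : ((q * W + v₀ : ℕ) : ℤ) ≤ (r : ℤ) := by exact_mod_cast this
    push_cast at this
    linarith
  have c2 : (v₀ : ℤ) - c ≤ (W : ℤ) + η := by
    refine le_of_mul_le_mul_left (a := (q : ℤ)) ?_ (by exact_mod_cast hq1)
    rw [← key]
    have : ((r : ℕ) : ℤ) ≤ ((W + q * (W + η) : ℕ) : ℤ) := by exact_mod_cast b1
    push_cast at this
    have : (W : ℤ) ≤ v₀ := by exact_mod_cast hWv
    linarith
  have c3 : (v₀ : ℤ) ≤ (W : ℤ) + η := by
    have : v₀ ≤ W + η := by omega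
    exact_mod_cast this
  have hWv' : (W : ℤ) ≤ v₀ := by exact_mod_cast hWv
  refine ⟨abs_le.2 ⟨?_, ?_⟩, fun hK => ?_⟩
  · have : (η : ℤ) ≤ hdim p Z := by exact_mod_cast hη
    linarith
  · have : (η : ℤ) ≤ hdim p Z := by exact_mod_cast hη
    linarith
  · have := hk hK
    subst this
    push_cast at c2 c3
    linarith

/-- An idempotent killing the cohomology has vanishing twisted traces. -/
theorem trace_eq_zero [CharZero K] {Z π : Matrix n n O} (h : OrderP O p Z) (hπ : π * π = π)
    (hc : Commute π Z) (hk : Kills p Z π) {ζ : O} (hζ : IsPrimitiveRoot (ζ : K) p) {j : ℕ}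
    (hj : ¬ p ∣ j) : (toK O n (Z ^ j * π)).trace = 0 := by
  classical
  obtain ⟨-, -, η, b1, -, -, hη⟩ := idem_bounds h hπ hc
  rw [hη hk, add_zero] at b1
  set W := ((red O n Z - 1) ^ (p - 1) * red O n π).rank with hW
  set r := (red O n π).rank with hr
  have hp0 : (p : K) ≠ 0 := by exact_mod_cast hp.out.ne_zero
  have hζO : ζ ^ p = 1 := Subtype.ext (by push_cast; exact hζ.pow_eq_one)
  have hζr : residue O ζ = 1 := by
    have := h.charP
    have e : (residue O ζ - 1) ^ p = 0 := by
      rw [sub_pow_char, one_pow, ← map_pow, hζO, map_one, sub_self]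
    exact sub_eq_zero.1 (pow_eq_zero_iff hp.out.ne_zero |>.1 e)
  let Y : ℕ → Matrix n n O := fun k => ζ ^ k • Z
  have hYp : ∀ k, Y k ^ p = 1 := fun k => by
    simp only [Y]
    rw [smul_pow, h.pow, ← pow_mul, mul_comm, pow_mul, hζO, one_pow, one_smul]
  have hcY : ∀ k, Commute π (Y k) := fun k => hc.smul_right _
  let E : ℕ → Matrix n n K := fun k =>
    (p : K)⁻¹ • ((∑ i ∈ Finset.range p, toK O n (Y k) ^ i) * toK O n π)
  have hEE : ∀ k, E k * E k = E k := fun k => twist_idem
    (by rw [← map_pow, hYp k, map_one]) (by rw [← map_mul, hπ]) ((hcY k).map (toK O n))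
  have hWE : ∀ k, W ≤ (E k).rank := by
    intro k
    have hred : red O n ((∑ i ∈ Finset.range p, Y k ^ i) * π) =
        (red O n Z - 1) ^ (p - 1) * red O n π := by
      have hY : red O n (Y k) = red O n Z := by
        ext a b
        simp [red, Y, hζr]
      rw [map_mul, map_sum, ← h.trace_eq]; simp only [map_pow, hY]
    calc W ≤ (toK O n ((∑ i ∈ Finset.range p, Y k ^ i) * π)).rank := by
          rw [hW, ← hred]; exact rank_residue_le O _
      _ = (E k).rank := by
        simp only [E]
        rw [Matrix.rank_smul_of_mem_nonZeroDivisors _ (mem_nonZeroDivisors_of_ne_zero (inv_ne_zero hp0)), map_mul, map_sum]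
        simp only [map_pow]
  have hexp : ∀ k i, (toK O n (Y k) ^ i * toK O n π).trace =
      ((ζ : K) ^ k) ^ i * (toK O n (Z ^ i * π)).trace := by
    intro k i
    have e : toK O n (Y k ^ i * π) = ((ζ : K) ^ k) ^ i • toK O n (Z ^ i * π) := by
      simp only [Y, smul_pow, smul_mul_assoc]
      ext a b
      simp [toK, Matrix.map_apply]
    rw [← map_pow, ← map_mul, e, Matrix.trace_smul, smul_eq_mul]
  have htr : ∀ k, ((E k).rank : K) =
      (p : K)⁻¹ * ∑ i ∈ Finset.range p, ((ζ : K) ^ k) ^ i * (toK O n (Z ^ i * π)).trace := by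
    intro k
    rw [← trace_idem (hEE k)]
    simp only [E, Matrix.trace_smul, smul_eq_mul, Finset.sum_mul, Matrix.trace_sum, hexp]
  have horth : ∀ i ∈ Finset.range p, ∑ k ∈ Finset.range p, ((ζ : K) ^ k) ^ i =
      if i = 0 then (p : K) else 0 := by
    intro i hi
    split_ifs with h0
    · subst h0; simp
    · have hne : (ζ : K) ^ i ≠ 1 := hζ.pow_ne_one_of_pos_of_lt h0 (Finset.mem_range.1 hi)
      simp only [← pow_mul, mul_comm _ i]
      simp only [pow_mul]
      rw [geom_sum_eq hne, ← pow_mul, mul_comm, pow_mul, hζ.pow_eq_one, one_pow, sub_self,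
        zero_div]
  have hsum : (∑ k ∈ Finset.range p, ((E k).rank : K)) = (r : K) := by
    rw [Finset.sum_congr rfl fun k _ => htr k, ← Finset.mul_sum, Finset.sum_comm]
    simp only [← Finset.sum_mul]
    rw [Finset.sum_congr rfl fun i hi => by rw [horth i hi],
      Finset.sum_eq_single_of_mem 0 (Finset.mem_range.2 hp.out.pos)
        (fun i _ hi => by rw [if_neg hi, zero_mul]), if_pos rfl, pow_zero, one_mul,
      trace_idem (by rw [← map_mul, hπ]), ← rank_red_idem hπ, ← mul_assoc, inv_mul_cancel₀ hp0,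
      one_mul]
  have hsum' : ∑ k ∈ Finset.range p, (E k).rank = r := by exact_mod_cast hsum
  have hall : ∀ k ∈ Finset.range p, (E k).rank = W := by
    intro k hk'
    refine le_antisymm ?_ (hWE k)
    by_contra hlt
    have hlt' : ∑ _k ∈ Finset.range p, W < ∑ k ∈ Finset.range p, (E k).rank :=
      Finset.sum_lt_sum (fun k _ => hWE k) ⟨k, hk', not_le.1 hlt⟩
    rw [hsum', Finset.sum_const, Finset.card_range, smul_eq_mul] at hlt'
    obtain ⟨q, hq⟩ : ∃ q, p = q + 1 := ⟨p - 1, by have := hp.out.pos; omega⟩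
    rw [show p - 1 = q by omega] at b1
    rw [hq, Nat.add_mul, one_mul] at hlt'
    omega
  -- invert
  set l := j % p with hl
  have hl0 : l ≠ 0 := fun e => hj (Nat.dvd_of_mod_eq_zero e)
  have hlp : l < p := Nat.mod_lt _ hp.out.pos
  have key : (toK O n (Z ^ l * π)).trace =
      ∑ k ∈ Finset.range p, ((ζ : K) ^ k) ^ (p - l) * ((E k).rank : K) := by
    rw [Finset.sum_congr rfl fun k _ => by rw [htr k, Finset.mul_sum, Finset.mul_sum],
      Finset.sum_comm, Finset.sum_eq_single_of_mem l (Finset.mem_range.2 hlp)]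
    · have e : ∀ k : ℕ, ((ζ : K) ^ k) ^ (p - l) * ((ζ : K) ^ k) ^ l = 1 := fun k => by
        rw [← pow_add, Nat.sub_add_cancel hlp.le, ← pow_mul, mul_comm, pow_mul, hζ.pow_eq_one,
          one_pow]
      have e2 : ∀ k : ℕ, ((ζ : K) ^ k) ^ (p - l) *
          ((p : K)⁻¹ * (((ζ : K) ^ k) ^ l * (toK O n (Z ^ l * π)).trace)) =
          (p : K)⁻¹ * (toK O n (Z ^ l * π)).trace := fun k => by
        rw [mul_left_comm, ← mul_assoc _ (((ζ : K) ^ k) ^ l), e k, one_mul]
      rw [Finset.sum_congr rfl fun k _ => e2 k, Finset.sum_const, Finset.card_range, nsmul_eq_mul,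
        ← mul_assoc, mul_inv_cancel₀ hp0, one_mul]
    · intro i hi hne
      have e : ∀ k : ℕ, ((ζ : K) ^ k) ^ (p - l) *
          ((p : K)⁻¹ * (((ζ : K) ^ k) ^ i * (toK O n (Z ^ i * π)).trace)) =
          ((p : K)⁻¹ * (toK O n (Z ^ i * π)).trace) * ((ζ : K) ^ k) ^ ((p - l + i) % p) := fun k => by
        have hk1 : ((ζ : K) ^ k) ^ p = 1 := by
          rw [← pow_mul, mul_comm, pow_mul, hζ.pow_eq_one, one_pow]
        rw [← pow_eq_pow_mod _ hk1, pow_add]; ring
      rw [Finset.sum_congr rfl fun k _ => e k, ← Finset.mul_sum,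
        horth _ (Finset.mem_range.2 (Nat.mod_lt _ hp.out.pos)), if_neg ?_, mul_zero]
      intro h0
      rw [Finset.mem_range] at hi
      obtain ⟨c, hc'⟩ := Nat.dvd_of_mod_eq_zero h0
      rcases c with _ | _ | c
      · omega
      · omega
      · rw [Nat.mul_add, Nat.mul_add] at hc'; omega
  rw [← Nat.div_add_mod j p, pow_add, pow_mul, h.pow, one_pow, one_mul, ← hl, key,
    Finset.sum_congr rfl fun k hk' => by rw [hall k hk'], ← Finset.sum_mul,
    horth _ (Finset.mem_range.2 (by omega)), if_neg (by omega), zero_mul]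

end Cfsg.Agent.H31.Defect
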