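import Mathlib
import Cfsg.Agent.H31.Defect.Bounds

/-!
Over an unramified valuation ring every block-diagonal map of the Tate cohomology of a lattice
is induced by an endomorphism commuting with the generator of order `p`.
-/

set_option autoImplicit false
set_option linter.unusedSectionVars false

namespace Cfsg.Agent.H31.Defect

open Module IsLocalRing Matrix

variable {K : Type*} [Field K] {O : ValuationSubring K} {p : ℕ} [hp : Fact p.Prime]
variable {n : Type*} [Fintype n] [DecidableEq n]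

/-- Reduction of a vector. -/
noncomputable def redv (x : n → O) : n → ResidueField O := fun i => residue O (x i)

theorem redv_mulVec (A : Matrix n n O) (x : n → O) :
    redv (A *ᵥ x) = Matrix.toLin' (red O n A) (redv x) := by
  ext i
  simp [redv, red, Matrix.toLin'_apply, RingHom.map_mulVec]
  rfl

theorem redv_surjective : Function.Surjective (redv (O := O) (n := n)) := fun v =>
  ⟨fun i => (Ideal.Quotient.mk_surjective (v i)).choose,
    funext fun i => (Ideal.Quotient.mk_surjective (v i)).choose_spec⟩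

theorem redv_add (x y : n → O) : redv (x + y) = redv x + redv y := funext fun i => map_add _ _ _

theorem redv_sub (x y : n → O) : redv (x - y) = redv x - redv y := funext fun i => map_sub _ _ _

theorem redv_smul (c : O) (x : n → O) : redv (c • x) = residue O c • redv x :=
  funext fun i => map_mul _ _ _

theorem redv_zero : redv (0 : n → O) = 0 := funext fun _ => map_zero _

/-- The Tate cohomology of the reduction. -/
abbrev Hq (p : ℕ) (Z : Matrix n n O) : Type _ :=
  ↥(kerT p Z) ⧸ (imN Z).comap (kerT p Z).subtype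

/-- The class of an element of the kernel of the trace. -/
noncomputable def cls (p : ℕ) (Z : Matrix n n O) : ↥(kerT p Z) →ₗ[ResidueField O] Hq p Z :=
  Submodule.mkQ _

theorem cls_surjective (p : ℕ) (Z : Matrix n n O) : Function.Surjective (cls p Z) :=
  Submodule.mkQ_surjective _

theorem cls_eq_zero {Z : Matrix n n O} {v : ↥(kerT p Z)} :
    cls p Z v = 0 ↔ (v : n → ResidueField O) ∈ imN Z := by
  simp [cls]

theorem cls_eq_of_sub_mem {Z : Matrix n n O} {v w : ↥(kerT p Z)}
    (h : (v : n → ResidueField O) - w ∈ imN Z) : cls p Z v = cls p Z w := by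
  rw [← sub_eq_zero, ← map_sub, cls_eq_zero]
  exact h

theorem finrank_Hq {Z : Matrix n n O} (h : OrderP O p Z) :
    finrank (ResidueField O) (Hq p Z) = hdim p Z := by
  have := Submodule.finrank_quotient_add_finrank ((imN Z).comap (kerT p Z).subtype)
  rw [(Submodule.comapSubtypeEquivOfLe (imN_le_kerT h)).finrank_eq] at this
  change finrank (ResidueField O) (Hq p Z) + _ = _ at this
  unfold hdim
  omega

/-- The matrix `A` induces `ψ` on the Tate cohomology. -/
def Acts (p : ℕ) (Z A : Matrix n n O) (ψ : Hq p Z →ₗ[ResidueField O] Hq p Z) : Prop :=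
  ∀ v : ↥(kerT p Z), ∃ w : ↥(kerT p Z),
    (w : n → ResidueField O) = Matrix.toLin' (red O n A) v ∧ cls p Z w = ψ (cls p Z v)

theorem Acts.unique {Z A : Matrix n n O} {ψ φ : Hq p Z →ₗ[ResidueField O] Hq p Z}
    (h₁ : Acts p Z A ψ) (h₂ : Acts p Z A φ) : ψ = φ := by
  refine LinearMap.ext fun u => ?_
  obtain ⟨v, rfl⟩ := cls_surjective p Z u
  obtain ⟨w, hw, e⟩ := h₁ v
  obtain ⟨w', hw', e'⟩ := h₂ v
  rw [← e, ← e', Subtype.ext (hw.trans hw'.symm)]

theorem Acts.one {Z : Matrix n n O} : Acts p Z 1 1 := fun v => ⟨v, by simp, rfl⟩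

theorem Acts.zero {Z : Matrix n n O} : Acts p Z 0 0 := fun v => ⟨0, by simp, by simp⟩

theorem Acts.mul {Z A B : Matrix n n O} {ψ φ : Hq p Z →ₗ[ResidueField O] Hq p Z}
    (hA : Acts p Z A ψ) (hB : Acts p Z B φ) : Acts p Z (A * B) (ψ * φ) := fun v => by
  obtain ⟨w, hw, e⟩ := hB v
  obtain ⟨u, hu, e'⟩ := hA w
  refine ⟨u, ?_, ?_⟩
  · rw [hu, hw, map_mul, Matrix.toLin'_mul, LinearMap.comp_apply]
  · rw [e', e]; rfl

theorem Acts.add {Z A B : Matrix n n O} {ψ φ : Hq p Z →ₗ[ResidueField O] Hq p Z}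
    (hA : Acts p Z A ψ) (hB : Acts p Z B φ) : Acts p Z (A + B) (ψ + φ) := fun v => by
  obtain ⟨w, hw, e⟩ := hA v
  obtain ⟨u, hu, e'⟩ := hB v
  refine ⟨w + u, ?_, ?_⟩
  · rw [Submodule.coe_add, hw, hu, map_add, map_add, LinearMap.add_apply]
  · rw [map_add, e, e']; rfl

theorem Acts.smul {Z A : Matrix n n O} {ψ : Hq p Z →ₗ[ResidueField O] Hq p Z} (c : O)
    (hA : Acts p Z A ψ) : Acts p Z (c • A) (residue O c • ψ) := fun v => by
  obtain ⟨w, hw, e⟩ := hA v
  refine ⟨residue O c • w, ?_, ?_⟩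
  · rw [Submodule.coe_smul, hw, show red O n (c • A) = residue O c • red O n A from ?_, map_smul,
      LinearMap.smul_apply]
    ext i j
    simp [red]
  · rw [map_smul, e]; rfl

theorem Acts.pow {Z A : Matrix n n O} {ψ : Hq p Z →ₗ[ResidueField O] Hq p Z}
    (hA : Acts p Z A ψ) (j : ℕ) : Acts p Z (A ^ j) (ψ ^ j) := by
  induction j with
  | zero => rw [pow_zero, pow_zero]; exact Acts.one
  | succ j ih => rw [pow_succ, pow_succ]; exact ih.mul hA

theorem Acts.sum {Z : Matrix n n O} {ι : Type*} (s : Finset ι) {A : ι → Matrix n n O}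
    {ψ : ι → (Hq p Z →ₗ[ResidueField O] Hq p Z)} (h : ∀ i ∈ s, Acts p Z (A i) (ψ i)) :
    Acts p Z (∑ i ∈ s, A i) (∑ i ∈ s, ψ i) := by
  classical
  induction s using Finset.induction with
  | empty => simpa using Acts.zero
  | insert a s has ih =>
    rw [Finset.sum_insert has, Finset.sum_insert has]
    exact (h a (Finset.mem_insert_self a s)).add
      (ih fun i hi => h i (Finset.mem_insert_of_mem hi))

/-- Matrices normalising the cyclic group generated by `Z` act on the cohomology. -/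
def Normalises (Z A : Matrix n n O) (p : ℕ) : Prop := ∃ s : ℕ, ¬ p ∣ s ∧ A * Z = Z ^ s * A

theorem Normalises.of_commute {Z A : Matrix n n O} (h : Commute A Z) : Normalises Z A p :=
  ⟨1, hp.out.not_dvd_one, by rw [pow_one]; exact h⟩

theorem normalises_pow {Z A : Matrix n n O} {s : ℕ} (hs : A * Z = Z ^ s * A) (i : ℕ) :
    A * Z ^ i = Z ^ (s * i) * A := by
  induction i with
  | zero => simp
  | succ i ih =>
    rw [pow_succ, ← mul_assoc, ih, mul_assoc, hs, ← mul_assoc, ← pow_add, Nat.mul_succ]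

theorem sum_pow_mul_eq {R : Type*} [Ring R] {Z : R} (hZ : Z ^ p = 1) {s : ℕ} (hs : ¬ p ∣ s) :
    ∑ i ∈ Finset.range p, Z ^ (s * i) = ∑ i ∈ Finset.range p, Z ^ i := by
  have hinj : Set.InjOn (fun i => s * i % p) (Finset.range p) := by
    intro a ha b hb hab
    simp only [Finset.coe_range, Set.mem_Iio] at ha hb
    have h : s * a ≡ s * b [MOD p] := hab
    have hco : p.gcd s = 1 := (hp.out.coprime_iff_not_dvd).2 hs
    have h' := Nat.ModEq.cancel_left_of_coprime hco h
    rwa [Nat.ModEq, Nat.mod_eq_of_lt ha, Nat.mod_eq_of_lt hb] at h'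
  have himg : (Finset.range p).image (fun i => s * i % p) = Finset.range p := by
    refine Finset.eq_of_subset_of_card_le ?_ ?_
    · intro x hx
      obtain ⟨i, -, rfl⟩ := Finset.mem_image.1 hx
      exact Finset.mem_range.2 (Nat.mod_lt _ hp.out.pos)
    · rw [Finset.card_image_of_injOn hinj]
  conv_rhs => rw [← himg, Finset.sum_image hinj]
  exact Finset.sum_congr rfl fun i _ => pow_eq_pow_mod _ hZ

theorem Normalises.commute_trace {Z A : Matrix n n O} (h : OrderP O p Z)
    (hA : Normalises Z A p) : Commute A (∑ i ∈ Finset.range p, Z ^ i) := by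
  obtain ⟨s, hs, e⟩ := hA
  show A * _ = _ * A
  rw [Finset.mul_sum, Finset.sum_congr rfl fun i _ => normalises_pow e i, ← Finset.sum_mul,
    sum_pow_mul_eq h.pow hs]

theorem Normalises.fixed {Z A : Matrix n n O} (h : OrderP O p Z) (hA : Normalises Z A p)
    {x : n → O} (hx : Z *ᵥ x = x) : Z *ᵥ (A *ᵥ x) = A *ᵥ x := by
  obtain ⟨s, hs, e⟩ := hA
  have hxi : ∀ i : ℕ, Z ^ i *ᵥ x = x := fun i => by
    induction i with
    | zero => simp
    | succ i ih => rw [pow_succ, ← Matrix.mulVec_mulVec, hx, ih]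
  obtain ⟨t, ht⟩ : ∃ t, s * t % p = 1 := by
    obtain ⟨t, ht⟩ := Nat.exists_mul_mod_eq_one_of_coprime
      ((hp.out.coprime_iff_not_dvd).2 hs).symm hp.out.one_lt
    exact ⟨t, ht.2⟩
  have hZ : Z = Z ^ (s * t) := by
    rw [pow_eq_pow_mod _ h.pow, ht, pow_one]
  conv_lhs => rw [hZ, Matrix.mulVec_mulVec, ← normalises_pow e t, ← Matrix.mulVec_mulVec, hxi]

theorem Normalises.mem_kerT {Z A : Matrix n n O} (h : OrderP O p Z) (hA : Normalises Z A p)
    {v : n → ResidueField O} (hv : v ∈ kerT p Z) :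
    Matrix.toLin' (red O n A) v ∈ kerT p Z := by
  have hc := (hA.commute_trace h).map (red O n)
  rw [map_sum] at hc
  simp only [map_pow] at hc
  rw [h.trace_eq] at hc
  rw [kerT, LinearMap.mem_ker] at hv ⊢
  rw [← LinearMap.comp_apply, ← Matrix.toLin'_mul, ← hc.eq, Matrix.toLin'_mul,
    LinearMap.comp_apply, hv, map_zero]

theorem Normalises.mem_imN {Z A : Matrix n n O} (hA : Normalises Z A p)
    {v : n → ResidueField O} (hv : v ∈ imN Z) : Matrix.toLin' (red O n A) v ∈ imN Z := by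
  obtain ⟨s, -, e⟩ := hA
  obtain ⟨u, rfl⟩ := hv
  have e' : red O n A * (red O n Z - 1) =
      (red O n Z - 1) * ((∑ i ∈ Finset.range s, red O n Z ^ i) * red O n A) := by
    rw [← mul_assoc, mul_geom_sum, mul_sub, mul_one, ← map_mul, e, map_mul, map_pow, sub_mul,
      one_mul]
  refine ⟨Matrix.toLin' ((∑ i ∈ Finset.range s, red O n Z ^ i) * red O n A) u, ?_⟩
  rw [← LinearMap.comp_apply, ← Matrix.toLin'_mul, ← e', Matrix.toLin'_mul, LinearMap.comp_apply]

theorem Normalises.exists_acts {Z A : Matrix n n O} (h : OrderP O p Z) (hA : Normalises Z A p) :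
    ∃ ψ, Acts p Z A ψ := by
  let f : ↥(kerT p Z) →ₗ[ResidueField O] ↥(kerT p Z) :=
    (Matrix.toLin' (red O n A)).restrict fun v hv => hA.mem_kerT h hv
  refine ⟨Submodule.mapQ _ _ f fun v hv => hA.mem_imN hv, fun v => ⟨f v, rfl, ?_⟩⟩
  rfl

/-- The part of the cohomology coming from vectors killed by `B`. -/
noncomputable def part (p : ℕ) (Z B : Matrix n n O) : Submodule (ResidueField O) (Hq p Z) where
  carrier := {u | ∃ (x : n → O) (v : ↥(kerT p Z)), B *ᵥ x = 0 ∧
    (v : n → ResidueField O) = redv x ∧ cls p Z v = u}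
  zero_mem' := ⟨0, 0, Matrix.mulVec_zero _, by simp [redv_zero], map_zero _⟩
  add_mem' := by
    rintro _ _ ⟨x, v, hx, hv, rfl⟩ ⟨y, w, hy, hw, rfl⟩
    exact ⟨x + y, v + w, by rw [Matrix.mulVec_add, hx, hy, add_zero],
      by rw [Submodule.coe_add, hv, hw, redv_add], map_add _ _ _⟩
  smul_mem' := by
    rintro c _ ⟨x, v, hx, hv, rfl⟩
    obtain ⟨d, rfl⟩ := Ideal.Quotient.mk_surjective c
    exact ⟨d • x, residue O d • v, by rw [Matrix.mulVec_smul, hx, smul_zero],
      by rw [Submodule.coe_smul, hv, redv_smul], map_smul _ _ _⟩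

/-- The fixed part. -/
noncomputable def part0 (p : ℕ) (Z : Matrix n n O) := part p Z (Z - 1)

/-- The part coming from the kernel of the trace. -/
noncomputable def part1 (p : ℕ) (Z : Matrix n n O) :=
  part p Z (∑ i ∈ Finset.range p, Z ^ i)

theorem redv_mem_kerT_of_fixed {Z : Matrix n n O} {x : n → O} (hx : (Z - 1) *ᵥ x = 0) :
    redv x ∈ kerT p Z := by
  rw [kerT, LinearMap.mem_ker, show p - 1 = (p - 2) + 1 by have := hp.out.two_le; omega, pow_succ,
    Matrix.toLin'_mul, LinearMap.comp_apply, ← map_one (red O n), ← map_sub, ← redv_mulVec, hx,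
    redv_zero, map_zero]

theorem redv_mem_kerT_of_trace {Z : Matrix n n O} (h : OrderP O p Z) {x : n → O}
    (hx : (∑ i ∈ Finset.range p, Z ^ i) *ᵥ x = 0) : redv x ∈ kerT p Z := by
  rw [kerT, LinearMap.mem_ker, ← h.trace_eq]
  simp only [← map_pow]
  rw [← map_sum, ← redv_mulVec, hx, redv_zero]

theorem trace_mul_sub_one {Z : Matrix n n O} (h : OrderP O p Z) :
    (∑ i ∈ Finset.range p, Z ^ i) * (Z - 1) = 0 := by
  rw [geom_sum_mul, h.pow, sub_self]

theorem trace_mul_trace {Z : Matrix n n O} (h : OrderP O p Z) :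
    (∑ i ∈ Finset.range p, Z ^ i) * (∑ i ∈ Finset.range p, Z ^ i) =
      (p : O) • ∑ i ∈ Finset.range p, Z ^ i := by
  rw [sq_geom_twist h.pow, Nat.cast_smul_eq_nsmul]

theorem smul_cancel [CharZero K] {x y : n → O} (h : (p : O) • x = (p : O) • y) : x = y := by
  refine funext fun i => ?_
  have := congrFun h i
  simp only [Pi.smul_apply, smul_eq_mul] at this
  refine mul_left_cancel₀ ?_ this
  exact_mod_cast hp.out.ne_zero

theorem residue_prime (hmem : (p : O) ∈ maximalIdeal O) : residue O (p : O) = 0 :=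
  (residue_eq_zero_iff _).2 hmem

/-- Divisibility of residues. -/
theorem dvd_of_redv_eq_zero (hu : ∀ x : O, x ∈ maximalIdeal O → (p : O) ∣ x) {x : n → O}
    (hx : redv x = 0) : ∃ y : n → O, x = (p : O) • y := by
  choose y hy using fun i => hu (x i) ((residue_eq_zero_iff _).1 (congrFun hx i))
  exact ⟨y, funext hy⟩

theorem codisjoint_parts [CharZero K] {Z : Matrix n n O} (h : OrderP O p Z)
    (hu : ∀ x : O, x ∈ maximalIdeal O → (p : O) ∣ x) :
    part0 p Z ⊔ part1 p Z = ⊤ := by
  set T := ∑ i ∈ Finset.range p, Z ^ i with hT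
  rw [eq_top_iff]
  intro u _
  obtain ⟨v, rfl⟩ := cls_surjective p Z u
  obtain ⟨x, hx⟩ := redv_surjective (v : n → ResidueField O)
  have hTx : redv (T *ᵥ x) = 0 := by
    have hv : (v : n → ResidueField O) ∈ kerT p Z := v.2
    change Matrix.toLin' ((red O n Z - 1) ^ (p - 1)) (v : n → ResidueField O) = 0 at hv
    rw [← h.trace_eq, ← hx] at hv
    simp only [← map_pow] at hv
    rwa [← map_sum, ← redv_mulVec, ← hT] at hv
  obtain ⟨w, hw⟩ := dvd_of_redv_eq_zero hu hTx
  have hwfix : (Z - 1) *ᵥ w = 0 := by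
    refine smul_cancel (p := p) ?_
    rw [← Matrix.mulVec_smul, ← hw, Matrix.mulVec_mulVec, sub_mul, one_mul, hT,
      mul_geom_twist h.pow, sub_self, Matrix.zero_mulVec, smul_zero]
  have hTw : T *ᵥ (x - w) = 0 := by
    refine smul_cancel (p := p) ?_
    have e : T *ᵥ (T *ᵥ x) = (p : O) • (T *ᵥ w) := by
      rw [hw, Matrix.mulVec_smul]
    rw [Matrix.mulVec_mulVec, hT, trace_mul_trace h, ← hT, Matrix.smul_mulVec] at e
    rw [smul_zero, Matrix.mulVec_sub, smul_sub, e, sub_self]
  refine Submodule.mem_sup.2 ⟨_, ⟨w, ⟨redv w, redv_mem_kerT_of_fixed hwfix⟩, hwfix, rfl, rfl⟩,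
    _, ⟨x - w, ⟨redv (x - w), redv_mem_kerT_of_trace h hTw⟩, hTw, rfl, rfl⟩, ?_⟩
  rw [← map_add]
  congr 1
  exact Subtype.ext (by
    show redv w + redv (x - w) = (v : n → ResidueField O)
    rw [redv_sub, add_sub_cancel, hx])

theorem cls_fixed_eq_zero_iff {Z : Matrix n n O} (h : OrderP O p Z) {b : n → O}
    {v : ↥(kerT p Z)} (hv : (v : n → ResidueField O) =
      redv ((∑ i ∈ Finset.range p, Z ^ i) *ᵥ b)) : cls p Z v = 0 := by
  rw [cls_eq_zero, hv, redv_mulVec, map_sum]
  simp only [map_pow]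
  rw [h.trace_eq, show p - 1 = 1 + (p - 2) by have := hp.out.two_le; omega, pow_add, pow_one,
    Matrix.toLin'_mul, LinearMap.comp_apply]
  exact ⟨_, rfl⟩

theorem disjoint_parts [CharZero K] {Z : Matrix n n O} (h : OrderP O p Z)
    (hu : ∀ x : O, x ∈ maximalIdeal O → (p : O) ∣ x) :
    part0 p Z ⊓ part1 p Z = ⊥ := by
  set T := ∑ i ∈ Finset.range p, Z ^ i with hT
  rw [eq_bot_iff]
  rintro _ ⟨⟨x, v, hx, hv, rfl⟩, y, w, hy, hw, e⟩
  have hmem : (v : n → ResidueField O) - w ∈ imN Z := by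
    have : cls p Z (v - w) = 0 := by rw [map_sub, e, sub_self]
    exact cls_eq_zero.1 this
  obtain ⟨a, ha⟩ := hmem
  obtain ⟨a, rfl⟩ := redv_surjective a
  rw [← map_one (red O n), ← map_sub, ← redv_mulVec, hv, hw, ← redv_sub] at ha
  obtain ⟨b, hb⟩ := dvd_of_redv_eq_zero hu (x := x - y - (Z - 1) *ᵥ a)
    (by rw [redv_sub, ← ha, sub_self])
  have hTx : T *ᵥ x = (p : O) • x := by
    have hxi : ∀ i : ℕ, Z ^ i *ᵥ x = x := fun i => by
      rw [Matrix.sub_mulVec, Matrix.one_mulVec, sub_eq_zero] at hx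
      induction i with
      | zero => simp
      | succ i ih => rw [pow_succ, ← Matrix.mulVec_mulVec, hx, ih]
    rw [hT, Matrix.sum_mulVec, Finset.sum_congr rfl fun i _ => hxi i, Finset.sum_const,
      Finset.card_range, Nat.cast_smul_eq_nsmul]
  have := congrArg (fun z => T *ᵥ z) hb
  simp only [Matrix.mulVec_sub, Matrix.mulVec_smul, Matrix.mulVec_mulVec] at this
  rw [hy, sub_zero, hT, trace_mul_sub_one h, ← hT, Matrix.zero_mulVec, sub_zero, hTx] at this
  rw [Submodule.mem_bot]
  exact cls_fixed_eq_zero_iff h (b := b) (by rw [hv, smul_cancel this, hT])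

/-- A functional on the image of `A` which is a unit at a primitive vector. -/
theorem exists_unit_functional [IsPrincipalIdealRing O]
    (hu : ∀ x : O, x ∈ maximalIdeal O → (p : O) ∣ x) (A : Matrix n n O) {y : n → O}
    (hy : ∀ w, A *ᵥ y ≠ (p : O) • (A *ᵥ w)) :
    ∃ f : (n → O) →ₗ[O] O, (∀ w, A *ᵥ w = 0 → f w = 0) ∧ IsUnit (f y) := by
  classical
  let Al := Matrix.toLin' A
  let b := Module.Free.chooseBasis O ↥(LinearMap.range Al)
  obtain ⟨i, hi⟩ : ∃ i, IsUnit (b.repr (Al.rangeRestrict y) i) := by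
    by_contra hcon
    push Not at hcon
    choose c hc using fun i => hu _ ((mem_maximalIdeal _).2 (hcon i))
    obtain ⟨w, hw⟩ := (b.equivFun.symm c).2
    refine hy w ?_
    have e : Al.rangeRestrict y = (p : O) • b.equivFun.symm c := by
      refine b.equivFun.injective ?_
      rw [map_smul, LinearEquiv.apply_symm_apply]
      exact funext fun i => by rw [Pi.smul_apply, smul_eq_mul, ← hc i]; rfl
    have := congrArg Subtype.val e
    rw [Submodule.coe_smul, ← hw, LinearMap.rangeRestrict] at this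
    simpa [Al, Matrix.toLin'_apply] using this
  refine ⟨(b.coord i).comp Al.rangeRestrict, fun w hw => ?_, hi⟩
  have : Al.rangeRestrict w = 0 := Subtype.ext (by simpa [Al, Matrix.toLin'_apply] using hw)
  rw [LinearMap.comp_apply, this, map_zero]

/-- The functionals on the cohomology realised by rank-one maps into a part. -/
noncomputable def realForms (p : ℕ) [Fact p.Prime] (Z B B' : Matrix n n O) :
    Submodule (ResidueField O) (Module.Dual (ResidueField O) ↥(part p Z B)) where
  carrier := {g | ∀ u : ↥(part p Z B), ∃ (Φ : Matrix n n O) (ψ : Hq p Z →ₗ[ResidueField O] Hq p Z),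
    Commute Φ Z ∧ Acts p Z Φ ψ ∧ (∀ x ∈ part p Z B', ψ x = 0) ∧
      ∀ x : ↥(part p Z B), ψ x = g x • (u : Hq p Z)}
  zero_mem' := fun u => ⟨0, 0, Commute.zero_left _, Acts.zero, fun x _ => rfl, fun x => by simp⟩
  add_mem' := by
    intro g g' hg hg' u
    obtain ⟨Φ, ψ, h1, h2, h3, h4⟩ := hg u
    obtain ⟨Φ', ψ', h1', h2', h3', h4'⟩ := hg' u
    refine ⟨Φ + Φ', ψ + ψ', h1.add_left h1', h2.add h2', fun x hx => ?_, fun x => ?_⟩
    · rw [LinearMap.add_apply, h3 x hx, h3' x hx, add_zero]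
    · rw [LinearMap.add_apply, h4, h4', LinearMap.add_apply, add_smul]
  smul_mem' := by
    intro c g hg u
    obtain ⟨Φ, ψ, h1, h2, h3, h4⟩ := hg u
    obtain ⟨d, rfl⟩ := Ideal.Quotient.mk_surjective c
    refine ⟨d • Φ, residue O d • ψ, h1.smul_left d, h2.smul d, fun x hx => ?_, fun x => ?_⟩
    · rw [LinearMap.smul_apply, h3 x hx, smul_zero]
    · rw [LinearMap.smul_apply, h4, smul_smul]; rfl

theorem mulVec_pow_fixed {Z : Matrix n n O} {y : n → O} (hy : (Z - 1) *ᵥ y = 0) (i : ℕ) :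
    Z ^ i *ᵥ y = y := by
  rw [Matrix.sub_mulVec, Matrix.one_mulVec, sub_eq_zero] at hy
  induction i with
  | zero => simp
  | succ i ih => rw [pow_succ, ← Matrix.mulVec_mulVec, hy, ih]

theorem pow_mulVec_sub_mem {Z : Matrix n n O} (i : ℕ) (v : n → ResidueField O) :
    Matrix.toLin' (red O n Z ^ i) v - v ∈ imN Z := by
  refine ⟨Matrix.toLin' (∑ j ∈ Finset.range i, red O n Z ^ j) v, ?_⟩
  rw [← LinearMap.comp_apply, ← Matrix.toLin'_mul, mul_geom_sum, map_sub, Matrix.toLin'_one,
    LinearMap.sub_apply, LinearMap.id_apply]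

theorem redv_sum {ι : Type*} (s : Finset ι) (x : ι → n → O) :
    redv (∑ i ∈ s, x i) = ∑ i ∈ s, redv (x i) := by
  classical
  induction s using Finset.induction with
  | empty => simp [redv_zero]
  | insert a s ha ih => rw [Finset.sum_insert ha, Finset.sum_insert ha, redv_add, ih]

/-- Realisers separating the fixed part. -/
theorem exists_form0 [CharZero K] [IsPrincipalIdealRing O] {Z : Matrix n n O} (h : OrderP O p Z)
    (hu : ∀ x : O, x ∈ maximalIdeal O → (p : O) ∣ x)
    (x₀ : ↥(part0 p Z)) (hx₀ : x₀ ≠ 0) :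
    ∃ g ∈ realForms p Z (Z - 1) (∑ i ∈ Finset.range p, Z ^ i), g x₀ ≠ 0 := by
  classical
  set T := ∑ i ∈ Finset.range p, Z ^ i with hT
  obtain ⟨x, v, hx, hv, hclsv⟩ := x₀.2
  have hTx : T *ᵥ x = (p : O) • x := by
    rw [hT, Matrix.sum_mulVec, Finset.sum_congr rfl fun i _ => mulVec_pow_fixed hx i,
      Finset.sum_const, Finset.card_range, Nat.cast_smul_eq_nsmul]
  have hprim : ∀ w, T *ᵥ x ≠ (p : O) • (T *ᵥ w) := by
    intro w e
    rw [hTx] at e
    exact hx₀ (Subtype.ext (hclsv.symm.trans (cls_fixed_eq_zero_iff h (b := w) (by rw [hv, smul_cancel e, hT]))))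
  obtain ⟨f, hf0, hfx⟩ := exists_unit_functional hu T hprim
  have hfZ : ∀ m, f (Z *ᵥ m) = f m := by
    intro m
    rw [← sub_eq_zero, ← map_sub]
    refine hf0 _ ?_
    rw [Matrix.mulVec_sub, Matrix.mulVec_mulVec, hT, ← (Commute.sum_right _ _ _ fun i _ =>
      (Commute.refl Z).pow_right i).eq, mul_geom_twist h.pow, sub_self]
  -- the residue of the functional on the fixed part
  have hwell : ∀ (a b : ↥(kerT p Z)) (y z : n → O), (Z - 1) *ᵥ y = 0 → (Z - 1) *ᵥ z = 0 →
      (a : n → ResidueField O) = redv y → (b : n → ResidueField O) = redv z →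
      cls p Z a = cls p Z b → residue O (f y) = residue O (f z) := by
    intro a b y z hy hz ha hb e
    obtain ⟨u, hu'⟩ : (a : n → ResidueField O) - b ∈ imN Z := by
      rw [← Submodule.coe_sub, ← cls_eq_zero, map_sub, e, sub_self]
    obtain ⟨u, rfl⟩ := redv_surjective u
    rw [← map_one (red O n), ← map_sub, ← redv_mulVec, ha, hb, ← redv_sub] at hu'
    obtain ⟨r, hr⟩ := dvd_of_redv_eq_zero hu (x := y - z - (Z - 1) *ᵥ u)
      (by rw [redv_sub, ← hu', sub_self])
    have := congrArg f hr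
    rw [map_sub, map_sub, Matrix.sub_mulVec, Matrix.one_mulVec, map_sub, hfZ, sub_self, sub_zero,
      map_smul, smul_eq_mul] at this
    rw [← sub_eq_zero, ← map_sub, this, map_mul, residue_prime h.mem, zero_mul]
  choose yl al hy hyl hcls using fun u : ↥(part p Z (Z - 1)) => u.2
  let g : ↥(part p Z (Z - 1)) →ₗ[ResidueField O] ResidueField O :=
    { toFun := fun u => residue O (f (yl u))
      map_add' := fun u w => by
        rw [← map_add, ← map_add]
        exact hwell (al (u + w)) (al u + al w) _ _ (hy _)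
          (by rw [Matrix.mulVec_add, hy, hy, add_zero]) (hyl _)
          (by rw [Submodule.coe_add, hyl, hyl, redv_add]) (by rw [map_add, hcls, hcls, hcls]; rfl)
      map_smul' := fun c u => by
        obtain ⟨d, rfl⟩ := Ideal.Quotient.mk_surjective c
        change _ = residue O d • _
        rw [smul_eq_mul, ← map_mul, ← smul_eq_mul, ← map_smul]
        exact hwell (al _) (residue O d • al u) _ _ (hy _)
          (by rw [Matrix.mulVec_smul, hy, smul_zero]) (hyl _)
          (by rw [Submodule.coe_smul, hyl, redv_smul]) (by rw [map_smul, hcls, hcls]; rfl) }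
  refine ⟨g, fun u => ?_, ?_⟩
  · obtain ⟨_, y, w, hyf, hw, rfl⟩ := u
    let Φl : (n → O) →ₗ[O] (n → O) := f.smulRight y
    set Φ := LinearMap.toMatrix' Φl with hΦdef
    have hΦ : ∀ m, Φ *ᵥ m = f m • y := fun m => by
      rw [← Matrix.toLin'_apply, hΦdef, Matrix.toLin'_toMatrix']; rfl
    have hcomm : Commute Φ Z := by
      refine Matrix.toLin'.injective (LinearMap.ext fun m => ?_)
      rw [Matrix.toLin'_apply, Matrix.toLin'_apply, ← Matrix.mulVec_mulVec,
        ← Matrix.mulVec_mulVec, hΦ, hΦ, hfZ, Matrix.mulVec_smul]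
      congr 1
      simpa using (mulVec_pow_fixed hyf 1).symm
    obtain ⟨ψ, hψ⟩ := (Normalises.of_commute hcomm).exists_acts (p := p) h
    have hval : ∀ (m : n → O) (a : ↥(kerT p Z)), (a : n → ResidueField O) = redv m →
        ψ (cls p Z a) = residue O (f m) • cls p Z w := by
      intro m a ha
      obtain ⟨r, hr, e⟩ := hψ a
      rw [← e, ← map_smul]
      congr 1
      refine Subtype.ext ?_
      rw [hr, ha, ← redv_mulVec, hΦ, redv_smul, Submodule.coe_smul, hw]
    refine ⟨Φ, ψ, hcomm, hψ, ?_, fun u => ?_⟩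
    · rintro _ ⟨m, a, hm, ha, rfl⟩
      rw [hval m a ha, hf0 m hm, map_zero, zero_smul]
    · rw [← hcls u, hval (yl u) (al u) (hyl u)]
      rfl
  · intro hz
    change residue O (f (yl _)) = 0 at hz
    rw [hwell (al x₀) v _ x (hy x₀) hx (hyl x₀) hv ((hcls x₀).trans hclsv.symm)] at hz
    exact (residue_ne_zero_iff_isUnit _).2 hfx hz

set_option maxHeartbeats 800000 in
/-- Realisers separating the part coming from the kernel of the trace. -/
theorem exists_form1 [CharZero K] [IsPrincipalIdealRing O] {Z : Matrix n n O} (h : OrderP O p Z)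
    (hu : ∀ x : O, x ∈ maximalIdeal O → (p : O) ∣ x)
    (x₀ : ↥(part1 p Z)) (hx₀ : x₀ ≠ 0) :
    ∃ g ∈ realForms p Z (∑ i ∈ Finset.range p, Z ^ i) (Z - 1), g x₀ ≠ 0 := by
  classical
  set T := ∑ i ∈ Finset.range p, Z ^ i with hT
  set Zi := Z ^ (p - 1) with hZidef
  have hZi : Zi * Z = 1 := by
    rw [hZidef, ← pow_succ, Nat.sub_add_cancel hp.out.one_le, h.pow]
  have hZZi : Z * Zi = 1 := by
    rw [hZidef, ← pow_succ', Nat.sub_add_cancel hp.out.one_le, h.pow]
  have hZip : Zi ^ p = 1 := by rw [hZidef, ← pow_mul, mul_comm, pow_mul, h.pow, one_pow]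
  have hTi : ∑ i ∈ Finset.range p, Zi ^ i = T := by
    rw [hT, ← sum_pow_mul_eq h.pow (s := p - 1) ?_, hZidef]
    · simp only [← pow_mul]
    · exact fun hd => by
        have := hp.out.two_le
        have := Nat.le_of_dvd (by omega) hd
        omega
  set D := ∑ i ∈ Finset.range p, (i : O) • Zi ^ i with hD
  have hN1 : Zi - 1 = -((Z - 1) * Zi) := by rw [sub_mul, one_mul, hZZi, neg_sub]
  have hD1 : (Zi - 1) * D = (p : O) • (1 : Matrix n n O) - T := by
    have key : ∀ k : ℕ, (Zi - 1) * ∑ i ∈ Finset.range k, (i : O) • Zi ^ i =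
        (k : O) • Zi ^ k - ∑ i ∈ Finset.range k, Zi ^ (i + 1) := by
      intro k
      induction k with
      | zero => simp
      | succ k ih =>
        rw [Finset.sum_range_succ, mul_add, ih, mul_smul_comm, sub_mul, one_mul, ← pow_succ',
          Finset.sum_range_succ (fun i => Zi ^ (i + 1)), Nat.cast_succ, add_smul, one_smul,
          smul_sub]
        abel
    rw [hD, key, hZip, Finset.sum_congr rfl fun i _ => pow_succ' Zi i, ← Finset.mul_sum,
      mul_geom_twist hZip, hTi]
  obtain ⟨x, v, hx, hv, hclsv⟩ := x₀.2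
  have hA : (Zi - 1) *ᵥ (D *ᵥ x) = (p : O) • x := by
    rw [Matrix.mulVec_mulVec, hD1, Matrix.sub_mulVec, Matrix.smul_mulVec, Matrix.one_mulVec, hx,
      sub_zero]
  have hprim : ∀ w, (Zi - 1) *ᵥ (D *ᵥ x) ≠ (p : O) • ((Zi - 1) *ᵥ w) := by
    intro w e
    rw [hA] at e
    refine hx₀ (Subtype.ext ?_)
    refine hclsv.symm.trans (cls_eq_zero.2 ?_)
    rw [hv, smul_cancel e, hN1, Matrix.neg_mulVec, ← Matrix.mulVec_mulVec, ← Matrix.mulVec_neg,
      redv_mulVec, map_sub, map_one]
    exact ⟨_, rfl⟩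
  obtain ⟨F, hF0, hFx⟩ := exists_unit_functional hu (Zi - 1) hprim
  have hFfix : ∀ w, (Z - 1) *ᵥ w = 0 → F w = 0 := fun w hw => hF0 w (by
    have e : Z *ᵥ w = w := by rwa [Matrix.sub_mulVec, Matrix.one_mulVec, sub_eq_zero] at hw
    rw [Matrix.sub_mulVec, Matrix.one_mulVec]
    conv_lhs => arg 1; rw [← e, Matrix.mulVec_mulVec, hZi, Matrix.one_mulVec]
    exact sub_self w)
  let c : ℕ → (n → O) →ₗ[O] O := fun i =>
    ∑ j ∈ Finset.range (i + 1), F.comp (Matrix.toLin' (Zi ^ j))
  have hc : ∀ i m, c i m = ∑ j ∈ Finset.range (i + 1), F (Zi ^ j *ᵥ m) := fun i m => by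
    simp only [c, LinearMap.sum_apply, LinearMap.comp_apply, Matrix.toLin'_apply]
  have hctop : ∀ m, c (p - 1) m = 0 := by
    intro m
    rw [hc, Nat.sub_add_cancel hp.out.one_le, ← map_sum, ← Matrix.sum_mulVec, hTi]
    refine hF0 _ ?_
    rw [Matrix.mulVec_mulVec, ← hTi, mul_geom_sum, hZip, sub_self, Matrix.zero_mulVec]
  have hcZ : ∀ i m, c (i + 1) (Z *ᵥ m) = F (Z *ᵥ m) + c i m := by
    intro i m
    rw [hc, hc, Finset.sum_range_succ', pow_zero, Matrix.one_mulVec, add_comm]
    congr 1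
    refine Finset.sum_congr rfl fun j _ => ?_
    rw [Matrix.mulVec_mulVec, pow_succ, mul_assoc, hZi, mul_one]
  let Sl : (n → O) →ₗ[O] O := ∑ i ∈ Finset.range p, c i
  have hres : ∀ m, residue O (Sl m) = -residue O (F (D *ᵥ m)) := by
    intro m
    have e : ∀ k, (∑ i ∈ Finset.range k, c i m) + F ((∑ i ∈ Finset.range k, (i : O) • Zi ^ i) *ᵥ m)
        = (k : O) * F ((∑ i ∈ Finset.range k, Zi ^ i) *ᵥ m) := by
      intro k
      induction k with
      | zero => simp
      | succ k ih =>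
        rw [Finset.sum_range_succ, Finset.sum_range_succ, Finset.sum_range_succ (fun i => Zi ^ i),
          Matrix.add_mulVec, map_add, Matrix.add_mulVec, map_add, Matrix.smul_mulVec, map_smul,
          smul_eq_mul, hc, Finset.sum_range_succ, ← map_sum, ← Matrix.sum_mulVec, Nat.cast_succ]
        linear_combination ih
    have := congrArg (residue O) (e p)
    rw [← hD, map_add, map_mul, residue_prime h.mem, zero_mul] at this
    rw [LinearMap.sum_apply]
    exact eq_neg_of_add_eq_zero_left this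
  have hwell : ∀ (a b : ↥(kerT p Z)) (y z : n → O), T *ᵥ y = 0 → T *ᵥ z = 0 →
      (a : n → ResidueField O) = redv y → (b : n → ResidueField O) = redv z →
      cls p Z a = cls p Z b → residue O (Sl y) = residue O (Sl z) := by
    intro a b y z hy hz ha hb e
    obtain ⟨u, hu'⟩ : (a : n → ResidueField O) - b ∈ imN Z := by
      rw [← Submodule.coe_sub, ← cls_eq_zero, map_sub, e, sub_self]
    obtain ⟨u, rfl⟩ := redv_surjective u
    rw [← map_one (red O n), ← map_sub, ← redv_mulVec, ha, hb, ← redv_sub] at hu'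
    obtain ⟨r, hr⟩ := dvd_of_redv_eq_zero hu (x := y - z - (Z - 1) *ᵥ u)
      (by rw [redv_sub, ← hu', sub_self])
    have hSZ : residue O (Sl ((Z - 1) *ᵥ u)) = 0 := by
      have e0 : ∀ i, c i ((Z - 1) *ᵥ u) = F (Z *ᵥ u) - F (Zi ^ i *ᵥ u) := by
        intro i
        rw [hc, Finset.sum_range_succ', pow_zero, Matrix.one_mulVec, Matrix.sub_mulVec,
          Matrix.one_mulVec, map_sub]
        have : ∀ j, F (Zi ^ (j + 1) *ᵥ (Z *ᵥ u - u)) =
            F (Zi ^ j *ᵥ u) - F (Zi ^ (j + 1) *ᵥ u) := fun j => by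
          rw [Matrix.mulVec_sub, map_sub, Matrix.mulVec_mulVec, pow_succ, mul_assoc, hZi, mul_one]
        rw [Finset.sum_congr rfl fun j _ => this j,
          Finset.sum_range_sub' fun j => F (Zi ^ j *ᵥ u), pow_zero, Matrix.one_mulVec]
        ring
      have e1 : Sl ((Z - 1) *ᵥ u) = (p : O) * F (Z *ᵥ u) - F (T *ᵥ u) := by
        rw [LinearMap.sum_apply, Finset.sum_congr rfl fun i _ => e0 i, Finset.sum_sub_distrib,
          Finset.sum_const, Finset.card_range, nsmul_eq_mul, ← map_sum, ← Matrix.sum_mulVec, hTi]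
      have e2 : F (T *ᵥ u) = 0 := hFfix _ (by
        rw [Matrix.mulVec_mulVec, sub_mul, one_mul, hT, mul_geom_twist h.pow, sub_self,
          Matrix.zero_mulVec])
      rw [e1, e2, sub_zero, map_mul, residue_prime h.mem, zero_mul]
    have := congrArg (fun m => residue O (Sl m)) hr
    simp only [map_sub, map_smul, smul_eq_mul, map_mul, residue_prime h.mem, zero_mul, hSZ,
      sub_zero] at this
    exact sub_eq_zero.1 this
  choose yl al hy hyl hcls using fun u : ↥(part p Z T) => u.2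
  let g : ↥(part p Z T) →ₗ[ResidueField O] ResidueField O :=
    { toFun := fun u => residue O (Sl (yl u))
      map_add' := fun u w => by
        rw [← map_add, ← map_add]
        exact hwell (al (u + w)) (al u + al w) _ _ (hy _)
          (by rw [Matrix.mulVec_add, hy, hy, add_zero]) (hyl _)
          (by rw [Submodule.coe_add, hyl, hyl, redv_add]) (by rw [map_add, hcls, hcls, hcls]; rfl)
      map_smul' := fun c u => by
        obtain ⟨d, rfl⟩ := Ideal.Quotient.mk_surjective c
        change _ = residue O d • _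
        rw [smul_eq_mul, ← map_mul, ← smul_eq_mul, ← map_smul]
        exact hwell (al _) (residue O d • al u) _ _ (hy _)
          (by rw [Matrix.mulVec_smul, hy, smul_zero]) (hyl _)
          (by rw [Submodule.coe_smul, hyl, redv_smul]) (by rw [map_smul, hcls, hcls]; rfl) }
  refine ⟨g, fun u => ?_, ?_⟩
  · obtain ⟨_, y, w, hyf, hw, rfl⟩ := u
    let Φl : (n → O) →ₗ[O] (n → O) := ∑ i ∈ Finset.range p, (c i).smulRight (Z ^ i *ᵥ y)
    set Φ := LinearMap.toMatrix' Φl with hΦdef
    have hΦ : ∀ m, Φ *ᵥ m = ∑ i ∈ Finset.range p, c i m • (Z ^ i *ᵥ y) := fun m => by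
      rw [← Matrix.toLin'_apply, hΦdef, Matrix.toLin'_toMatrix']
      simp [Φl, LinearMap.sum_apply]
    obtain ⟨q, hq⟩ : ∃ q, p = q + 1 := ⟨p - 1, by have := hp.out.pos; omega⟩
    have hcomm : Commute Φ Z := by
      refine Matrix.toLin'.injective (LinearMap.ext fun m => ?_)
      rw [Matrix.toLin'_apply, Matrix.toLin'_apply, ← Matrix.mulVec_mulVec,
        ← Matrix.mulVec_mulVec, hΦ, hΦ, Matrix.mulVec_sum]
      simp only [Matrix.mulVec_smul, Matrix.mulVec_mulVec, ← pow_succ']
      have hc0 : c 0 (Z *ᵥ m) = F (Z *ᵥ m) := by simp [hc]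
      have hq0 : c q m = 0 := by rw [show q = p - 1 by omega]; exact hctop m
      rw [hq, Finset.sum_range_succ', Finset.sum_range_succ _ q, hq0, zero_smul, add_zero, hc0]
      have hy0 : (∑ i ∈ Finset.range q, F (Z *ᵥ m) • (Z ^ (i + 1) *ᵥ y)) +
          F (Z *ᵥ m) • (Z ^ 0 *ᵥ y) = 0 := by
        rw [← Finset.smul_sum, ← smul_add, ← Finset.sum_range_succ' (fun i => Z ^ i *ᵥ y), ← hq,
          ← Matrix.sum_mulVec, hyf, smul_zero]
      rw [Finset.sum_congr rfl fun i _ => by rw [hcZ i m, add_smul], Finset.sum_add_distrib,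
        add_right_comm, hy0, zero_add]
    obtain ⟨ψ, hψ⟩ := (Normalises.of_commute hcomm).exists_acts (p := p) h
    have hval : ∀ (m : n → O) (a : ↥(kerT p Z)), (a : n → ResidueField O) = redv m →
        ψ (cls p Z a) = residue O (Sl m) • cls p Z w := by
      intro m a ha
      obtain ⟨r, hr, e⟩ := hψ a
      rw [← e, ← map_smul]
      refine cls_eq_of_sub_mem ?_
      rw [hr, ha, ← redv_mulVec, hΦ, redv_sum, Submodule.coe_smul, LinearMap.sum_apply, map_sum,
        Finset.sum_smul, ← Finset.sum_sub_distrib]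
      refine Submodule.sum_mem _ fun i _ => ?_
      rw [redv_smul, ← smul_sub, redv_mulVec, map_pow, hw]
      exact Submodule.smul_mem _ _ (pow_mulVec_sub_mem i _)
    refine ⟨Φ, ψ, hcomm, hψ, ?_, fun u => ?_⟩
    · rintro _ ⟨m, a, hm, ha, rfl⟩
      have : Sl m = 0 := by
        rw [LinearMap.sum_apply]
        refine Finset.sum_eq_zero fun i _ => ?_
        rw [hc]
        refine Finset.sum_eq_zero fun j _ => ?_
        rw [hZidef, ← pow_mul, mulVec_pow_fixed hm]
        exact hFfix m hm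
      rw [hval m a ha, this, map_zero, zero_smul]
    · rw [← hcls u, hval (yl u) (al u) (hyl u)]
      rfl
  · intro hz
    change residue O (Sl (yl _)) = 0 at hz
    rw [hwell (al x₀) v _ x (hy x₀) hx (hyl x₀) hv ((hcls x₀).trans hclsv.symm), hres, neg_eq_zero] at hz
    exact (residue_ne_zero_iff_isUnit _).2 hFx hz

theorem realForms_eq_top [IsPrincipalIdealRing O] {Z B B' : Matrix n n O}
    (H : ∀ x₀ : ↥(part p Z B), x₀ ≠ 0 → ∃ g ∈ realForms p Z B B', g x₀ ≠ 0) :
    realForms p Z B B' = ⊤ := by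
  have hbot : (realForms p Z B B').dualCoannihilator = ⊥ := by
    rw [eq_bot_iff]
    intro x hx
    by_contra hx0
    obtain ⟨g, hg, hgx⟩ := H x hx0
    exact hgx ((Submodule.mem_dualCoannihilator x).1 hx g hg)
  have e := Subspace.finrank_add_finrank_dualCoannihilator_eq (realForms p Z B B')
  rw [hbot, finrank_bot, add_zero] at e
  exact Submodule.eq_top_of_finrank_eq (e.trans Subspace.dual_finrank_eq.symm)

/-- Every map of a part extends by zero to an induced one. -/
theorem exists_realiser [IsPrincipalIdealRing O] {Z B B' : Matrix n n O}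
    (htop : realForms p Z B B' = ⊤) (L : ↥(part p Z B) →ₗ[ResidueField O] ↥(part p Z B)) :
    ∃ (Φ : Matrix n n O) (ψ : Hq p Z →ₗ[ResidueField O] Hq p Z), Commute Φ Z ∧ Acts p Z Φ ψ ∧
      (∀ x ∈ part p Z B', ψ x = 0) ∧ ∀ x : ↥(part p Z B), ψ x = (L x : Hq p Z) := by
  classical
  let b := Module.finBasis (ResidueField O) ↥(part p Z B)
  have H : ∀ i, b.coord i ∈ realForms p Z B B' := fun i => htop ▸ Submodule.mem_top
  choose Φ ψ h1 h2 h3 h4 using fun i => H i (L (b i))
  refine ⟨∑ i, Φ i, ∑ i, ψ i, Commute.sum_left _ _ _ fun i _ => h1 i,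
    Acts.sum _ fun i _ => h2 i, fun x hx => ?_, fun x => ?_⟩
  · rw [LinearMap.sum_apply]; exact Finset.sum_eq_zero fun i _ => h3 i x hx
  · rw [LinearMap.sum_apply, Finset.sum_congr rfl fun i _ => h4 i x]
    simp only [Module.Basis.coord_apply, ← Submodule.coe_smul, ← Submodule.coe_sum, ← map_smul,
      ← map_sum, b.sum_repr]

/-- Every map preserving both parts is induced by a matrix commuting with `Z`. -/
theorem exists_acts_of_parts [CharZero K] [IsPrincipalIdealRing O] {Z : Matrix n n O}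
    (h : OrderP O p Z) (hu : ∀ x : O, x ∈ maximalIdeal O → (p : O) ∣ x)
    (L : Hq p Z →ₗ[ResidueField O] Hq p Z) (h0 : ∀ x ∈ part0 p Z, L x ∈ part0 p Z)
    (h1 : ∀ x ∈ part1 p Z, L x ∈ part1 p Z) :
    ∃ Φ : Matrix n n O, Commute Φ Z ∧ Acts p Z Φ L := by
  obtain ⟨Φ, ψ, a1, a2, a3, a4⟩ := exists_realiser (p := p)
    (realForms_eq_top (exists_form0 h hu)) (L.restrict h0)
  obtain ⟨Φ', ψ', b1, b2, b3, b4⟩ := exists_realiser (p := p)
    (realForms_eq_top (exists_form1 h hu)) (L.restrict h1)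
  refine ⟨Φ + Φ', a1.add_left b1, ?_⟩
  have : L = ψ + ψ' := by
    refine LinearMap.ext fun x => ?_
    obtain ⟨u, hu', w, hw, rfl⟩ := Submodule.mem_sup.1
      (show x ∈ part0 p Z ⊔ part1 p Z from codisjoint_parts h hu ▸ Submodule.mem_top)
    have e1 := a4 ⟨u, hu'⟩
    have e2 := b4 ⟨w, hw⟩
    simp only [LinearMap.restrict_apply] at e1 e2
    rw [map_add, LinearMap.add_apply, map_add, map_add, a3 w hw, b3 u hu', add_zero, zero_add,
      e1, e2]
    rfl
  rw [this]
  exact a2.add b2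

theorem Normalises.part0_stable {Z A : Matrix n n O} (h : OrderP O p Z) (hA : Normalises Z A p)
    {ψ : Hq p Z →ₗ[ResidueField O] Hq p Z} (hψ : Acts p Z A ψ) :
    ∀ x ∈ part0 p Z, ψ x ∈ part0 p Z := by
  rintro _ ⟨m, a, hm, ha, rfl⟩
  obtain ⟨r, hr, e⟩ := hψ a
  refine ⟨A *ᵥ m, r, ?_, by rw [hr, ha, redv_mulVec], e⟩
  rw [Matrix.sub_mulVec, Matrix.one_mulVec, sub_eq_zero] at hm ⊢
  exact hA.fixed h hm

theorem Normalises.part1_stable {Z A : Matrix n n O} (h : OrderP O p Z) (hA : Normalises Z A p)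
    {ψ : Hq p Z →ₗ[ResidueField O] Hq p Z} (hψ : Acts p Z A ψ) :
    ∀ x ∈ part1 p Z, ψ x ∈ part1 p Z := by
  rintro _ ⟨m, a, hm, ha, rfl⟩
  obtain ⟨r, hr, e⟩ := hψ a
  refine ⟨A *ᵥ m, r, ?_, by rw [hr, ha, redv_mulVec], e⟩
  rw [Matrix.mulVec_mulVec, ← (hA.commute_trace h).eq, ← Matrix.mulVec_mulVec, hm,
    Matrix.mulVec_zero]

theorem eq_smul_one_of_pow_eq_one {k V : Type*} [Field k] [AddCommGroup V] [Module k V]
    {U : Module.End k V} {o : ℕ} (ho : (o : k) ≠ 0) (hU : U ^ o = 1) {a : k} {N : ℕ}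
    (hN : (U - a • 1) ^ N = 0) : U = a • 1 := by
  have h1 : minpoly k U ∣ (Polynomial.X : Polynomial k) ^ o - Polynomial.C 1 :=
    minpoly.dvd _ _ (by simp [hU])
  have h2 : minpoly k U ∣ (Polynomial.X - Polynomial.C a) ^ N :=
    minpoly.dvd _ _ (by simpa [Algebra.algebraMap_eq_smul_one] using hN)
  have h3 := (((Polynomial.separable_X_pow_sub_C (1 : k) ho one_ne_zero).of_dvd h1).squarefree
    ).isRadical N _ h2
  obtain ⟨q, hq⟩ := h3
  have := congrArg (Polynomial.aeval U) hq
  rw [map_sub, Polynomial.aeval_X, Polynomial.aeval_C, map_mul, minpoly.aeval, zero_mul,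
    sub_eq_zero, Algebra.algebraMap_eq_smul_one] at this
  exact this

/-- Two subspaces or two dimensions contradict locality of the centraliser. -/
theorem hdim_le_one [CharZero K] [IsPrincipalIdealRing O] {Z : Matrix n n O} (h : OrderP O p Z)
    (hu : ∀ x : O, x ∈ maximalIdeal O → (p : O) ∣ x)
    {H : Type*} [Group H] [Fintype H] (hH : ¬ p ∣ Fintype.card H) (σ : H →* Matrix n n O)
    (hσ : ∀ x, Normalises Z (σ x) p)
    (hab : ∀ (x y : H) (ψ φ : Hq p Z →ₗ[ResidueField O] Hq p Z),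
      Acts p Z (σ x) ψ → Acts p Z (σ y) φ → Commute ψ φ)
    (hloc : ∀ (Φ : Matrix n n O) (ψ : Hq p Z →ₗ[ResidueField O] Hq p Z), Commute Φ Z →
      (∀ x, Commute Φ (σ x)) → Acts p Z Φ ψ →
      ∃ (a : ResidueField O) (N : ℕ), (ψ - a • 1) ^ N = 0) :
    hdim p Z ≤ 1 := by
  classical
  have := h.charP
  choose U hU using fun x => (hσ x).exists_acts h
  have hU1 : U 1 = 1 := (hU 1).unique (by rw [map_one]; exact Acts.one)
  have hUmul : ∀ x y, U (x * y) = U x * U y := fun x y =>
    (hU (x * y)).unique (by rw [map_mul]; exact (hU x).mul (hU y))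
  have hcard : ((Fintype.card H : ℕ) : ResidueField O) ≠ 0 := fun e =>
    hH ((CharP.cast_eq_zero_iff (ResidueField O) p _).1 e)
  obtain ⟨w, hw⟩ : ∃ w : O, w * (Fintype.card H : O) = 1 := by
    refine IsUnit.exists_left_inv ((residue_ne_zero_iff_isUnit _).1 ?_)
    rw [map_natCast]
    exact hcard
  -- averaging
  have key : ∀ L : Hq p Z →ₗ[ResidueField O] Hq p Z, (∀ x ∈ part0 p Z, L x ∈ part0 p Z) →
      (∀ x ∈ part1 p Z, L x ∈ part1 p Z) → (∀ x, Commute L (U x)) →
      ∃ (a : ResidueField O) (N : ℕ), (L - a • 1) ^ N = 0 := by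
    intro L h0 h1 hL
    obtain ⟨Φ', hΦ', hact⟩ := exists_acts_of_parts h hu L h0 h1
    let Φ := w • ∑ x, σ x * Φ' * σ x⁻¹
    have hc1 : Commute Φ Z := by
      refine Commute.smul_left (Commute.sum_left _ _ _ fun x _ => ?_) w
      obtain ⟨s, -, hs⟩ := hσ x
      obtain ⟨t, -, ht⟩ := hσ x⁻¹
      have hZst : Z = Z ^ (s * t) := by
        have : σ x * (σ x⁻¹ * Z) = Z ^ (s * t) * (σ x * σ x⁻¹) := by
          rw [ht, ← mul_assoc, normalises_pow hs, mul_assoc]
        rwa [← mul_assoc, ← map_mul, mul_inv_cancel, map_one, one_mul, mul_one] at this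
      show σ x * Φ' * σ x⁻¹ * Z = Z * (σ x * Φ' * σ x⁻¹)
      rw [mul_assoc, ht, ← mul_assoc, mul_assoc (σ x) Φ', (hΦ'.pow_right t).eq, ← mul_assoc,
        normalises_pow hs, ← hZst]
      simp only [mul_assoc]
    have hc2 : ∀ y, Commute Φ (σ y) := by
      intro y
      refine Commute.smul_left ?_ w
      show (∑ x, σ x * Φ' * σ x⁻¹) * σ y = σ y * ∑ x, σ x * Φ' * σ x⁻¹
      rw [Finset.sum_mul, Finset.mul_sum]
      refine Fintype.sum_equiv (Equiv.mulLeft y⁻¹) _ _ fun x => ?_
      simp only [Equiv.coe_mulLeft, ← mul_assoc, ← map_mul]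
      rw [mul_inv_cancel, one_mul, mul_assoc, ← map_mul, _root_.mul_inv_rev, inv_inv]
    have hterm : ∀ x, Acts p Z (σ x * Φ' * σ x⁻¹) L := fun x => by
      have := ((hU x).mul hact).mul (hU x⁻¹)
      rwa [← (hL x).eq, mul_assoc L, ← hUmul, mul_inv_cancel, hU1, mul_one] at this
    have hΦL : Acts p Z Φ L := by
      have := (Acts.sum Finset.univ fun x _ => hterm x).smul w
      rwa [Finset.sum_const, Finset.card_univ, ← Nat.cast_smul_eq_nsmul (ResidueField O),
        smul_smul, ← map_natCast (residue O), ← map_mul, hw, map_one, one_smul] at this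
    exact hloc Φ L hc1 hc2 hΦL
  -- one of the parts vanishes
  have hpart : part0 p Z = ⊥ ∨ part1 p Z = ⊥ := by
    by_contra hcon
    push Not at hcon
    have hcompl : IsCompl (part0 p Z) (part1 p Z) :=
      ⟨disjoint_iff.2 (disjoint_parts h hu), codisjoint_iff.2 (codisjoint_parts h hu)⟩
    let π := (part0 p Z).subtype.comp (Submodule.projectionOnto _ _ hcompl)
    have hπ0 : ∀ x ∈ part0 p Z, π x = x := fun x hx => by
      show ((Submodule.projectionOnto _ _ hcompl x : ↥(part0 p Z)) : Hq p Z) = x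
      rw [Submodule.projectionOnto_apply_of_mem_left hcompl hx]
    have hπ1 : ∀ x ∈ part1 p Z, π x = 0 := fun x hx => by
      show ((Submodule.projectionOnto _ _ hcompl x : ↥(part0 p Z)) : Hq p Z) = 0
      rw [Submodule.projectionOnto_apply_of_mem_right hcompl hx]; rfl
    have hcomm : ∀ x, Commute π (U x) := fun x => LinearMap.ext fun u => by
      obtain ⟨a, ha, b, hb, rfl⟩ := Submodule.mem_sup.1
        (show u ∈ part0 p Z ⊔ part1 p Z from codisjoint_parts h hu ▸ Submodule.mem_top)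
      simp only [Module.End.mul_apply, map_add, hπ0 a ha, hπ1 b hb,
        hπ0 _ ((hσ x).part0_stable h (hU x) a ha), hπ1 _ ((hσ x).part1_stable h (hU x) b hb),
        map_zero]
    obtain ⟨a, N, hN⟩ := key π (fun x hx => by rw [hπ0 x hx]; exact hx)
      (fun x hx => by rw [hπ1 x hx]; exact zero_mem _) hcomm
    obtain ⟨x, hx, hx0⟩ := Submodule.exists_mem_ne_zero_of_ne_bot hcon.1
    obtain ⟨y, hy, hy0⟩ := Submodule.exists_mem_ne_zero_of_ne_bot hcon.2
    have eig : ∀ (z : Hq p Z) (l : ResidueField O), π z = l • z → z ≠ 0 → l = a := by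
      intro z l hl hz
      have : ∀ j : ℕ, ((π - a • 1) ^ j) z = (l - a) ^ j • z := fun j => by
        induction j with
        | zero => simp
        | succ j ih =>
          rw [pow_succ', Module.End.mul_apply, ih, map_smul, LinearMap.sub_apply,
            LinearMap.smul_apply, Module.End.one_apply, hl, ← sub_smul, smul_smul, pow_succ]
      have := this N
      rw [hN, LinearMap.zero_apply, eq_comm, smul_eq_zero] at this
      exact sub_eq_zero.1 (eq_zero_of_pow_eq_zero (this.resolve_right hz))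
    have e1 := eig x 1 (by rw [hπ0 x hx, one_smul]) hx0
    have e2 := eig y 0 (by rw [hπ1 y hy, zero_smul]) hy0
    exact one_ne_zero (e1.trans e2.symm)
  have hall : ∀ L : Hq p Z →ₗ[ResidueField O] Hq p Z, (∀ x, Commute L (U x)) →
      ∃ (a : ResidueField O) (N : ℕ), (L - a • 1) ^ N = 0 := by
    intro L hL
    have htop := codisjoint_parts h hu
    refine key L ?_ ?_ hL
    · rcases hpart with e | e
      · rw [e]; intro x hx; rw [(Submodule.mem_bot _).1 hx, map_zero]; exact zero_mem _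
      · rw [e, sup_bot_eq] at htop; rw [htop]; exact fun _ _ => Submodule.mem_top
    · rcases hpart with e | e
      · rw [e, bot_sup_eq] at htop; rw [htop]; exact fun _ _ => Submodule.mem_top
      · rw [e]; intro x hx; rw [(Submodule.mem_bot _).1 hx, map_zero]; exact zero_mem _
  have hscal : ∀ x, ∃ a : ResidueField O, U x = a • 1 := fun x => by
    obtain ⟨a, N, hN⟩ := hall (U x) fun y => hab x y _ _ (hU x) (hU y)
    refine ⟨a, eq_smul_one_of_pow_eq_one hcard ?_ hN⟩
    have : ∀ j : ℕ, U (x ^ j) = U x ^ j := fun j => by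
      induction j with
      | zero => rw [pow_zero, pow_zero, hU1]
      | succ j ih => rw [pow_succ, pow_succ, hUmul, ih]
    rw [← this, pow_card_eq_one, hU1]
  rw [← finrank_Hq h]
  by_contra hlt
  let b := Module.finBasis (ResidueField O) (Hq p Z)
  let L : Hq p Z →ₗ[ResidueField O] Hq p Z := (b.coord ⟨0, by omega⟩).smulRight (b ⟨0, by omega⟩)
  obtain ⟨a, N, hN⟩ := hall L fun x => by
    obtain ⟨c, hc⟩ := hscal x
    rw [hc]
    exact (Commute.one_right L).smul_right c
  have eig : ∀ (z : Hq p Z) (l : ResidueField O), L z = l • z → z ≠ 0 → l = a := by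
    intro z l hl hz
    have : ∀ j : ℕ, ((L - a • 1) ^ j) z = (l - a) ^ j • z := fun j => by
      induction j with
      | zero => simp
      | succ j ih =>
        rw [pow_succ', Module.End.mul_apply, ih, map_smul, LinearMap.sub_apply,
          LinearMap.smul_apply, Module.End.one_apply, hl, ← sub_smul, smul_smul, pow_succ]
    have := this N
    rw [hN, LinearMap.zero_apply, eq_comm, smul_eq_zero] at this
    exact sub_eq_zero.1 (eq_zero_of_pow_eq_zero (this.resolve_right hz))
  have e1 := eig (b ⟨0, by omega⟩) 1 (by simp [L]) (b.ne_zero _)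
  have e2 := eig (b ⟨1, by omega⟩) 0 (by simp [L]) (b.ne_zero _)
  exact one_ne_zero (e1.trans e2.symm)

end Cfsg.Agent.H31.Defect
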