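import Mathlib
import Cfsg.Agent.H31.Defect.Realizers

/-!
Averaging over the cosets of the normaliser of a subgroup of order `p` moves nothing on the
Tate cohomology; hence a representation with scalar-plus-nilpotent centraliser has Tate
cohomology of dimension at most one.
-/

set_option autoImplicit false
set_option linter.unusedSectionVars false

namespace Cfsg.Agent.H31.Defect

open Module IsLocalRing Matrix

variable {G : Type*} [Group G] {p : ℕ} [hp : Fact p.Prime] {z : G}

/-- Conjugates of a generator of a subgroup of order `p` by its normaliser. -/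
theorem exists_exp_of_mem_normalizer (hz : orderOf z = p) {g : G}
    (hg : g ∈ Subgroup.normalizer ((Subgroup.zpowers z : Subgroup G) : Set G)) :
    ∃ s : ℕ, s < p ∧ ¬ p ∣ s ∧ g * z * g⁻¹ = z ^ s := by
  classical
  have hfin : IsOfFinOrder z := orderOf_pos_iff.1 (hz ▸ hp.out.pos)
  have h1 : g * z * g⁻¹ ∈ Subgroup.zpowers z :=
    (Subgroup.mem_normalizer_iff.1 hg z).1 (Subgroup.mem_zpowers z)
  obtain ⟨s, hs, e⟩ := (hfin.mem_zpowers_iff_mem_range_orderOf).1 h1 |> Finset.mem_image.1
  rw [hz, Finset.mem_range] at hs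
  refine ⟨s, hs, fun hd => ?_, e.symm⟩
  obtain rfl : s = 0 := Nat.eq_zero_of_dvd_of_lt hd hs
  simp only [pow_zero] at e
  have : z = 1 := by
    have h2 := congrArg (fun x => g⁻¹ * x * g) e
    simpa [mul_assoc] using h2.symm
  rw [this, orderOf_one] at hz
  exact hp.out.one_lt.ne hz

/-- The normaliser has no further elements of order `p`. -/
theorem mem_zpowers_of_mem_normalizer [Finite G] (hz : orderOf z = p)
    (hsq : ¬ p ^ 2 ∣ Nat.card G) {x : G}
    (hx : x ∈ Subgroup.normalizer ((Subgroup.zpowers z : Subgroup G) : Set G)) (hxp : x ^ p = 1) :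
    x ∈ Subgroup.zpowers z := by
  set N := Subgroup.normalizer ((Subgroup.zpowers z : Subgroup G) : Set G)
  set Q := (Subgroup.zpowers z).subgroupOf N with hQ
  haveI : Q.Normal := Subgroup.normal_in_normalizer
  have hcard : Nat.card Q = p := by
    rw [hQ, Nat.card_congr (Subgroup.subgroupOfEquivOfLe Subgroup.le_normalizer).toEquiv,
      Nat.card_zpowers, hz]
  have hidx : ¬ p ∣ Nat.card (N ⧸ Q) := by
    intro hd
    apply hsq
    have := Q.card_eq_card_quotient_mul_card_subgroup
    rw [hcard] at this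
    exact (pow_two p ▸ mul_dvd_mul hd dvd_rfl : p ^ 2 ∣ Nat.card (N ⧸ Q) * p).trans
      (this ▸ Subgroup.card_subgroup_dvd_card N)
  have h1 : ((⟨x, hx⟩ : N) : N ⧸ Q) ^ p = 1 := by
    rw [← QuotientGroup.mk_pow, show (⟨x, hx⟩ : N) ^ p = 1 from Subtype.ext (by simpa using hxp),
      QuotientGroup.mk_one]
  have h2 : orderOf ((⟨x, hx⟩ : N) : N ⧸ Q) = 1 := by
    rcases (Nat.dvd_prime hp.out).1 (orderOf_dvd_of_pow_eq_one h1) with h | h
    · exact h
    · exact absurd (h ▸ orderOf_dvd_natCard _) hidx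
  rw [orderOf_eq_one_iff, QuotientGroup.eq_one_iff] at h2
  simpa [Q, Subgroup.mem_subgroupOf] using h2

/-- Powers prime to `p` of `z` move every coset of the normaliser but one. -/
theorem mem_normalizer_of_fixed [Finite G] (hz : orderOf z = p) (hsq : ¬ p ^ 2 ∣ Nat.card G)
    {g : G} {j : ℕ} (hj : ¬ p ∣ j)
    (hfix : g⁻¹ * z ^ j * g ∈ Subgroup.normalizer ((Subgroup.zpowers z : Subgroup G) : Set G)) :
    g ∈ Subgroup.normalizer ((Subgroup.zpowers z : Subgroup G) : Set G) := by
  have hzj : orderOf (z ^ j) = p := by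
    rw [orderOf_pow' z (fun e => hj (by rw [e]; exact dvd_zero p)), hz,
      show Nat.gcd p j = 1 from (hp.out.coprime_iff_not_dvd).2 hj, Nat.div_one]
  have hop : (g⁻¹ * z ^ j * g) ^ p = 1 := by
    have e : g⁻¹ * z ^ j * g = g⁻¹ * z ^ j * g⁻¹⁻¹ := by rw [inv_inv]
    rw [e, conj_pow, ← hzj, pow_orderOf_eq_one, mul_one, mul_inv_cancel]
  have hmem := mem_zpowers_of_mem_normalizer hz hsq hfix hop
  have hle : Subgroup.zpowers (z ^ j) = Subgroup.zpowers z :=
    Subgroup.eq_of_le_of_card_ge
      (Subgroup.zpowers_le.2 (Subgroup.pow_mem _ (Subgroup.mem_zpowers z) _))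
      (by rw [Nat.card_zpowers, Nat.card_zpowers, hzj, hz])
  have hinv : g⁻¹ ∈ Subgroup.normalizer ((Subgroup.zpowers z : Subgroup G) : Set G) := by
    have hmap : (Subgroup.zpowers z).map (MulAut.conj g⁻¹).toMonoidHom = Subgroup.zpowers z := by
      refine Subgroup.eq_of_le_of_card_ge ?_ ?_
      · rw [← hle, MonoidHom.map_zpowers, Subgroup.zpowers_le, hle]
        simpa using hmem
      · rw [Nat.card_congr ((Subgroup.zpowers z).equivMapOfInjective (MulAut.conj g⁻¹).toMonoidHom
          (MulAut.conj g⁻¹).injective).toEquiv]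
    rw [Subgroup.mem_normalizer_iff]
    intro x
    constructor
    · intro hx
      rw [← hmap]
      exact ⟨x, hx, by simp⟩
    · intro hx
      rw [← hmap] at hx
      obtain ⟨y, hy, e⟩ := hx
      simp only [MulEquiv.coe_toMonoidHom, MulAut.conj_apply, inv_inv] at e
      simp only [inv_inv, mul_left_inj, mul_right_inj] at e
      exact e ▸ hy
  simpa using Subgroup.inv_mem _ hinv

variable {K : Type*} [Field K] {O : ValuationSubring K}
variable {n : Type*} [Fintype n] [DecidableEq n]

/-- A sum over regular orbits of `Z` annihilates the cohomology. -/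
theorem sum_free_orbits_mem {α : Type*} [MulAction G α] (hz : orderOf z = p) {Z : Matrix n n O}
    (hZ : OrderP O p Z) (A : α → Matrix n n O) (hA : ∀ q, A (z • q) * Z = Z * A q) :
    ∀ (m : ℕ) (S : Finset α), S.card ≤ m → (∀ q ∈ S, z • q ∈ S) →
      (∀ q ∈ S, ∀ j : ℕ, ¬ p ∣ j → z ^ j • q ≠ q) →
      ∀ v ∈ kerT p Z, Matrix.toLin' (red O n (∑ q ∈ S, A q)) v ∈ imN Z := by
  classical
  intro m
  induction m with
  | zero =>
    intro S hS _ _ v _
    rw [Finset.card_eq_zero.1 (Nat.le_zero.1 hS), Finset.sum_empty, map_zero, map_zero]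
    exact zero_mem _
  | succ m ih =>
    intro S hS hst hfree v hv
    rcases S.eq_empty_or_nonempty with rfl | ⟨q₀, hq₀⟩
    · rw [Finset.sum_empty, map_zero, map_zero]; exact zero_mem _
    have hpow : ∀ j : ℕ, z ^ j • q₀ ∈ S := fun j => by
      induction j with
      | zero => simpa using hq₀
      | succ j ihj => rw [pow_succ', mul_smul]; exact hst _ ihj
    set T := (Finset.range p).image fun j => z ^ j • q₀ with hT
    have hzp : z ^ p = 1 := hz ▸ pow_orderOf_eq_one z
    have hinj : Set.InjOn (fun j => z ^ j • q₀) (Finset.range p) := by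
      intro a ha b hb hab
      simp only [Finset.coe_range, Set.mem_Iio] at ha hb
      dsimp only at hab
      rcases le_total a b with hle | hle
      · by_contra hne
        refine hfree _ (hpow a) (b - a) ?_ ?_
        · intro hd; have := Nat.le_of_dvd (by omega) hd; omega
        · rw [← mul_smul, ← pow_add, Nat.sub_add_cancel hle]; exact hab.symm
      · by_contra hne
        refine hfree _ (hpow b) (a - b) ?_ ?_
        · intro hd; have := Nat.le_of_dvd (by omega) hd; omega
        · rw [← mul_smul, ← pow_add, Nat.sub_add_cancel hle]; exact hab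
    have hTS : T ⊆ S := fun x hx => by
      obtain ⟨j, -, rfl⟩ := Finset.mem_image.1 hx; exact hpow j
    have hTst : ∀ x, z • x ∈ T → x ∈ T := by
      intro x hx
      obtain ⟨j, -, e⟩ := Finset.mem_image.1 hx
      refine Finset.mem_image.2 ⟨(j + (p - 1)) % p, Finset.mem_range.2 (Nat.mod_lt _ hp.out.pos), ?_⟩
      rw [← hz, pow_mod_orderOf, hz, add_comm, pow_add, mul_smul, e, ← mul_smul, ← pow_succ,
        Nat.sub_add_cancel hp.out.one_le, hzp, one_smul]
    have hrest := ih (S \ T) ?_ ?_ ?_ v hv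
    · rw [← Finset.sum_sdiff hTS, map_add, map_add, LinearMap.add_apply]
      refine add_mem hrest ?_
      rw [hT, Finset.sum_image hinj]
      -- one orbit
      have hZi : Z * Z ^ (p - 1) = 1 := by
        rw [← pow_succ', Nat.sub_add_cancel hp.out.one_le, hZ.pow]
      have hterm : ∀ j, A (z ^ j • q₀) = Z ^ j * A q₀ * (Z ^ (p - 1)) ^ j := by
        intro j
        induction j with
        | zero => simp
        | succ j ihj =>
          have h := hA (z ^ j • q₀)
          rw [← mul_smul, ← pow_succ'] at h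
          calc A (z ^ (j + 1) • q₀) = A (z ^ (j + 1) • q₀) * (Z * Z ^ (p - 1)) := by
                rw [hZi, mul_one]
            _ = Z * A (z ^ j • q₀) * Z ^ (p - 1) := by rw [← mul_assoc, h]
            _ = _ := by rw [ihj, pow_succ' Z, pow_succ (Z ^ (p - 1))]; simp only [mul_assoc]
      have hred : ∀ j, red O n (A (z ^ j • q₀)) =
          red O n Z ^ j * (red O n (A q₀) * (red O n (Z ^ (p - 1))) ^ j) := fun j => by
        rw [hterm j, map_mul (red O n), map_mul (red O n), map_pow (red O n), map_pow (red O n),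
          mul_assoc]
      rw [map_sum, map_sum, LinearMap.sum_apply,
        Finset.sum_congr rfl fun j _ => by rw [hred j, Matrix.toLin'_mul, LinearMap.comp_apply]]
      have e1 : ∀ j, Matrix.toLin' (red O n Z ^ j) (Matrix.toLin' (red O n (A q₀) *
            (red O n (Z ^ (p - 1))) ^ j) v) -
          Matrix.toLin' (red O n (A q₀) * (red O n (Z ^ (p - 1))) ^ j) v ∈ imN Z :=
        fun j => pow_mulVec_sub_mem j _
      have e2 : ∑ j ∈ Finset.range p,
          Matrix.toLin' (red O n (A q₀) * (red O n (Z ^ (p - 1))) ^ j) v = 0 := by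
        rw [← LinearMap.sum_apply, ← map_sum, ← Finset.mul_sum, map_pow]
        simp only [← pow_mul]
        rw [sum_pow_mul_eq hZ.red_pow, hZ.trace_eq, Matrix.toLin'_mul, LinearMap.comp_apply]
        · rw [kerT, LinearMap.mem_ker] at hv
          rw [hv, map_zero]
        · intro hd
          have := hp.out.two_le
          have := Nat.le_of_dvd (by omega) hd
          omega
      have := Submodule.sum_mem (imN Z) (t := Finset.range p) fun j _ => e1 j
      rwa [Finset.sum_sub_distrib, e2, sub_zero] at this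
    · have h0 : 0 < T.card := Finset.card_pos.2
        ⟨_, Finset.mem_image_of_mem _ (Finset.mem_range.2 hp.out.pos)⟩
      rw [Finset.card_sdiff_of_subset hTS]
      omega
    · intro q hq
      rw [Finset.mem_sdiff] at hq ⊢
      exact ⟨hst q hq.1, fun h => hq.2 (hTst q h)⟩
    · exact fun q hq => hfree q (Finset.mem_sdiff.1 hq).1

/-- Every endomorphism commuting with the normaliser agrees on the cohomology with one commuting
with the whole group. -/
theorem exists_commute_acts [Finite G] (hz : orderOf z = p) (hsq : ¬ p ^ 2 ∣ Nat.card G)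
    (R : G →* Matrix n n O) (hZ : OrderP O p (R z)) {Φ : Matrix n n O}
    (hΦ : ∀ g ∈ Subgroup.normalizer ((Subgroup.zpowers z : Subgroup G) : Set G),
      Commute Φ (R g))
    {ψ : Hq p (R z) →ₗ[ResidueField O] Hq p (R z)} (hψ : Acts p (R z) Φ ψ) :
    ∃ Φ' : Matrix n n O, (∀ g, Commute Φ' (R g)) ∧ Acts p (R z) Φ' ψ := by
  classical
  set N := Subgroup.normalizer ((Subgroup.zpowers z : Subgroup G) : Set G) with hN
  let _ : Fintype (G ⧸ N) := Fintype.ofFinite _
  let A : G ⧸ N → Matrix n n O := fun q => R q.out * Φ * R q.out⁻¹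
  have hAg : ∀ g : G, A (g : G ⧸ N) = R g * Φ * R g⁻¹ := by
    intro g
    obtain ⟨h, hh⟩ := QuotientGroup.mk_out_eq_mul N g
    show R (g : G ⧸ N).out * Φ * R (g : G ⧸ N).out⁻¹ = _
    rw [hh, map_mul, _root_.mul_inv_rev, map_mul, mul_assoc (R g), ← (hΦ _ h.2).eq,
      mul_assoc (R g), mul_assoc Φ, ← mul_assoc (R (h : G)), ← map_mul, mul_inv_cancel, map_one,
      one_mul, mul_assoc]
  have hequiv : ∀ (x : G) (q : G ⧸ N), A (x • q) * R x = R x * A q := by
    intro x q
    obtain ⟨g, rfl⟩ := QuotientGroup.mk_surjective q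
    rw [MulAction.Quotient.smul_coe, hAg, hAg, smul_eq_mul]
    have e : R (x * g)⁻¹ * R x = R g⁻¹ := by
      rw [← map_mul]
      congr 1
      group
    rw [mul_assoc, e, map_mul]
    simp only [mul_assoc]
  refine ⟨∑ q, A q, fun x => ?_, fun v => ?_⟩
  · show (∑ q, A q) * R x = R x * ∑ q, A q
    rw [Finset.sum_mul, Finset.mul_sum]
    refine (Fintype.sum_equiv (MulAction.toPerm x) _ _ fun q => ?_).symm
    exact (hequiv x q).symm
  · obtain ⟨w, hw, ew⟩ := hψ v
    set q₁ : G ⧸ N := ((1 : G) : G ⧸ N) with hq₁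
    have hA1 : A q₁ = Φ := by rw [hq₁, hAg]; simp
    have hzN : z ∈ N := Subgroup.le_normalizer (Subgroup.mem_zpowers z)
    have hfix : z • q₁ = q₁ := by
      rw [hq₁, MulAction.Quotient.smul_coe, QuotientGroup.eq]
      simpa using hzN
    have hrest := sum_free_orbits_mem hz hZ A (fun q => hequiv z q) _ (Finset.univ.erase q₁) le_rfl
      (fun q hq => Finset.mem_erase.2 ⟨fun e => Finset.ne_of_mem_erase hq
        (MulAction.injective z (e.trans hfix.symm)), Finset.mem_univ _⟩) ?_ (v : n → ResidueField O) v.2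
    · refine ⟨w + ⟨_, imN_le_kerT hZ hrest⟩, ?_, ?_⟩
      · rw [Submodule.coe_add, hw, ← Finset.add_sum_erase _ _ (Finset.mem_univ q₁), map_add,
          map_add, LinearMap.add_apply, hA1]
      · rw [map_add, ew, (cls_eq_zero (v := ⟨_, imN_le_kerT hZ hrest⟩)).2 hrest, add_zero]
    · intro q hq j hj e
      obtain ⟨g, rfl⟩ := QuotientGroup.mk_surjective q
      refine Finset.ne_of_mem_erase hq ?_
      rw [MulAction.Quotient.smul_coe, smul_eq_mul, QuotientGroup.eq, _root_.mul_inv_rev] at e
      have hmem : g⁻¹ * z ^ j * g ∈ N := by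
        have := N.inv_mem e
        simpa [mul_assoc] using this
      rw [hq₁, QuotientGroup.eq, mul_one]
      exact N.inv_mem (mem_normalizer_of_fixed hz hsq hj hmem)

/-- The centraliser of the representation is scalar plus nilpotent modulo the maximal ideal. -/
def LocalEnd (R : G →* Matrix n n O) : Prop :=
  ∀ Φ : Matrix n n O, (∀ g, Commute Φ (R g)) →
    ∃ (a : O) (N : ℕ), red O n (Φ - a • 1) ^ N = 0

theorem Acts.of_red_eq_zero {Z A : Matrix n n O} (hA : red O n A = 0) : Acts p Z A 0 :=
  fun v => ⟨0, by simp [hA], by simp⟩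

/-- Endomorphisms commuting with the normaliser are scalar plus nilpotent on the cohomology. -/
theorem local_on_cohomology [Finite G] (hz : orderOf z = p) (hsq : ¬ p ^ 2 ∣ Nat.card G)
    (R : G →* Matrix n n O) (hZ : OrderP O p (R z)) (hR : LocalEnd R) {Φ : Matrix n n O}
    (hΦ : ∀ g ∈ Subgroup.normalizer ((Subgroup.zpowers z : Subgroup G) : Set G),
      Commute Φ (R g))
    {ψ : Hq p (R z) →ₗ[ResidueField O] Hq p (R z)} (hψ : Acts p (R z) Φ ψ) :
    ∃ (a : ResidueField O) (N : ℕ), (ψ - a • 1) ^ N = 0 := by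
  obtain ⟨Φ', hc, hψ'⟩ := exists_commute_acts hz hsq R hZ hΦ hψ
  obtain ⟨a, N, hN⟩ := hR Φ' hc
  refine ⟨residue O a, N, ?_⟩
  have h1 : Acts p (R z) (Φ' + (-a) • 1) (ψ + residue O (-a) • 1) := hψ'.add (Acts.one.smul _)
  simp only [map_neg, neg_smul, ← sub_eq_add_neg] at h1
  have e : ψ - residue O a • 1 = ψ + (-residue O a) • 1 :=
    LinearMap.ext fun u => by simp [sub_eq_add_neg]
  rw [e]
  exact (h1.pow N).unique (Acts.of_red_eq_zero (by rw [map_pow]; exact hN))

/-- Over an unramified ring a local representation has cohomology of dimension at most one. -/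
theorem hdim_le_one_of_local [CharZero K] [IsPrincipalIdealRing O] [Finite G]
    (hu : ∀ x : O, x ∈ maximalIdeal O → (p : O) ∣ x) (hmem : (p : O) ∈ maximalIdeal O)
    (hz : orderOf z = p) (hsq : ¬ p ^ 2 ∣ Nat.card G) (R : G →* Matrix n n O) (hR : LocalEnd R)
    (H : Subgroup G) (hH : ¬ p ∣ Nat.card H)
    (hHN : H ≤ Subgroup.normalizer ((Subgroup.zpowers z : Subgroup G) : Set G))
    (hNH : Subgroup.normalizer ((Subgroup.zpowers z : Subgroup G) : Set G) ≤
      Subgroup.zpowers z ⊔ H)
    (hab : ∀ x ∈ H, ∀ y ∈ H, ∀ ψ φ : Hq p (R z) →ₗ[ResidueField O] Hq p (R z),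
      Acts p (R z) (R x) ψ → Acts p (R z) (R y) φ → Commute ψ φ) :
    hdim p (R z) ≤ 1 := by
  classical
  let _ : Fintype H := Fintype.ofFinite H
  have hZ : OrderP O p (R z) := ⟨hmem, by rw [← map_pow, ← hz, pow_orderOf_eq_one, map_one]⟩
  refine hdim_le_one hZ hu (H := H) (by rwa [← Nat.card_eq_fintype_card]) (R.comp H.subtype)
    (fun x => ?_) (fun x y ψ φ h1 h2 => hab x.1 x.2 y.1 y.2 ψ φ h1 h2) fun Φ ψ hcZ hcH hact => ?_
  · obtain ⟨s, -, hs, e⟩ := exists_exp_of_mem_normalizer hz (hHN x.2)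
    refine ⟨s, hs, ?_⟩
    show R x.1 * R z = R z ^ s * R x.1
    rw [← map_pow, ← map_mul, ← map_mul, ← e, inv_mul_cancel_right]
  · refine local_on_cohomology hz hsq R hZ hR (fun g hg => ?_) hact
    refine Subgroup.closure_induction (k := (Subgroup.zpowers z : Set G) ∪ (H : Set G))
      (p := fun g _ => Commute Φ (R g)) ?_ (by simpa using Commute.one_right Φ)
      (fun a b _ _ ha hb => by rw [map_mul]; exact ha.mul_right hb) (fun a _ ha => ?_)
      ((Subgroup.sup_eq_closure _ _).le (hNH hg))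
    · rintro g (hg | hg)
      · obtain ⟨i, rfl⟩ := (orderOf_pos_iff.1 (hz ▸ hp.out.pos : 0 < orderOf z)
          ).powers_eq_zpowers.symm.le hg
        simpa using hcZ.pow_right i
      · exact hcH ⟨g, hg⟩
    · show Φ * R a⁻¹ = R a⁻¹ * Φ
      calc Φ * R a⁻¹ = R a⁻¹ * R a * Φ * R a⁻¹ := by
            rw [← map_mul, inv_mul_cancel, map_one, one_mul]
        _ = R a⁻¹ * Φ * (R a * R a⁻¹) := by
            rw [mul_assoc (R a⁻¹), ← ha.eq]; simp only [mul_assoc]
        _ = R a⁻¹ * Φ := by rw [← map_mul, mul_inv_cancel, map_one, mul_one]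

end Cfsg.Agent.H31.Defect
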