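import Mathlib
import Cfsg.Agent.H30.SelfCentralizingPrime
import Cfsg.Agent.H26.CharOrtho
import Cfsg.Agent.H31.Defect.Higman

/-!
The centraliser and normaliser of a subgroup of order `p`, and the orthogonality relations of
the multiplicities of its linear characters.
-/

set_option autoImplicit false
set_option linter.unusedSectionVars false

namespace Cfsg.Agent.H31.Defect

open Finset
open scoped ComplexConjugate

variable {G : Type*} [Group G] {p : ℕ} [hp : Fact p.Prime] {z : G}

/-- An element of prime order `p` with `p² ∤ |G|`, with complements in its centraliser and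
normaliser. -/
structure Parts (p : ℕ) (z : G) (V H : Subgroup G) : Prop where
  ord : orderOf z = p
  sq : ¬ p ^ 2 ∣ Nat.card G
  le_cent : V ≤ Subgroup.centralizer ({z} : Set G)
  le_H : V ≤ H
  H_le : H ≤ Subgroup.normalizer ((Subgroup.zpowers z : Subgroup G) : Set G)
  N_le : Subgroup.normalizer ((Subgroup.zpowers z : Subgroup G) : Set G) ≤ Subgroup.zpowers z ⊔ H
  ndvd : ¬ p ∣ Nat.card H
  cover : ∀ x ∈ Subgroup.centralizer ({z} : Set G), ∃ i : ℕ, ∃ v ∈ V, x = z ^ i * v
  normal : ∀ g ∈ Subgroup.normalizer ((Subgroup.zpowers z : Subgroup G) : Set G),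
    ∀ v ∈ V, g * v * g⁻¹ ∈ V
  comm : ∀ a ∈ H, ∀ b ∈ H, a * b * a⁻¹ * b⁻¹ ∈ V

theorem mem_normalizer_of_conj_eq [Finite G] (hz : orderOf z = p) {g : G} {s : ℕ}
    (h : g * z * g⁻¹ = z ^ s) :
    g ∈ Subgroup.normalizer ((Subgroup.zpowers z : Subgroup G) : Set G) := by
  have e : (Subgroup.zpowers z).map (MulAut.conj g).toMonoidHom = Subgroup.zpowers z := by
    rw [MonoidHom.map_zpowers]
    refine Subgroup.eq_of_le_of_card_ge (Subgroup.zpowers_le.mpr ?_) ?_
    · show g * z * g⁻¹ ∈ _
      rw [h]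
      exact Subgroup.pow_mem _ (Subgroup.mem_zpowers z) _
    · rw [Nat.card_zpowers, Nat.card_zpowers]
      exact (orderOf_injective (MulAut.conj g).toMonoidHom (MulAut.conj g).injective z).ge
  rw [Subgroup.mem_normalizer_iff]
  intro x
  constructor
  · intro hx; rw [← e]; exact ⟨x, hx, rfl⟩
  · intro hx
    rw [← e] at hx
    obtain ⟨y, hy, hy'⟩ := hx
    exact (MulAut.conj g).injective hy' ▸ hy

theorem exists_parts [Finite G] (hz : orderOf z = p) (hsq : ¬ p ^ 2 ∣ Nat.card G) :
    ∃ V H : Subgroup G, Parts p z V H := by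
  classical
  set N := Subgroup.normalizer ((Subgroup.zpowers z : Subgroup G) : Set G) with hN
  set Q := (Subgroup.zpowers z).subgroupOf N with hQ
  haveI : Q.Normal := Subgroup.normal_in_normalizer
  have hcard : Nat.card Q = p := by
    rw [hQ, Nat.card_congr (Subgroup.subgroupOfEquivOfLe Subgroup.le_normalizer).toEquiv,
      Nat.card_zpowers, hz]
  have hidx : ¬ p ∣ Q.index := by
    intro hd
    refine hsq (dvd_trans ?_ (Subgroup.card_subgroup_dvd_card N))
    rw [pow_two, ← Q.card_mul_index, hcard]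
    exact mul_dvd_mul dvd_rfl hd
  obtain ⟨H', hH'⟩ := Subgroup.exists_right_complement'_of_coprime (N := Q)
    (by rw [hcard]; exact (hp.out.coprime_iff_not_dvd).2 hidx)
  set H := H'.map N.subtype with hHdef
  have hHN : H ≤ N := Subgroup.map_subtype_le H'
  have hdec : ∀ g ∈ N, ∃ i : ℕ, ∃ h ∈ H, g = z ^ i * h := by
    intro g hg
    obtain ⟨⟨⟨a, ha⟩, ⟨b, hb⟩⟩, e⟩ := hH'.2 ⟨g, hg⟩
    obtain ⟨i, hi⟩ := (orderOf_pos_iff.1 (hz ▸ hp.out.pos : 0 < orderOf z)
      ).powers_eq_zpowers.symm.le (Subgroup.mem_subgroupOf.1 ha)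
    refine ⟨i, b, ⟨b, hb, rfl⟩, ?_⟩
    have := congrArg Subtype.val e
    simp only [Subgroup.coe_mul] at this
    rw [← this]
    exact congrArg (· * (b : G)) hi.symm
  have hconj : ∀ g ∈ N, ∀ x ∈ Subgroup.centralizer ({z} : Set G),
      g * x * g⁻¹ ∈ Subgroup.centralizer ({z} : Set G) := by
    intro g hg x hx
    obtain ⟨s, -, -, e⟩ := exists_exp_of_mem_normalizer hz (N.inv_mem hg)
    rw [inv_inv] at e
    rw [Subgroup.mem_centralizer_singleton_iff] at hx ⊢
    have hxs : x * z ^ s = z ^ s * x := (Commute.pow_right hx s).eq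
    calc g * x * g⁻¹ * z = g * x * (g⁻¹ * z * g) * g⁻¹ := by group
      _ = g * (z ^ s * x) * g⁻¹ := by rw [e, mul_assoc g x, hxs]
      _ = g * ((g⁻¹ * z * g) * x) * g⁻¹ := by rw [e]
      _ = z * (g * x * g⁻¹) := by group
  refine ⟨H ⊓ Subgroup.centralizer ({z} : Set G), H, hz, hsq, inf_le_right, inf_le_left, hHN,
    ?_, ?_, ?_, ?_, ?_⟩
  · intro g hg
    obtain ⟨i, h, hh, rfl⟩ := hdec g hg
    exact Subgroup.mul_mem _ (Subgroup.mem_sup_left (Subgroup.pow_mem _ (Subgroup.mem_zpowers z) i))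
      (Subgroup.mem_sup_right hh)
  · rw [hHdef, Nat.card_congr (H'.equivMapOfInjective _ N.subtype_injective).symm.toEquiv]
    rw [← hH'.symm.index_eq_card] 
    exact hidx
  · intro x hx
    have hxN : x ∈ N := mem_normalizer_of_conj_eq hz (s := 1) (by
      rw [Subgroup.mem_centralizer_singleton_iff.1 hx, pow_one, mul_inv_cancel_right])
    obtain ⟨i, h, hh, rfl⟩ := hdec x hxN
    refine ⟨i, h, ⟨hh, ?_⟩, rfl⟩
    have := Subgroup.mul_mem _ (Subgroup.inv_mem _ (Subgroup.pow_mem _
      (Subgroup.mem_centralizer_singleton_iff.2 rfl : z ∈ Subgroup.centralizer ({z} : Set G)) i)) hx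
    simpa using this
  · intro g hg v hv
    obtain ⟨i, h, hh, rfl⟩ := hdec g hg
    have h1 : h * v * h⁻¹ ∈ Subgroup.centralizer ({z} : Set G) := hconj h (hHN hh) v hv.2
    have h2 : z ^ i * (h * v * h⁻¹) = h * v * h⁻¹ * z ^ i :=
      (Commute.pow_left (Subgroup.mem_centralizer_singleton_iff.1 h1).symm i).eq
    rw [show z ^ i * h * v * (z ^ i * h)⁻¹ = z ^ i * (h * v * h⁻¹) * (z ^ i)⁻¹ by group, h2,
      mul_inv_cancel_right]
    exact ⟨H.mul_mem (H.mul_mem hh hv.1) (H.inv_mem hh), h1⟩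
  · intro a ha b hb
    refine ⟨H.mul_mem (H.mul_mem (H.mul_mem ha hb) (H.inv_mem ha)) (H.inv_mem hb), ?_⟩
    obtain ⟨s, -, -, ea⟩ := exists_exp_of_mem_normalizer hz (hHN ha)
    obtain ⟨t, -, -, eb⟩ := exists_exp_of_mem_normalizer hz (hHN hb)
    have h1 : a * b * z * (a * b)⁻¹ = b * a * z * (b * a)⁻¹ := by
      rw [show a * b * z * (a * b)⁻¹ = a * (b * z * b⁻¹) * a⁻¹ by group, eb, ← conj_pow, ea,
        show b * a * z * (b * a)⁻¹ = b * (a * z * a⁻¹) * b⁻¹ by group, ea, ← conj_pow, eb,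
        ← pow_mul, ← pow_mul, mul_comm]
    show a * b * a⁻¹ * b⁻¹ ∈ Subgroup.centralizer ({z} : Set G)
    rw [Subgroup.mem_centralizer_singleton_iff]
    have h2 : (b * a)⁻¹ * (a * b) * z = z * ((b * a)⁻¹ * (a * b)) := by
      calc (b * a)⁻¹ * (a * b) * z = (b * a)⁻¹ * (a * b * z * (a * b)⁻¹) * (a * b) := by group
        _ = z * ((b * a)⁻¹ * (a * b)) := by rw [h1]; group
    have h3 := hconj (b * a) (N.mul_mem (hHN hb) (hHN ha)) _
      (Subgroup.mem_centralizer_singleton_iff.2 h2)
    rw [show b * a * ((b * a)⁻¹ * (a * b)) * (b * a)⁻¹ = a * b * a⁻¹ * b⁻¹ by group,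
      Subgroup.mem_centralizer_singleton_iff] at h3
    exact h3

variable {V H : Subgroup G}

theorem Parts.commute (S : Parts p z V H) (v : V) : Commute z (v : G) :=
  (Subgroup.mem_centralizer_singleton_iff.1 (S.le_cent v.2)).symm

theorem Parts.ndvd_V [Finite G] (S : Parts p z V H) : ¬ p ∣ Nat.card V := fun hd =>
  S.ndvd (hd.trans (Subgroup.card_dvd_of_le S.le_H))

theorem zpow_val_eq_iff (hz : orderOf z = p) {i j : ZMod p} : z ^ i.val = z ^ j.val ↔ i = j := by
  refine ⟨fun h => ?_, fun h => h ▸ rfl⟩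
  apply ZMod.val_injective p
  have := pow_inj_mod.mp h
  rwa [hz, Nat.mod_eq_of_lt (ZMod.val_lt i), Nat.mod_eq_of_lt (ZMod.val_lt j)] at this

theorem pow_val_mul (hz : orderOf z = p) (i j : ZMod p) :
    (z ^ i.val) ^ j.val = z ^ (i * j).val := by
  rw [ZMod.val_mul, ← pow_mul]
  conv_lhs => rw [← pow_mod_orderOf, hz]

theorem pow_val_natCast (hz : orderOf z = p) (i : ℕ) : z ^ ((i : ZMod p)).val = z ^ i := by
  rw [ZMod.val_natCast, ← hz, pow_mod_orderOf]

theorem pow_val_add (hz : orderOf z = p) (i j : ZMod p) :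
    z ^ (i + j).val = z ^ i.val * z ^ j.val := by
  rw [ZMod.val_add, ← pow_add]
  conv_rhs => rw [← pow_mod_orderOf, hz]

/-- The exponent of the automorphism of the cyclic subgroup induced by `g`. -/
theorem Parts.exists_autExp (S : Parts p z V H) {g : G}
    (hg : g ∈ Subgroup.normalizer ((Subgroup.zpowers z : Subgroup G) : Set G)) :
    ∃ a : ZMod p, g * z * g⁻¹ = z ^ a.val := by
  obtain ⟨s, -, -, e⟩ := exists_exp_of_mem_normalizer S.ord hg
  exact ⟨(s : ZMod p), by rw [pow_val_natCast S.ord]; exact e⟩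

/-- The `p`-part of `z ^ i * v`. -/
theorem Parts.exists_power [Finite G] (S : Parts p z V H) :
    ∃ w : ℕ, ∀ (i : ℕ) (v : V), (z ^ i * (v : G)) ^ w = z ^ i := by
  obtain ⟨w, hw1, hw0⟩ := Nat.chineseRemainder
    ((hp.out.coprime_iff_not_dvd).2 S.ndvd_V) 1 0
  refine ⟨w, fun i v => ?_⟩
  have hv : (v : G) ^ w = 1 := by
    obtain ⟨q, hq⟩ := Nat.modEq_zero_iff_dvd.1 hw0
    rw [hq, pow_mul, show ((v : G)) ^ Nat.card V = 1 from
      congrArg Subtype.val (pow_card_eq_one' (x := v)), one_pow]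
  rw [((S.commute v).pow_left i).mul_pow, hv, mul_one, ← pow_mul, ← pow_mod_orderOf, S.ord,
    Nat.mul_mod, hw1, Nat.one_mod_eq_one.2 hp.out.ne_one, mul_one, Nat.mod_mod, ← S.ord,
    pow_mod_orderOf]

theorem Parts.orderOf_dvd_iff [Finite G] (S : Parts p z V H) (i : ZMod p) (v : V) :
    p ∣ orderOf (z ^ i.val * (v : G)) ↔ i ≠ 0 := by
  constructor
  · rintro hd rfl
    rw [ZMod.val_zero, pow_zero, one_mul, Subgroup.orderOf_coe] at hd
    exact S.ndvd_V (hd.trans (orderOf_dvd_natCard v))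
  · intro hi
    obtain ⟨w, hw⟩ := S.exists_power
    have h1 : orderOf (z ^ i.val) = p := by
      rw [orderOf_pow' z (by rwa [Ne, ZMod.val_eq_zero]), S.ord,
        show Nat.gcd p i.val = 1 from (hp.out.coprime_iff_not_dvd).2 fun hd => hi
          ((ZMod.val_eq_zero i).1 (Nat.eq_zero_of_dvd_of_lt hd (ZMod.val_lt i))), Nat.div_one]
    conv_lhs => rw [← h1, ← hw i.val v]
    exact orderOf_pow_dvd _

variable [Fintype G]

/-- Every `p`-singular element is conjugate into the centraliser. -/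
theorem Parts.exists_conj (S : Parts p z V H) {g : G} (hg : p ∣ orderOf g) :
    ∃ (i : ZMod p) (v : V), i ≠ 0 ∧ IsConj g (z ^ i.val * (v : G)) := by
  classical
  set q := orderOf g / p
  have hy : orderOf (g ^ q) = p := orderOf_pow_orderOf_div (orderOf_pos g).ne' hg
  have hsylow : ∀ y : G, orderOf y = p → ∃ P : Sylow p G, (P : Subgroup G) = Subgroup.zpowers y := by
    intro y hy
    have h1 : IsPGroup p (Subgroup.zpowers y) := IsPGroup.of_card (n := 1) (by
      rw [Nat.card_zpowers, hy, pow_one])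
    obtain ⟨P, hP⟩ := h1.exists_le_sylow
    refine ⟨P, (Subgroup.eq_of_le_of_card_ge hP ?_).symm⟩
    obtain ⟨k, hk⟩ := P.isPGroup'.exists_card_eq
    rw [Nat.card_zpowers, hy, hk]
    have hk1 : k ≤ 1 := by
      by_contra hlt
      exact S.sq ((pow_dvd_pow p (not_le.1 hlt)).trans (hk ▸ Subgroup.card_subgroup_dvd_card _))
    calc p ^ k ≤ p ^ 1 := Nat.pow_le_pow_right hp.out.pos hk1
      _ = p := pow_one p
  obtain ⟨P, hP⟩ := hsylow _ hy
  obtain ⟨P', hP'⟩ := hsylow _ S.ord
  obtain ⟨x, hx⟩ := MulAction.exists_smul_eq G P P'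
  have hmem : x * g ^ q * x⁻¹ ∈ Subgroup.zpowers z := by
    rw [← hP', ← hx, Sylow.coe_subgroup_smul, ← MulAut.conj_apply]
    exact ⟨g ^ q, hP ▸ Subgroup.mem_zpowers _, rfl⟩
  obtain ⟨j, hj⟩ := (orderOf_pos_iff.1 (S.ord ▸ hp.out.pos : 0 < orderOf z)
    ).powers_eq_zpowers.symm.le hmem
  have hj0 : ¬ p ∣ j := fun hd => by
    obtain ⟨a, rfl⟩ := hd
    dsimp only at hj
    rw [pow_mul, ← S.ord, pow_orderOf_eq_one, one_pow, eq_comm, conj_eq_one_iff] at hj
    rw [hj, orderOf_one] at hy
    exact hp.out.one_lt.ne hy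
  have hc : Commute (x * g * x⁻¹) (z ^ j) := by
    rw [show z ^ j = (x * g * x⁻¹) ^ q by rw [conj_pow]; exact hj]
    exact Commute.self_pow _ _
  have hcz : x * g * x⁻¹ ∈ Subgroup.centralizer ({z} : Set G) := by
    rw [Subgroup.mem_centralizer_singleton_iff]
    obtain ⟨b, hb⟩ : ∃ b, (z ^ j) ^ b = z := by
      refine ⟨((j : ZMod p)⁻¹).val, ?_⟩
      rw [← pow_val_natCast S.ord, pow_val_mul S.ord, mul_inv_cancel₀, ZMod.val_one, pow_one]
      rwa [Ne, CharP.cast_eq_zero_iff (ZMod p) p]
    rw [← hb]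
    exact (hc.pow_right b).eq
  obtain ⟨i, v, hv, e⟩ := S.cover _ hcz
  have hconj : IsConj g (z ^ (i : ZMod p).val * v) := by
    rw [pow_val_natCast S.ord, ← e]
    exact isConj_iff.2 ⟨x, rfl⟩
  refine ⟨(i : ZMod p), ⟨v, hv⟩, (S.orderOf_dvd_iff _ ⟨v, hv⟩).1 ?_, hconj⟩
  obtain ⟨y, hy'⟩ := isConj_iff.1 hconj
  rw [← hy', ← MulAut.conj_apply, MulEquiv.orderOf_eq]
  exact hg

theorem Parts.mem_conjExps (S : Parts p z V H) {a : ZMod p} :
    a ∈ H30.conjExps p z ↔ ∃ g : G, g * z * g⁻¹ = z ^ a.val := by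
  classical
  simp only [H30.conjExps, mem_filter, mem_univ, true_and, isConj_iff]

theorem Parts.one_mem_conjExps (S : Parts p z V H) : (1 : ZMod p) ∈ H30.conjExps p z :=
  S.mem_conjExps.2 ⟨1, by simp [ZMod.val_one]⟩

theorem Parts.ne_zero_of_mem (S : Parts p z V H) {a : ZMod p} (ha : a ∈ H30.conjExps p z) :
    a ≠ 0 := by
  rintro rfl
  obtain ⟨g, hg⟩ := S.mem_conjExps.1 ha
  rw [ZMod.val_zero, pow_zero, conj_eq_one_iff] at hg
  have := S.ord
  rw [hg, orderOf_one] at this
  exact hp.out.one_lt.ne this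

theorem Parts.inv_mem (S : Parts p z V H) {a : ZMod p} (ha : a ∈ H30.conjExps p z) :
    a⁻¹ ∈ H30.conjExps p z := by
  obtain ⟨g, hg⟩ := S.mem_conjExps.1 ha
  refine S.mem_conjExps.2 ⟨g⁻¹, ?_⟩
  have h := congrArg (fun x => g⁻¹ * x ^ (a⁻¹).val * g⁻¹⁻¹) hg
  simp only [conj_pow] at h
  rw [pow_val_mul S.ord, mul_inv_cancel₀ (S.ne_zero_of_mem ha), ZMod.val_one, pow_one] at h
  rw [← h]
  group

theorem Parts.mul_mem (S : Parts p z V H) {a b : ZMod p} (ha : a ∈ H30.conjExps p z)
    (hb : b ∈ H30.conjExps p z) : a * b ∈ H30.conjExps p z := by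
  obtain ⟨g, hg⟩ := S.mem_conjExps.1 ha
  obtain ⟨h, hh⟩ := S.mem_conjExps.1 hb
  refine S.mem_conjExps.2 ⟨g * h, ?_⟩
  rw [show g * h * z * (g * h)⁻¹ = g * (h * z * h⁻¹) * g⁻¹ by group, hh, ← conj_pow, hg,
    pow_val_mul S.ord]

/-- The number of centraliser elements above each exponent. -/
theorem Parts.card_fiber (S : Parts p z V H) {a : ZMod p} (ha : a ∈ H30.conjExps p z) :
    Nat.card {g : G // g * z * g⁻¹ = z ^ a.val} = p * Nat.card V := by
  classical
  obtain ⟨g0, hg0⟩ := S.mem_conjExps.1 ha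
  let f : ZMod p × V → {g : G // g * z * g⁻¹ = z ^ a.val} := fun x =>
    ⟨g0 * (z ^ x.1.val * (x.2 : G)), by
      have hc : Commute (z ^ x.1.val * (x.2 : G)) z :=
        ((Commute.refl z).pow_left _).mul_left (S.commute x.2).symm
      rw [show g0 * (z ^ x.1.val * (x.2 : G)) * z * (g0 * (z ^ x.1.val * (x.2 : G)))⁻¹ =
        g0 * ((z ^ x.1.val * (x.2 : G)) * z * (z ^ x.1.val * (x.2 : G))⁻¹) * g0⁻¹ by group,
        hc.eq, mul_inv_cancel_right, hg0]⟩
  have hf : Function.Bijective f := by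
    constructor
    · rintro ⟨i, v⟩ ⟨j, u⟩ h
      have h1 := mul_left_cancel (congrArg Subtype.val h)
      obtain ⟨w, hw⟩ := S.exists_power
      have h2 := congrArg (· ^ w) h1
      simp only [hw] at h2
      obtain rfl := (zpow_val_eq_iff S.ord).1 h2
      exact Prod.ext rfl (Subtype.ext (mul_left_cancel h1))
    · rintro ⟨g, hg⟩
      have hcz : g0⁻¹ * g ∈ Subgroup.centralizer ({z} : Set G) := by
        rw [Subgroup.mem_centralizer_singleton_iff]
        calc g0⁻¹ * g * z = g0⁻¹ * (g * z * g⁻¹) * g := by group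
          _ = g0⁻¹ * (g0 * z * g0⁻¹) * g := by rw [hg, hg0]
          _ = z * (g0⁻¹ * g) := by group
      obtain ⟨i, v, hv, e⟩ := S.cover _ hcz
      refine ⟨((i : ZMod p), ⟨v, hv⟩), Subtype.ext ?_⟩
      show g0 * (z ^ (i : ZMod p).val * v) = g
      rw [pow_val_natCast S.ord, ← e, mul_inv_cancel_left]
  rw [← Nat.card_congr (Equiv.ofBijective f hf), Nat.card_prod, Nat.card_zmod]

/-- Column orthogonality, counting conjugators. -/
theorem sum_irr_mul_conj [DecidableEq G] (x y : G) :
    ∑ χ : Cfsg.IrrCharacter G, χ.1 x * conj (χ.1 y) =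
      ((Finset.univ.filter fun g : G => g * y * g⁻¹ = x).card : ℂ) := by
  classical
  rw [H26.column_orthogonality]
  by_cases hc : IsConj y x
  · obtain ⟨g0, hg0⟩ := isConj_iff.1 hc
    rw [show H26.classIndicator y x = 1 by simp only [H26.classIndicator]; exact if_pos hc.symm, mul_one,
      Nat.card_eq_fintype_card]
    congr 1
    rw [← Finset.card_univ]
    refine Finset.card_bij (fun g _ => g0 * (g : G))
      (fun g _ => Finset.mem_filter.2 ⟨Finset.mem_univ _, ?_⟩)
      (fun a _ b _ h => Subtype.ext (mul_left_cancel h)) (fun g hg => ?_)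
    · have := Subgroup.mem_centralizer_singleton_iff.1 g.2
      rw [show g0 * (g : G) * y * (g0 * (g : G))⁻¹ = g0 * ((g : G) * y * (g : G)⁻¹) * g0⁻¹ by
        group, this, mul_inv_cancel_right, hg0]
    · rw [Finset.mem_filter] at hg
      refine ⟨⟨g0⁻¹ * g, Subgroup.mem_centralizer_singleton_iff.2 ?_⟩, Finset.mem_univ _,
        mul_inv_cancel_left g0 g⟩
      calc g0⁻¹ * g * y = g0⁻¹ * (g * y * g⁻¹) * g := by group
        _ = g0⁻¹ * (g0 * y * g0⁻¹) * g := by rw [hg.2, hg0]
        _ = y * (g0⁻¹ * g) := by group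
  · rw [show H26.classIndicator y x = 0 by
      simp only [H26.classIndicator]; exact if_neg fun h => hc h.symm, mul_zero,
      Finset.filter_eq_empty_iff.2 fun g _ h => hc (isConj_iff.2 ⟨g, h⟩), Finset.card_empty,
      Nat.cast_zero]

/-- The average over `V` of a function at `z ^ i`. -/
noncomputable def vsum (z : G) (V : Subgroup G) (χ : G → ℂ) (i : ZMod p) : ℂ :=
  ∑ v ∈ (V : Set G).toFinite.toFinset, χ (z ^ i.val * v)

theorem vsum_eq [Fintype V] (χ : G → ℂ) (i : ZMod p) :
    vsum z V χ i = ∑ v : V, χ (z ^ i.val * (v : G)) := by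
  classical
  rw [vsum]
  exact Finset.sum_subtype _ (by simp) fun v => χ (z ^ i.val * v)

theorem sum_conj_std (x : ZMod p) :
    ∑ k : ZMod p, conj (ZMod.stdAddChar (k * x)) = if x = 0 then (p : ℂ) else 0 := by
  have := AddChar.sum_mulShift x (ZMod.isPrimitive_stdAddChar p)
  rw [ZMod.card] at this
  rw [← map_sum, this]
  split_ifs <;> simp

/-- Multiplicities of the linear characters of the cyclic subgroup on the fixed points of `V`. -/
theorem Parts.exists_mult (S : Parts p z V H) :
    ∃ m : Cfsg.IrrCharacter G → ZMod p → ℕ,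
      (∀ χ k, (m χ k : ℂ) * (p * Nat.card V : ℕ) =
        ∑ i : ZMod p, vsum z V χ.1 i * conj (ZMod.stdAddChar (k * i))) ∧
      (∀ χ i, vsum z V χ.1 i =
        (Nat.card V : ℂ) * ∑ k : ZMod p, (m χ k : ℂ) * ZMod.stdAddChar (k * i)) ∧
      ∀ k, m (H26.oneIrr G) k = if k = 0 then 1 else 0 := by
  classical
  let φz : Multiplicative (ZMod p) →* G :=
    { toFun := fun x => z ^ (Multiplicative.toAdd x).val
      map_one' := by simp
      map_mul' := fun x y => pow_val_add S.ord _ _ }
  let φ : Multiplicative (ZMod p) × V →* G := φz.noncommCoprod V.subtype fun x v =>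
    (S.commute v).pow_left _
  let ψ := ZMod.stdAddChar (N := p)
  let lam : ZMod p → (Multiplicative (ZMod p) × V →* ℂˣ) := fun k =>
    ((AddChar.toMonoidHomEquiv (ψ.mulShift k)).toHomUnits).comp (MonoidHom.fst _ _)
  have hlam : ∀ k i v, ((lam k (Multiplicative.ofAdd i, v) : ℂˣ) : ℂ) = ψ (k * i) := by
    intro k i v
    simp [lam, MonoidHom.toHomUnits, AddChar.toMonoidHomEquiv, AddChar.mulShift_apply]
  have hex : ∀ (χ : Cfsg.IrrCharacter G) (k : ZMod p), ∃ r : ℕ,
      (r : ℂ) * (p * Nat.card V : ℕ) =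
        ∑ i : ZMod p, vsum z V χ.1 i * conj (ψ (k * i)) := by
    intro χ k
    obtain ⟨r, hr⟩ := H26.exists_nat_classInner_irr
      (H26.isCharacter_comp (H26.irr_isCharacter χ) φ)
      ⟨fun g => (lam k g : ℂ), H26.isIrrCharacter_hom (lam k)⟩
    refine ⟨r, ?_⟩
    rw [Cfsg.classInner, Nat.card_prod, show Nat.card (Multiplicative (ZMod p)) = p by
      rw [Nat.card_congr Multiplicative.toAdd, Nat.card_zmod]] at hr
    rw [← hr, mul_right_comm, inv_mul_cancel₀ (Nat.cast_ne_zero.2
      (mul_ne_zero hp.out.ne_zero Nat.card_pos.ne')), one_mul, Fintype.sum_prod_type]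
    refine (Fintype.sum_equiv Multiplicative.ofAdd _ _ fun i => ?_).symm
    rw [vsum_eq, Finset.sum_mul]
    refine Finset.sum_congr rfl fun v _ => ?_
    show _ = χ.1 (φ (Multiplicative.ofAdd i, v)) * conj ((lam k (Multiplicative.ofAdd i, v) : ℂˣ) : ℂ)
    rw [hlam]
    rfl
  choose m hm using hex
  have hp0 : (p : ℂ) ≠ 0 := Nat.cast_ne_zero.mpr hp.out.ne_zero
  refine ⟨m, hm, fun χ i => ?_, fun k => ?_⟩
  · apply mul_left_cancel₀ hp0
    have h1 : ∑ k : ZMod p, (m χ k : ℂ) * (p * Nat.card V : ℕ) * ψ (k * i) =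
        (p : ℂ) * vsum z V χ.1 i := by
      have h2 : ∀ j k : ZMod p, conj (ψ (k * j)) * ψ (k * i) = conj (ψ (k * (j - i))) := by
        intro j k
        rw [← AddChar.map_neg_eq_conj, ← AddChar.map_neg_eq_conj, ← AddChar.map_add_eq_mul]
        congr 1; ring
      rw [Finset.sum_congr rfl fun k _ => by rw [hm χ k, Finset.sum_mul], Finset.sum_comm]
      simp only [mul_assoc, h2, ← Finset.mul_sum]
      rw [Finset.sum_congr rfl fun j _ => by rw [sum_conj_std (j - i)], Finset.sum_eq_single i]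
      · rw [sub_self, if_pos rfl, mul_comm]
      · intro j _ hj
        rw [if_neg (sub_ne_zero.2 hj), mul_zero]
      · simp
    rw [← h1, Finset.mul_sum, Finset.mul_sum]
    refine Finset.sum_congr rfl fun k _ => ?_
    push_cast
    ring
  · have h := hm (H26.oneIrr G) k
    simp only [vsum_eq, H26.oneIrr_val, Finset.sum_const, Finset.card_univ, nsmul_eq_mul, mul_one,
      ← Nat.card_eq_fintype_card, ← Finset.mul_sum] at h
    simp only [ψ, mul_comm k, sum_conj_std] at h
    have hc0 : (Nat.card V : ℂ) ≠ 0 := Nat.cast_ne_zero.2 Nat.card_pos.ne'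
    split_ifs at h ⊢
    · push_cast at h
      have : (m (H26.oneIrr G) k : ℂ) = 1 :=
        mul_right_cancel₀ (mul_ne_zero hp0 hc0) (by rw [h]; ring)
      exact_mod_cast this
    · rw [mul_zero, mul_eq_zero] at h
      exact_mod_cast h.resolve_right
        (Nat.cast_ne_zero.2 (mul_ne_zero hp.out.ne_zero Nat.card_pos.ne'))

/-- The number of exponents `a` with `j = a * k`. -/
noncomputable def cnt (z : G) (k j : ZMod p) : ℕ :=
  ((H30.conjExps p z).filter fun a => j = a * k).card

theorem sum_std_conj (j k : ZMod p) :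
    ∑ i : ZMod p, ZMod.stdAddChar (j * i) * conj (ZMod.stdAddChar (k * i)) =
      if j = k then (p : ℂ) else 0 := by
  have h : ∀ i : ZMod p, ZMod.stdAddChar (j * i) * conj (ZMod.stdAddChar (k * i)) =
      conj (ZMod.stdAddChar (i * (k - j))) := by
    intro i
    rw [← AddChar.map_neg_eq_conj, ← AddChar.map_neg_eq_conj, ← AddChar.map_add_eq_mul]
    congr 1; ring
  simp only [h, sum_conj_std, sub_eq_zero, eq_comm]

/-- Differences of multiplicities annihilate the `p`-regular elements and have the Gram matrix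
of the automiser. -/
theorem Parts.gram (S : Parts p z V H) {m : Cfsg.IrrCharacter G → ZMod p → ℕ}
    (hm : ∀ χ k, (m χ k : ℂ) * (p * Nat.card V : ℕ) =
        ∑ i : ZMod p, vsum z V χ.1 i * conj (ZMod.stdAddChar (k * i))) :
    (∀ k l j, ∑ χ, ((m χ k : ℤ) - m χ l) * m χ j = (cnt z k j : ℤ) - cnt z l j) ∧
    ∀ u : G, ¬ p ∣ orderOf u → ∀ k l,
      ∑ χ : Cfsg.IrrCharacter G, χ.1 u * (((m χ k : ℤ) - m χ l : ℤ) : ℂ) = 0 := by
  classical
  let ψ := ZMod.stdAddChar (N := p)
  let f : ZMod p → ZMod p → ZMod p → ℂ := fun k l i => conj (ψ (k * i)) - conj (ψ (l * i))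
  have hf0 : ∀ k l, f k l 0 = 0 := fun k l => by simp [f]
  have hdiff : ∀ χ k l, (((m χ k : ℤ) - m χ l : ℤ) : ℂ) * (p * Nat.card V : ℕ) =
      ∑ i : ZMod p, ∑ v : V, χ.1 (z ^ i.val * (v : G)) * f k l i := by
    intro χ k l
    rw [Int.cast_sub, Int.cast_natCast, Int.cast_natCast, sub_mul, hm, hm, ← Finset.sum_sub_distrib]
    refine Finset.sum_congr rfl fun i _ => ?_
    rw [vsum_eq, ← mul_sub, Finset.sum_mul]
  have hpc : ((p * Nat.card V : ℕ) : ℂ) ≠ 0 :=
    Nat.cast_ne_zero.2 (mul_ne_zero hp.out.ne_zero Nat.card_pos.ne')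
  refine ⟨fun k l j => ?_, fun u hu k l => ?_⟩
  · have hj : ∀ χ, (m χ j : ℂ) * (p * Nat.card V : ℕ) =
        ∑ i : ZMod p, ∑ v : V, conj (χ.1 (z ^ i.val * (v : G))) * ψ (j * i) := by
      intro χ
      have := congrArg conj (hm χ j)
      simp only [map_mul, map_natCast, map_sum, Complex.conj_conj, vsum_eq] at this
      rw [this]
      exact Finset.sum_congr rfl fun i _ => by rw [Finset.sum_mul]
    obtain ⟨w, hw⟩ := S.exists_power
    set N := Subgroup.normalizer ((Subgroup.zpowers z : Subgroup G) : Set G) with hN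
    have hbound : ∀ (i i' : ZMod p) (v v' : V) (g : G), i ≠ 0 →
        g * (z ^ i'.val * (v' : G)) * g⁻¹ = z ^ i.val * (v : G) → i' ≠ 0 ∧ g ∈ N := by
      intro i i' v v' g hi he
      have hi' : i' ≠ 0 := by
        refine (S.orderOf_dvd_iff i' v').1 ?_
        rw [← (MulAut.conj g).orderOf_eq, MulAut.conj_apply, he]
        exact (S.orderOf_dvd_iff i v).2 hi
      refine ⟨hi', ?_⟩
      have h := congrArg (· ^ w) he
      simp only [conj_pow, hw] at h
      refine mem_normalizer_of_conj_eq S.ord (s := (i * i'⁻¹).val) ?_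
      rw [← pow_val_mul S.ord, ← h, conj_pow, pow_val_mul S.ord, mul_inv_cancel₀ hi', ZMod.val_one,
        pow_one]
    -- the contribution of a fixed element of the centraliser
    have key : ∀ (i' : ZMod p) (v' : V),
        ∑ i : ZMod p, ∑ v : V, f k l i * ((Finset.univ.filter fun g : G =>
          g * (z ^ i'.val * (v' : G)) * g⁻¹ = z ^ i.val * (v : G)).card : ℂ) =
        ((p * Nat.card V : ℕ) : ℂ) * ∑ a ∈ H30.conjExps p z, f k l (a * i') := by
      intro i' v'
      rcases eq_or_ne i' 0 with rfl | hi'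
      · simp only [mul_zero, hf0, Finset.sum_const_zero]
        refine Finset.sum_eq_zero fun i _ => Finset.sum_eq_zero fun v _ => ?_
        rcases eq_or_ne i 0 with rfl | hi
        · rw [hf0, zero_mul]
        · rw [Finset.filter_eq_empty_iff.2 fun g _ hg => (hbound i 0 v v' g hi hg).1 rfl,
            Finset.card_empty, Nat.cast_zero, mul_zero]
      · have hpoint : ∀ g : G, ∑ i : ZMod p, ∑ v : V,
            (if g * (z ^ i'.val * (v' : G)) * g⁻¹ = z ^ i.val * (v : G) then f k l i else 0) =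
            ∑ a ∈ H30.conjExps p z, if g * z * g⁻¹ = z ^ a.val then f k l (a * i') else 0 := by
          intro g
          by_cases hg : g ∈ N
          · obtain ⟨a, ha⟩ := S.exists_autExp hg
            have haE : a ∈ H30.conjExps p z := S.mem_conjExps.2 ⟨g, ha⟩
            have hgy : g * (z ^ i'.val * (v' : G)) * g⁻¹ =
                z ^ (a * i').val * (g * (v' : G) * g⁻¹) := by
              rw [show g * (z ^ i'.val * (v' : G)) * g⁻¹ =
                (g * z ^ i'.val * g⁻¹) * (g * (v' : G) * g⁻¹) by group, ← conj_pow, ha,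
                pow_val_mul S.ord]
            rw [Finset.sum_eq_single_of_mem a haE fun b _ hb => if_neg fun h => hb
                ((zpow_val_eq_iff S.ord).1 (h.symm.trans ha)), if_pos ha,
              Finset.sum_eq_single (a * i'), Finset.sum_eq_single ⟨_, S.normal g hg _ v'.2⟩]
            · rw [if_pos hgy]
            · intro v _ hv
              rw [if_neg]
              intro h
              rw [hgy] at h
              exact hv (Subtype.ext (mul_left_cancel h).symm)
            · simp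
            · intro i _ hi
              refine Finset.sum_eq_zero fun v _ => if_neg fun h => hi ?_
              have h2 := congrArg (· ^ w) (hgy.symm.trans h)
              simp only [hw (a * i').val ⟨_, S.normal g hg _ v'.2⟩, hw i.val v] at h2
              exact ((zpow_val_eq_iff S.ord).1 h2).symm
            · simp
          · rw [Finset.sum_eq_zero fun i _ => Finset.sum_eq_zero fun v _ => ?_,
              Finset.sum_eq_zero fun a _ => if_neg fun h =>
                hg (mem_normalizer_of_conj_eq S.ord h)]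
            split_ifs with h
            · rcases eq_or_ne i 0 with rfl | hi
              · exact hf0 _ _
              · exact absurd (hbound i i' v v' g hi h).2 hg
            · rfl
        calc _ = ∑ g : G, ∑ i : ZMod p, ∑ v : V,
              (if g * (z ^ i'.val * (v' : G)) * g⁻¹ = z ^ i.val * (v : G) then f k l i else 0) := by
              symm
              rw [Finset.sum_comm]
              refine Finset.sum_congr rfl fun i _ => ?_
              rw [Finset.sum_comm]
              refine Finset.sum_congr rfl fun v _ => ?_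
              rw [← Finset.sum_filter, Finset.sum_const, nsmul_eq_mul, mul_comm]
          _ = _ := by
              rw [Finset.sum_congr rfl fun g _ => hpoint g, Finset.sum_comm, Finset.mul_sum]
              refine Finset.sum_congr rfl fun a ha => ?_
              rw [← Finset.sum_filter, Finset.sum_const, nsmul_eq_mul, ← S.card_fiber ha,
                Nat.card_eq_fintype_card, Fintype.card_subtype]
    have hfj : ∀ a : ZMod p, ∑ i : ZMod p, ψ (j * i) * f k l (a * i) =
        (p : ℂ) * (((if j = a * k then 1 else 0 : ℕ) : ℂ) - ((if j = a * l then 1 else 0 : ℕ) : ℂ)) := by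
      intro a
      simp only [f, mul_sub, Finset.sum_sub_distrib, ← mul_assoc k, ← mul_assoc l, ψ, sum_std_conj]
      rw [mul_comm k a, mul_comm l a]
      push_cast
      split_ifs <;> ring
    have hmain : ((p * Nat.card V : ℕ) : ℂ) * (p * Nat.card V : ℕ) *
        ((∑ χ, ((m χ k : ℤ) - m χ l) * m χ j : ℤ) : ℂ) =
        ((p * Nat.card V : ℕ) : ℂ) * (p * Nat.card V : ℕ) * ((cnt z k j : ℂ) - cnt z l j) := by
      calc _ = ∑ χ : Cfsg.IrrCharacter G, (∑ i : ZMod p, ∑ v : V,
            χ.1 (z ^ i.val * (v : G)) * f k l i) *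
            (∑ i : ZMod p, ∑ v : V, conj (χ.1 (z ^ i.val * (v : G))) * ψ (j * i)) := by
            rw [Int.cast_sum, Finset.mul_sum]
            refine Finset.sum_congr rfl fun χ _ => ?_
            rw [← hdiff, ← hj, Int.cast_mul, Int.cast_natCast]
            ring
        _ = ∑ i' : ZMod p, ∑ v' : V, ψ (j * i') * ∑ i : ZMod p, ∑ v : V, f k l i *
            ∑ χ : Cfsg.IrrCharacter G,
              χ.1 (z ^ i.val * (v : G)) * conj (χ.1 (z ^ i'.val * (v' : G))) := by
            simp only [Finset.mul_sum, Finset.sum_mul]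
            rw [Finset.sum_comm]
            refine Finset.sum_congr rfl fun i' _ => ?_
            rw [Finset.sum_comm]
            refine Finset.sum_congr rfl fun v' _ => ?_
            rw [Finset.sum_comm]
            refine Finset.sum_congr rfl fun i _ => ?_
            rw [Finset.sum_comm]
            refine Finset.sum_congr rfl fun v _ => Finset.sum_congr rfl fun χ _ => ?_
            ring
        _ = ∑ i' : ZMod p, ∑ v' : V, ψ (j * i') *
            (((p * Nat.card V : ℕ) : ℂ) * ∑ a ∈ H30.conjExps p z, f k l (a * i')) := by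
            simp only [sum_irr_mul_conj, key]
        _ = ((p * Nat.card V : ℕ) : ℂ) * (Nat.card V : ℂ) *
            ∑ a ∈ H30.conjExps p z, ∑ i' : ZMod p, ψ (j * i') * f k l (a * i') := by
            rw [Finset.sum_comm (s := H30.conjExps p z), Finset.mul_sum]
            refine Finset.sum_congr rfl fun i' _ => ?_
            rw [Finset.sum_const, Finset.card_univ, nsmul_eq_mul, ← Nat.card_eq_fintype_card]
            simp only [Finset.mul_sum]
            exact Finset.sum_congr rfl fun a _ => by ring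
        _ = _ := by
            rw [Finset.sum_congr rfl fun a _ => hfj a, ← Finset.mul_sum, Finset.sum_sub_distrib,
              ← Nat.cast_sum, ← Nat.cast_sum, Finset.sum_boole, Finset.sum_boole]
            simp only [cnt, Nat.cast_id]
            push_cast
            ring
    have := mul_left_cancel₀ (mul_ne_zero hpc hpc) hmain
    exact_mod_cast this
  · apply mul_right_cancel₀ hpc
    rw [zero_mul, Finset.sum_mul]
    simp only [mul_assoc, hdiff, Finset.mul_sum]
    rw [Finset.sum_comm]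
    refine Finset.sum_eq_zero fun i _ => ?_
    rw [Finset.sum_comm]
    refine Finset.sum_eq_zero fun v _ => ?_
    rcases eq_or_ne i 0 with rfl | hi
    · simp [hf0]
    · have h0 : ∑ χ : Cfsg.IrrCharacter G, χ.1 (z ^ i.val * (v : G)) * conj (χ.1 u⁻¹) = 0 := by
        rw [sum_irr_mul_conj, Finset.filter_eq_empty_iff.2, Finset.card_empty, Nat.cast_zero]
        intro g _ hg
        apply hu
        have := (S.orderOf_dvd_iff i v).2 hi
        rwa [← hg, ← MulAut.conj_apply, MulEquiv.orderOf_eq, orderOf_inv] at this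
      rw [← zero_mul (f k l i), ← h0, Finset.sum_mul]
      exact Finset.sum_congr rfl fun χ _ => by
        rw [H26.irr_inv, Complex.conj_conj]; ring

end Cfsg.Agent.H31.Defect
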