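import Mathlib
import Cfsg.Agent.H44.SmallDimension

/-!
An unramified valuation on a cyclotomic field of conductor prime to `p`.
-/

set_option autoImplicit false
set_option linter.unusedSectionVars false

namespace Cfsg.Agent.H31.Defect

open IsLocalRing Polynomial

variable {p : ℕ} [hp : Fact p.Prime] {O : ValuationSubring ℂ}

theorem val_prime_lt_one (hpO : (p : O) ∈ maximalIdeal O) : O.valuation (p : ℂ) < 1 := by
  have h := (O.valuation_lt_one_iff (p : O)).1 hpO
  simpa using h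

theorem val_nat_le_one (n : ℕ) : O.valuation (n : ℂ) ≤ 1 := by
  rw [O.valuation_le_one_iff]
  exact natCast_mem O.toSubring n

theorem val_int_le_one (n : ℤ) : O.valuation (n : ℂ) ≤ 1 := by
  rw [O.valuation_le_one_iff]
  exact intCast_mem O.toSubring n

theorem val_int_eq_one (hpO : (p : O) ∈ maximalIdeal O) {n : ℤ} (hn : ¬ (p : ℤ) ∣ n) :
    O.valuation (n : ℂ) = 1 := by
  refine le_antisymm (val_int_le_one n) (not_lt.1 fun hlt => ?_)
  obtain ⟨a, b, hab⟩ := ((Nat.prime_iff_prime_int.1 hp.out).coprime_iff_not_dvd.2 hn)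
  have h1 : O.valuation ((1 : ℤ) : ℂ) < 1 := by
    rw [← hab, Int.cast_add, Int.cast_mul, Int.cast_mul, Int.cast_natCast]
    refine O.valuation.map_add_lt ?_ ?_
    · rw [map_mul]; exact mul_lt_one_of_nonneg_of_lt_one_right (val_int_le_one a) zero_le (val_prime_lt_one hpO)
    · rw [map_mul]; exact mul_lt_one_of_nonneg_of_lt_one_right (val_int_le_one b) zero_le hlt
  rw [Int.cast_one, map_one] at h1
  exact lt_irrefl _ h1

theorem val_nat_eq_one (hpO : (p : O) ∈ maximalIdeal O) {n : ℕ} (hn : ¬ p ∣ n) :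
    O.valuation (n : ℂ) = 1 := by
  have := val_int_eq_one hpO (n := (n : ℤ)) (by exact_mod_cast hn)
  simpa using this

/-- Algebraic integers lie in every valuation ring. -/
theorem isIntegral_mem {x : ℂ} (hx : IsIntegral ℤ x) : x ∈ O := by
  obtain ⟨y, hy⟩ := IsIntegrallyClosed.algebraMap_eq_of_integral (R := O) (K := ℂ)
    (hx.tower_top (A := O))
  rw [← hy]
  exact y.2

theorem isIntegral_val_le {x : ℂ} (hx : IsIntegral ℤ x) : O.valuation x ≤ 1 :=
  (O.valuation_le_one_iff x).2 (isIntegral_mem hx)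

theorem val_root_of_unity {x : ℂ} {n : ℕ} (hn : n ≠ 0) (hx : x ^ n = 1) : O.valuation x = 1 := by
  have h : O.valuation x ^ n = 1 := by rw [← map_pow, hx, map_one]
  exact (pow_eq_one_iff_of_nonneg zero_le hn).1 h

variable {m : ℕ} {ω : ℂ}

/-- Congruence `r ^ q = r` modulo `p` in `ℤ[ω]`. -/
theorem frobenius_fix (hω : ω ^ m = 1) {j : ℕ} (hq : p ^ j % m = 1 % m) {r : ℂ}
    (hr : r ∈ Algebra.adjoin ℤ ({ω} : Set ℂ)) :
    ∃ s ∈ Algebra.adjoin ℤ ({ω} : Set ℂ), r ^ p ^ j = r + (p : ℂ) * s := by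
  set A := Algebra.adjoin ℤ ({ω} : Set ℂ)
  induction hr using Algebra.adjoin_induction with
  | mem x hx =>
    obtain rfl : x = ω := hx
    refine ⟨0, zero_mem _, ?_⟩
    rw [mul_zero, add_zero, ← Nat.div_add_mod (p ^ j) m, pow_add, pow_mul, hω, one_pow, one_mul, hq]
    rcases Nat.eq_zero_or_pos m with rfl | hm
    · simp
    · rcases Nat.lt_or_ge 1 m with h | h
      · rw [Nat.mod_eq_of_lt h, pow_one]
      · obtain rfl : m = 1 := by omega
        rw [pow_one] at hω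
        simp [hω]
  | algebraMap k =>
    have h : (p : ℤ) ∣ k ^ p ^ j - k := by
      rw [← ZMod.intCast_zmod_eq_zero_iff_dvd]
      simp [ZMod.pow_card_pow]
    obtain ⟨s, hs⟩ := h
    refine ⟨(s : ℂ), intCast_mem A s, ?_⟩
    have := congrArg (fun z : ℤ => (z : ℂ)) hs
    push_cast at this
    simp only [algebraMap_int_eq, eq_intCast]
    linear_combination this
  | add x y hx hy ihx ihy =>
    obtain ⟨a, ha, ea⟩ := ihx
    obtain ⟨b, hb, eb⟩ := ihy
    obtain ⟨r, hr⟩ := exists_add_pow_prime_pow_eq hp.out (⟨x, hx⟩ : A) (⟨y, hy⟩ : A) j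
    have hr' : (x + y) ^ p ^ j = x ^ p ^ j + y ^ p ^ j + (p : ℂ) * x * y * r := by
      have := congrArg Subtype.val hr
      push_cast at this
      exact this
    refine ⟨a + b + x * y * r, add_mem (add_mem ha hb) (mul_mem (mul_mem hx hy) r.2), ?_⟩
    rw [hr', ea, eb]
    ring
  | mul x y hx hy ihx ihy =>
    obtain ⟨a, ha, ea⟩ := ihx
    obtain ⟨b, hb, eb⟩ := ihy
    refine ⟨x * b + a * y + (p : ℂ) * a * b,
      add_mem (add_mem (mul_mem hx hb) (mul_mem ha hy))
        (mul_mem (mul_mem (natCast_mem A p) ha) hb), ?_⟩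
    rw [mul_pow, ea, eb]
    ring

/-- The setting: `ω` generates the group of `m`-th roots of unity, `p` does not divide `m`. -/
structure Unram (p : ℕ) (O : ValuationSubring ℂ) (m : ℕ) (ω : ℂ) : Prop where
  mem : (p : O) ∈ maximalIdeal O
  ndvd : ¬ p ∣ m
  root : ω ^ m = 1

theorem Unram.m_pos (h : Unram p O m ω) : m ≠ 0 := fun e => h.ndvd (e ▸ dvd_zero p)

theorem Unram.isIntegral (h : Unram p O m ω) {r : ℂ} (hr : r ∈ Algebra.adjoin ℤ ({ω} : Set ℂ)) :
    IsIntegral ℤ r := by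
  have : IsIntegral ℤ ω := by
    refine ⟨X ^ m - 1, monic_X_pow_sub_C 1 h.m_pos, ?_⟩
    simp [h.root]
  exact adjoin_le_integralClosure this hr

/-- Division by `p` inside `ℤ[ω]`, up to a unit. -/
theorem Unram.descend (h : Unram p O m ω) {r : ℂ} (hr : r ∈ Algebra.adjoin ℤ ({ω} : Set ℂ))
    (hlt : O.valuation r < 1) :
    ∃ s ∈ Algebra.adjoin ℤ ({ω} : Set ℂ),
      O.valuation r = O.valuation (p : ℂ) * O.valuation s := by
  rcases Nat.eq_zero_or_pos m with hm | hm
  · exact absurd hm h.m_pos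
  have : NeZero m := ⟨hm.ne'⟩
  set u : (ZMod m)ˣ := ZMod.unitOfCoprime p ((hp.out.coprime_iff_not_dvd).2 h.ndvd) with hu
  have hj : p ^ orderOf u % m = 1 % m := by
    have e := congrArg (fun x : (ZMod m)ˣ => (x : ZMod m)) (pow_orderOf_eq_one u)
    simp only [Units.val_pow_eq_pow_val, Units.val_one, hu, ZMod.coe_unitOfCoprime] at e
    exact (ZMod.natCast_eq_natCast_iff' (p ^ orderOf u) 1 m).1 (by push_cast; exact e)
  set q := p ^ orderOf u
  have hq2 : 2 ≤ q := by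
    calc 2 ≤ p := hp.out.two_le
      _ ≤ p ^ orderOf u := Nat.le_self_pow (orderOf_pos u).ne' p
  obtain ⟨s, hs, es⟩ := frobenius_fix h.root hj hr
  refine ⟨s, hs, ?_⟩
  have e1 : r * (r ^ (q - 1) - 1) = (p : ℂ) * s := by
    have : r * r ^ (q - 1) = r ^ q := by rw [← pow_succ']; congr 1; omega
    rw [mul_sub, this, es]; ring
  have h2 : O.valuation (r ^ (q - 1) - 1) = 1 := by
    rw [Valuation.map_sub_swap, Valuation.map_sub_eq_of_lt_left _ ?_, map_one]
    rw [map_one, map_pow]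
    exact pow_lt_one₀ zero_le hlt (by omega)
  calc O.valuation r = O.valuation (r * (r ^ (q - 1) - 1)) := by rw [map_mul, h2, mul_one]
    _ = _ := by rw [e1, map_mul]

/-- A non-zero element of `ℤ[ω]` has the valuation of a power of `p`. -/
theorem Unram.val_adjoin (h : Unram p O m ω) {r : ℂ} (hr : r ∈ Algebra.adjoin ℤ ({ω} : Set ℂ))
    (hr0 : r ≠ 0) : ∃ a : ℕ, O.valuation r = O.valuation (p : ℂ) ^ a := by
  -- a non-zero rational integer below `r`
  obtain ⟨a, ha⟩ : ∃ a : ℕ, O.valuation (p : ℂ) ^ a ≤ O.valuation r := by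
    have hint := h.isIntegral hr
    have hc0 : (minpoly ℤ r).coeff 0 ≠ 0 := fun e => by
      refine minpoly.coeff_zero_ne_zero (A := ℚ) (hint.tower_top (A := ℚ)) hr0 ?_
      rw [minpoly.isIntegrallyClosed_eq_field_fractions' ℚ hint, coeff_map, e, map_zero]
    obtain ⟨a, c, hc, e⟩ := Int.natAbs_ne_zero.2 hc0 |> fun hne =>
      Nat.exists_eq_pow_mul_and_not_dvd hne p hp.out.ne_one
    refine ⟨a, ?_⟩
    obtain ⟨g, hg⟩ : (X : ℤ[X]) ∣ minpoly ℤ r - C ((minpoly ℤ r).coeff 0) :=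
      X_dvd_sub_C
    have e1 := congrArg (aeval r) hg
    rw [map_sub, minpoly.aeval, aeval_C, map_mul, aeval_X, zero_sub] at e1
    have e2 : O.valuation ((((minpoly ℤ r).coeff 0).natAbs : ℕ) : ℂ) =
        O.valuation r * O.valuation (aeval r g) := by
      rw [← map_mul, ← e1, Valuation.map_neg, algebraMap_int_eq, eq_intCast]
      rcases Int.natAbs_eq ((minpoly ℤ r).coeff 0) with e' | e'
      · conv_rhs => rw [e', Int.cast_natCast]
      · conv_rhs => rw [e', Int.cast_neg, Valuation.map_neg, Int.cast_natCast]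
    rw [e, Nat.cast_mul, Nat.cast_pow, map_mul, map_pow, val_nat_eq_one h.mem hc, mul_one] at e2
    rw [e2]
    refine mul_le_of_le_one_right' ?_
    refine isIntegral_val_le ?_
    have hA : aeval r g ∈ Algebra.adjoin ℤ ({ω} : Set ℂ) :=
      Algebra.adjoin_singleton_eq_range_aeval ℤ ω ▸ by
        rw [Algebra.adjoin_singleton_eq_range_aeval] at hr
        obtain ⟨f, rfl⟩ := hr
        exact ⟨g.comp f, aeval_comp ..⟩
    exact h.isIntegral hA
  induction a generalizing r with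
  | zero => exact ⟨0, le_antisymm (by simpa using isIntegral_val_le (h.isIntegral hr)) ha⟩
  | succ a ih =>
    rcases lt_or_eq_of_le (isIntegral_val_le (O := O) (h.isIntegral hr)) with hlt | heq
    · obtain ⟨s, hs, es⟩ := h.descend hr hlt
      have hp0 : O.valuation (p : ℂ) ≠ 0 := (Valuation.ne_zero_iff _).2 (by exact_mod_cast hp.out.ne_zero)
      have hs0 : s ≠ 0 := by
        rintro rfl
        rw [map_zero, mul_zero, map_eq_zero] at es
        exact hr0 es
      obtain ⟨b, hb⟩ := ih hs hs0 (by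
        rw [es, pow_succ'] at ha
        exact le_of_mul_le_mul_left ha (zero_lt_iff.2 hp0))
      exact ⟨b + 1, by rw [es, hb, pow_succ']⟩
    · exact ⟨0, by rw [heq, pow_zero]⟩

/-- The elements of `ℚ(ω)` have denominators. -/
theorem exists_den {x : ℂ} (hx : x ∈ IntermediateField.adjoin ℚ ({ω} : Set ℂ)) (hω : IsIntegral ℤ ω) :
    ∃ N : ℕ, N ≠ 0 ∧ (N : ℂ) * x ∈ Algebra.adjoin ℤ ({ω} : Set ℂ) := by
  rw [← IntermediateField.mem_toSubalgebra, IntermediateField.adjoin_simple_toSubalgebra_of_isAlgebraic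
    (hω.tower_top (A := ℚ)).isAlgebraic] at hx
  induction hx using Algebra.adjoin_induction with
  | mem x hx => exact ⟨1, one_ne_zero, by simpa using Algebra.subset_adjoin hx⟩
  | algebraMap k =>
    refine ⟨k.den, k.den_nz, ?_⟩
    rw [show (k.den : ℂ) * algebraMap ℚ ℂ k = (k.num : ℂ) by
      rw [eq_ratCast, mul_comm]; exact_mod_cast congrArg (fun q : ℚ => (q : ℂ)) (Rat.mul_den_eq_num k)]
    exact intCast_mem _ _
  | add x y _ _ ihx ihy =>
    obtain ⟨a, ha, ea⟩ := ihx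
    obtain ⟨b, hb, eb⟩ := ihy
    refine ⟨a * b, mul_ne_zero ha hb, ?_⟩
    rw [show ((a * b : ℕ) : ℂ) * (x + y) = (b : ℂ) * (a * x) + (a : ℂ) * (b * y) by push_cast; ring]
    exact add_mem (mul_mem (natCast_mem _ _) ea) (mul_mem (natCast_mem _ _) eb)
  | mul x y _ _ ihx ihy =>
    obtain ⟨a, ha, ea⟩ := ihx
    obtain ⟨b, hb, eb⟩ := ihy
    refine ⟨a * b, mul_ne_zero ha hb, ?_⟩
    rw [show ((a * b : ℕ) : ℂ) * (x * y) = (a * x) * (b * y) by push_cast; ring]
    exact mul_mem ea eb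

/-- The value group on `ℚ(ω)` is generated by `v(p)`. -/
theorem Unram.val_field (h : Unram p O m ω) {x : ℂ}
    (hx : x ∈ IntermediateField.adjoin ℚ ({ω} : Set ℂ)) (hx0 : x ≠ 0) :
    ∃ n : ℤ, O.valuation x = O.valuation (p : ℂ) ^ n := by
  obtain ⟨N, hN, hNx⟩ := exists_den hx (h.isIntegral (Algebra.self_mem_adjoin_singleton ℤ ω))
  obtain ⟨a, ha⟩ := h.val_adjoin hNx (mul_ne_zero (by exact_mod_cast hN) hx0)
  obtain ⟨b, c, hc, rfl⟩ := Nat.exists_eq_pow_mul_and_not_dvd hN p hp.out.ne_one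
  refine ⟨(a : ℤ) - b, ?_⟩
  have hp0 : O.valuation (p : ℂ) ≠ 0 := (Valuation.ne_zero_iff _).2 (by exact_mod_cast hp.out.ne_zero)
  rw [Nat.cast_mul, Nat.cast_pow, map_mul, map_mul, map_pow, val_nat_eq_one h.mem hc, mul_one] at ha
  rw [zpow_sub₀ hp0, zpow_natCast, zpow_natCast, eq_div_iff (pow_ne_zero _ hp0), mul_comm]
  exact ha

/-- `p` is a uniformiser on `ℚ(ω)`. -/
theorem Unram.val_le_of_lt_one (h : Unram p O m ω) {x : ℂ}
    (hx : x ∈ IntermediateField.adjoin ℚ ({ω} : Set ℂ)) (hlt : O.valuation x < 1) :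
    O.valuation x ≤ O.valuation (p : ℂ) := by
  rcases eq_or_ne x 0 with rfl | hx0
  · simp
  obtain ⟨n, hn⟩ := h.val_field hx hx0
  have hp0 : O.valuation (p : ℂ) ≠ 0 := (Valuation.ne_zero_iff _).2 (by exact_mod_cast hp.out.ne_zero)
  have hp1 := val_prime_lt_one h.mem
  rw [hn] at hlt ⊢
  rcases Int.lt_or_le 0 n with h0 | h0
  · obtain ⟨a, rfl⟩ := Int.eq_ofNat_of_zero_le h0.le
    rw [zpow_natCast]
    exact pow_le_of_le_one zero_le hp1.le (by omega)
  · exfalso
    obtain ⟨a, rfl⟩ : ∃ a : ℕ, n = -(a : ℤ) := ⟨(-n).toNat, by omega⟩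
    rw [zpow_neg, zpow_natCast, inv_lt_one₀ (zero_lt_iff.2 (pow_ne_zero _ hp0))] at hlt
    exact absurd hlt (not_lt.2 (pow_le_one₀ zero_le hp1.le))

theorem exists_unram (p : ℕ) [Fact p.Prime] {m : ℕ} (hm : ¬ p ∣ m) :
    ∃ (O : ValuationSubring ℂ) (ω : ℂ), IsPrimitiveRoot ω m ∧ Unram p O m ω := by
  obtain ⟨O, hO⟩ := Cfsg.Agent.H44.exists_valuationSubring_natCast_mem p
  have hm0 : m ≠ 0 := fun e => hm (e ▸ dvd_zero p)
  exact ⟨O, _, Complex.isPrimitiveRoot_exp m hm0, hO, hm,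
    (Complex.isPrimitiveRoot_exp m hm0).pow_eq_one⟩

end Cfsg.Agent.H31.Defect
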