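import Mathlib
import Cfsg.Agent.H31.Defect.Higman
import Cfsg.Agent.H31.Defect.Valuation
import Cfsg.Agent.H26.CharEquiv
import Cfsg.Agent.H26.CharReal

/-!
The unramified ring inside a cyclotomic field, lattices, and centralisers of lattices.
-/

set_option autoImplicit false
set_option linter.unusedSectionVars false

namespace Cfsg.Agent.H31.Defect

open Module IsLocalRing Matrix

variable {p : ℕ} [hp : Fact p.Prime] {O : ValuationSubring ℂ} {m : ℕ} {ω : ℂ}

/-- The cyclotomic field. -/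
noncomputable abbrev cycField (ω : ℂ) : IntermediateField ℚ ℂ :=
  IntermediateField.adjoin ℚ ({ω} : Set ℂ)

/-- The valuation ring of the cyclotomic field below `O`. -/
noncomputable abbrev cycRing (O : ValuationSubring ℂ) (ω : ℂ) : ValuationSubring (cycField ω) :=
  O.comap (algebraMap (cycField ω) ℂ)

theorem mem_cycRing {x : cycField ω} : x ∈ cycRing O ω ↔ O.valuation (x : ℂ) ≤ 1 :=
  (O.valuation_le_one_iff _).symm

theorem not_isUnit_iff_val_lt_one {x : cycRing O ω} :
    ¬ IsUnit x ↔ O.valuation ((x : cycField ω) : ℂ) < 1 := by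
  have hle := mem_cycRing.1 x.2
  constructor
  · intro h
    refine lt_of_le_of_ne hle fun he => h ?_
    have hx0 : (x : cycField ω) ≠ 0 := fun e => by
      rw [e] at he
      simp at he
    have hinv : (x : cycField ω)⁻¹ ∈ cycRing O ω := mem_cycRing.2 (by
      rw [show (((x : cycField ω)⁻¹ : cycField ω) : ℂ) = ((x : cycField ω) : ℂ)⁻¹ from rfl,
        map_inv₀, he, inv_one])
    exact isUnit_iff_exists_inv.2 ⟨⟨_, hinv⟩, Subtype.ext (mul_inv_cancel₀ hx0)⟩
  · intro hlt hu
    obtain ⟨y, hy⟩ := isUnit_iff_exists_inv.1 hu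
    have e : ((x : cycField ω) : ℂ) * ((y : cycField ω) : ℂ) = 1 :=
      congrArg (fun z : cycRing O ω => ((z : cycField ω) : ℂ)) hy
    have := congrArg O.valuation e
    rw [map_mul, map_one] at this
    exact (mul_lt_one_of_nonneg_of_lt_one_left zero_le hlt (mem_cycRing.1 y.2)).ne this

theorem Unram.mem_cyc (h : Unram p O m ω) : (p : cycRing O ω) ∈ maximalIdeal (cycRing O ω) := by
  rw [mem_maximalIdeal, mem_nonunits_iff, not_isUnit_iff_val_lt_one]
  simpa using val_prime_lt_one h.mem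

theorem Unram.dvd_cyc (h : Unram p O m ω) (x : cycRing O ω) (hx : x ∈ maximalIdeal (cycRing O ω)) :
    (p : cycRing O ω) ∣ x := by
  rw [mem_maximalIdeal, mem_nonunits_iff, not_isUnit_iff_val_lt_one] at hx
  have hle := h.val_le_of_lt_one (x : cycField ω).2 hx
  have hp0 : O.valuation (p : ℂ) ≠ 0 :=
    (Valuation.ne_zero_iff _).2 (by exact_mod_cast hp.out.ne_zero)
  have hy : (x : cycField ω) / (p : cycField ω) ∈ cycRing O ω := mem_cycRing.2 (by
    rw [show (((x : cycField ω) / (p : cycField ω) : cycField ω) : ℂ) =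
      ((x : cycField ω) : ℂ) / (p : ℂ) by push_cast; rfl, map_div₀]
    exact (div_le_one₀ (zero_lt_iff.2 hp0)).2 hle)
  refine ⟨⟨_, hy⟩, Subtype.ext ?_⟩
  push_cast
  rw [mul_div_cancel₀]
  exact_mod_cast hp.out.ne_zero

theorem Unram.exists_unit_mul (h : Unram p O m ω) {x : cycRing O ω} (hx : x ≠ 0) :
    ∃ a : ℕ, ∃ u : (cycRing O ω)ˣ, x = (p : cycRing O ω) ^ a * u := by
  have hx0 : ((x : cycField ω) : ℂ) ≠ 0 := by simpa using hx
  obtain ⟨k, hk⟩ := h.val_field (x : cycField ω).2 hx0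
  have hp0 : O.valuation (p : ℂ) ≠ 0 :=
    (Valuation.ne_zero_iff _).2 (by exact_mod_cast hp.out.ne_zero)
  have hp1 := val_prime_lt_one h.mem
  obtain ⟨a, rfl⟩ : ∃ a : ℕ, k = a := by
    refine Int.eq_ofNat_of_zero_le (not_lt.1 fun hneg => ?_)
    have hle := mem_cycRing.1 x.2
    rw [hk] at hle
    obtain ⟨b, rfl⟩ : ∃ b : ℕ, k = -((b + 1 : ℕ) : ℤ) := ⟨(-k).toNat - 1, by omega⟩
    rw [_root_.zpow_neg, zpow_natCast, inv_le_one₀ (zero_lt_iff.2 (pow_ne_zero _ hp0))] at hle
    exact absurd hle (not_le.2 (pow_lt_one₀ zero_le hp1 (by omega)))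
  rw [zpow_natCast] at hk
  have hy : (x : cycField ω) / (p : cycField ω) ^ a ∈ cycRing O ω := mem_cycRing.2 (by
    rw [show (((x : cycField ω) / (p : cycField ω) ^ a : cycField ω) : ℂ) =
      ((x : cycField ω) : ℂ) / (p : ℂ) ^ a by push_cast; rfl, map_div₀, map_pow, hk,
      div_self (pow_ne_zero _ hp0)])
  have hu : IsUnit (⟨_, hy⟩ : cycRing O ω) := by
    by_contra hn
    rw [not_isUnit_iff_val_lt_one] at hn
    rw [show (((x : cycField ω) / (p : cycField ω) ^ a : cycField ω) : ℂ) =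
      ((x : cycField ω) : ℂ) / (p : ℂ) ^ a by push_cast; rfl, map_div₀, map_pow, hk,
      div_self (pow_ne_zero _ hp0)] at hn
    exact lt_irrefl _ hn
  refine ⟨a, hu.unit, Subtype.ext ?_⟩
  push_cast [IsUnit.unit_spec]
  rw [mul_div_cancel₀]
  exact pow_ne_zero _ (by exact_mod_cast hp.out.ne_zero)

theorem Unram.isPrincipal (h : Unram p O m ω) : IsPrincipalIdealRing (cycRing O ω) := by
  classical
  refine ⟨fun I => ⟨?_⟩⟩
  rcases eq_or_ne I ⊥ with rfl | hI
  · exact ⟨0, by simp⟩
  have hex : ∃ a : ℕ, (p : cycRing O ω) ^ a ∈ I := by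
    obtain ⟨x, hx, hx0⟩ := Submodule.exists_mem_ne_zero_of_ne_bot hI
    obtain ⟨a, u, rfl⟩ := h.exists_unit_mul hx0
    exact ⟨a, (Ideal.mul_unit_mem_iff_mem I u.isUnit).1 hx⟩
  refine ⟨(p : cycRing O ω) ^ Nat.find hex, le_antisymm (fun x hx => ?_) ?_⟩
  · rcases eq_or_ne x 0 with rfl | hx0
    · exact zero_mem _
    obtain ⟨a, u, rfl⟩ := h.exists_unit_mul hx0
    refine Ideal.mem_span_singleton.2 (Dvd.dvd.mul_right (pow_dvd_pow _ ?_) _)
    exact Nat.find_min' hex ((Ideal.mul_unit_mem_iff_mem I u.isUnit).1 hx)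
  · exact (Ideal.span_singleton_le_iff_mem _).2 (Nat.find_spec hex)

/-- The matrices over `cycRing` as complex matrices. -/
noncomputable def toC {n : Type*} [Fintype n] [DecidableEq n] (O : ValuationSubring ℂ) (ω : ℂ) :
    Matrix n n (cycRing O ω) →+* Matrix n n ℂ :=
  ((algebraMap (cycField ω) ℂ).comp (cycRing O ω).subtype).mapMatrix

theorem trace_toC {n : Type*} [Fintype n] [DecidableEq n] (A : Matrix n n (cycRing O ω)) :
    (toC O ω A).trace = (((toK (cycRing O ω) n A).trace : cycField ω) : ℂ) := by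
  simp [toC, toK, Matrix.trace]

/-- Every finite linear group is conjugate to one over the valuation ring. -/
theorem exists_lattice {K : Type*} [Field K] (A : ValuationSubring K) {G : Type*} [Group G]
    [Finite G] {n : Type*} [Fintype n] [DecidableEq n] (R : G →* Matrix n n K) :
    ∃ (R' : G →* Matrix n n A) (X : (Matrix n n K)ˣ),
      ∀ g, (X : Matrix n n K) * toK A n (R' g) = R g * X := by
  classical
  let _ : Fintype G := Fintype.ofFinite G
  let M : (n → G × n) → Matrix n n K := fun f => Matrix.of fun i j => R (f j).1 i (f j).2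
  obtain ⟨f, -, hf⟩ := Finset.exists_max_image Finset.univ
    (fun f => A.valuation (M f).det) ⟨fun j => (1, j), Finset.mem_univ _⟩
  have hdet : (M f).det ≠ 0 := by
    intro h0
    have h1 := hf (fun j => (1, j)) (Finset.mem_univ _)
    have e : M (fun j => (1, j)) = 1 := by ext i j; simp [M]
    rw [e, Matrix.det_one, h0, map_one, map_zero] at h1
    exact zero_ne_one (le_antisymm zero_le h1)
  have hXu : IsUnit (M f) := (Matrix.isUnit_iff_isUnit_det _).2 (isUnit_iff_ne_zero.2 hdet)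
  have hint : ∀ (g : G) (i j : n), ((M f)⁻¹ * R g * M f) i j ∈ A := by
    intro g i j
    rw [← A.valuation_le_one_iff]
    set s : n → K := fun a => R (g * (f j).1) a (f j).2 with hs
    have e1 : ((M f)⁻¹ * R g * M f) i j = ((M f)⁻¹ *ᵥ s) i := by
      rw [mul_assoc, Matrix.mul_apply, Matrix.mulVec, dotProduct]
      refine Finset.sum_congr rfl fun a _ => ?_
      congr 1
      simp [M, hs, map_mul, Matrix.mul_apply]
    have e2 : ((M f).det * ((M f)⁻¹ *ᵥ s) i) = ((M f).updateCol i s).det := by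
      rw [Matrix.inv_def, Matrix.smul_mulVec, Pi.smul_apply, smul_eq_mul, ← mul_assoc,
        Ring.mul_inverse_cancel _ (isUnit_iff_ne_zero.2 hdet), one_mul,
        ← Matrix.cramer_eq_adjugate_mulVec, Matrix.cramer_apply]
    have e3 : (M f).updateCol i s = M (Function.update f i (g * (f j).1, (f j).2)) := by
      ext a b
      by_cases hb : b = i
      · subst hb; simp [M, hs]
      · simp [M, hb]
    have h1 := hf (Function.update f i (g * (f j).1, (f j).2)) (Finset.mem_univ _)
    rw [← e3, ← e2, map_mul] at h1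
    rw [e1]
    have hv0 : A.valuation (M f).det ≠ 0 := (Valuation.ne_zero_iff _).2 hdet
    exact le_of_mul_le_mul_left (h1.trans_eq (mul_one _).symm) (zero_lt_iff.2 hv0)
  let R₁ : G → Matrix n n A := fun g => Matrix.of fun i j => ⟨_, hint g i j⟩
  have hR₁ : ∀ g, toK A n (R₁ g) = (M f)⁻¹ * R g * M f := fun g => rfl
  have hinj : Function.Injective (toK A n) := fun a b h => Matrix.map_injective
    (f := A.subtype) (Subtype.val_injective) h
  refine ⟨⟨⟨R₁, hinj ?_⟩, fun a b => hinj ?_⟩, hXu.unit, fun g => ?_⟩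
  · rw [map_one, hR₁, map_one, mul_one, Matrix.nonsing_inv_mul _ (isUnit_iff_ne_zero.2 hdet)]
  · rw [map_mul, hR₁, hR₁, hR₁, map_mul]
    simp only [mul_assoc]
    rw [Matrix.mul_nonsing_inv_cancel_left _ _ (isUnit_iff_ne_zero.2 hdet)]
  · show M f * toK A n (R₁ g) = R g * M f
    rw [hR₁, mul_assoc, Matrix.mul_nonsing_inv_cancel_left _ _ (isUnit_iff_ne_zero.2 hdet)]

/-- An absolutely irreducible lattice has scalar centraliser. -/
theorem localEnd_of_schur {G : Type*} [Group G] {n : Type*} [Fintype n] [DecidableEq n]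
    (R : G →* Matrix n n (cycRing O ω))
    (hS : ∀ Φ : Matrix n n ℂ, (∀ g, Commute Φ (toC O ω (R g))) → ∃ c : ℂ, Φ = c • 1) :
    LocalEnd R := by
  intro Φ hΦ
  obtain ⟨c, hc⟩ := hS (toC O ω Φ) fun g => (hΦ g).map _
  rcases isEmpty_or_nonempty n with hn | ⟨⟨i₀⟩⟩
  · exact ⟨0, 0, Subsingleton.elim _ _⟩
  refine ⟨Φ i₀ i₀, 1, ?_⟩
  have hinj : Function.Injective (toC (n := n) O ω) := fun a b h => Matrix.map_injective
    (f := (algebraMap (cycField ω) ℂ).comp (cycRing O ω).subtype)
    ((algebraMap (cycField ω) ℂ).injective.comp Subtype.val_injective) h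
  have e : Φ = Φ i₀ i₀ • 1 := hinj (by
    have h0 := congrFun (congrFun hc i₀) i₀
    simp [toC] at h0
    rw [hc, ← h0]
    ext i j
    by_cases hij : i = j <;> simp [toC, hij])
  rw [pow_one, ← e, sub_self, map_zero]

section SumOfIrr

variable {G : Type*} [Group G] [Fintype G]

/-- The centraliser of a multiplicity-free complex representation. -/
theorem exists_eigen_of_multfree {n : Type*} [Fintype n] [DecidableEq n]
    (S : Finset (Cfsg.IrrCharacter G)) (R : G →* Matrix n n ℂ)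
    (hR : ∀ g, (R g).trace = ∑ χ ∈ S, χ.1 g) {Φ : Matrix n n ℂ}
    (hΦ : ∀ g, Commute Φ (R g)) :
    ∃ w : Cfsg.IrrCharacter G → ℂ, (∀ g, (Φ * R g).trace = ∑ χ ∈ S, w χ * χ.1 g) ∧
      Polynomial.aeval Φ (∏ χ ∈ S, (Polynomial.X - Polynomial.C (w χ))) = 0 ∧
      ∀ χ ∈ S, ∃ u : n → ℂ, u ≠ 0 ∧ Φ *ᵥ u = w χ • u := by
  classical
  choose d ρ hρi hρ using fun χ : Cfsg.IrrCharacter G => χ.2
  let ι := Σ χ : S, Fin (d χ.1)
  let B : G → Matrix ι ι ℂ := fun g => Matrix.blockDiagonal' fun χ : S => H26.matHom (ρ χ.1) g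
  let Bh : G →* Matrix ι ι ℂ :=
    { toFun := B
      map_one' := by
        show Matrix.blockDiagonal' _ = 1
        rw [show (fun χ : S => H26.matHom (ρ χ.1) 1) = 1 from funext fun χ => map_one _]
        exact Matrix.blockDiagonal'_one
      map_mul' := fun a b => by
        show Matrix.blockDiagonal' _ = _
        rw [show (fun χ : S => H26.matHom (ρ χ.1) (a * b)) = fun χ : S =>
          H26.matHom (ρ χ.1) a * H26.matHom (ρ χ.1) b from funext fun χ => map_mul _ _ _]
        exact Matrix.blockDiagonal'_mul _ _ }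
  have htr : ∀ (χ : Cfsg.IrrCharacter G) g, (H26.matHom (ρ χ) g).trace = χ.1 g := fun χ g => by
    rw [H26.trace_matHom, ← congrFun (hρ χ) g]; rfl
  let σ₁ : Representation ℂ G (n → ℂ) := Matrix.toLinAlgEquiv'.toMonoidHom.comp R
  let σ₂ : Representation ℂ G (ι → ℂ) := Matrix.toLinAlgEquiv'.toMonoidHom.comp Bh
  obtain ⟨e⟩ := H26.nonempty_equiv_of_char_eq σ₁ σ₂ (funext fun g => by
    show LinearMap.trace ℂ _ (Matrix.toLin' (R g)) = LinearMap.trace ℂ _ (Matrix.toLin' (B g))
    rw [Matrix.trace_toLin'_eq, Matrix.trace_toLin'_eq, hR g, Matrix.trace_blockDiagonal',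
      ← Finset.sum_coe_sort]
    exact Finset.sum_congr rfl fun χ _ => (htr χ.1 g).symm)
  -- transport `Φ`
  let E : (n → ℂ) ≃ₗ[ℂ] (ι → ℂ) := e.toLinearEquiv
  have hE : ∀ g v, E (R g *ᵥ v) = B g *ᵥ E v := fun g v => Representation.IntertwiningMap.isIntertwining _ _ e.toIntertwiningMap g v
  let X := LinearMap.toMatrix' E.toLinearMap
  let Y := LinearMap.toMatrix' E.symm.toLinearMap
  have hYX : Y * X = 1 := by
    rw [← LinearMap.toMatrix'_comp]; simp
  have hXY : X * Y = 1 := by
    rw [← LinearMap.toMatrix'_comp]; simp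
  have hXR : ∀ g, X * R g = B g * X := fun g => Matrix.toLin'.injective (LinearMap.ext fun v => by
    simp [X, Matrix.toLin'_mul, Matrix.toLin'_apply, hE g v])
  have hRY : ∀ g, R g * Y = Y * B g := fun g => by
    calc R g * Y = Y * (X * R g) * Y := by rw [← Matrix.mul_assoc Y X, hYX, Matrix.one_mul]
      _ = Y * B g * (X * Y) := by rw [hXR]; simp only [Matrix.mul_assoc]
      _ = _ := by rw [hXY, Matrix.mul_one]
  set Ψ := X * Φ * Y with hΨ
  have hΨc : ∀ g, Ψ * B g = B g * Ψ := fun g => by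
    calc Ψ * B g = X * Φ * (Y * B g) := by rw [hΨ, Matrix.mul_assoc]
      _ = X * (Φ * R g) * Y := by rw [← hRY]; simp only [Matrix.mul_assoc]
      _ = X * (R g * Φ) * Y := by rw [(hΦ g).eq]
      _ = (X * R g) * Φ * Y := by simp only [Matrix.mul_assoc]
      _ = _ := by rw [hXR, hΨ]; simp only [Matrix.mul_assoc]
  let blk : ∀ χ χ' : S, Matrix (Fin (d χ.1)) (Fin (d χ'.1)) ℂ := fun χ χ' =>
    Matrix.of fun i j => Ψ ⟨χ, i⟩ ⟨χ', j⟩
  have hblk : ∀ χ χ' g, blk χ χ' * H26.matHom (ρ χ'.1) g = H26.matHom (ρ χ.1) g * blk χ χ' := by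
    intro χ χ' g
    ext i j
    have h := congrFun (congrFun (hΨc g) ⟨χ, i⟩) ⟨χ', j⟩
    rw [Matrix.mul_apply, Matrix.mul_apply, Fintype.sum_sigma, Fintype.sum_sigma,
      Fintype.sum_eq_single χ', Fintype.sum_eq_single χ] at h
    · simpa [Matrix.mul_apply, blk, B] using h
    · intro a ha
      exact Finset.sum_eq_zero fun b _ => by
        simp [B, Matrix.blockDiagonal'_apply_ne _ _ _ (Ne.symm ha)]
    · intro a ha
      exact Finset.sum_eq_zero fun b _ => by simp [B, Matrix.blockDiagonal'_apply_ne _ _ _ ha]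
  have hdiag : ∀ χ : S, ∃ c : ℂ, blk χ χ = c • 1 := fun χ =>
    (have := hρi χ.1; H26.matrix_schur (ρ χ.1) (blk χ χ) fun g => (hblk χ χ g).symm)
  choose c hc using hdiag
  have hoff : ∀ χ χ' : S, χ ≠ χ' → blk χ χ' = 0 := by
    intro χ χ' hne
    have := hρi χ.1
    have := hρi χ'.1
    let f : Representation.IntertwiningMap (ρ χ'.1) (ρ χ.1) :=
      ⟨Matrix.toLin' (blk χ χ'), fun g => by
        have h1 : ∀ (a : Cfsg.IrrCharacter G), Matrix.toLin' (H26.matHom (ρ a) g) = ρ a g :=
          fun a => Matrix.toLin'_toMatrix' _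
        rw [← h1, ← h1, ← Matrix.toLin'_mul, ← Matrix.toLin'_mul, hblk]⟩
    have hemp : IsEmpty (Representation.Equiv (ρ χ'.1) (ρ χ.1)) :=
      ⟨fun φ => hne (Subtype.ext (Subtype.ext (by
        rw [← hρ χ.1, ← hρ χ'.1, Representation.char_iso φ])))⟩
    have h0 : f = 0 := Subsingleton.elim _ _
    exact Matrix.toLin'.injective ((congrArg (fun g => g.toLinearMap) h0).trans (map_zero _).symm)
  let w : Cfsg.IrrCharacter G → ℂ := fun χ => if h : χ ∈ S then c ⟨χ, h⟩ else 0
  have hw : ∀ χ : S, w χ.1 = c χ := fun χ => by simp [w, χ.2]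
  have hΨd : Ψ = Matrix.diagonal fun a : ι => c a.1 := by
    ext ⟨χ, i⟩ ⟨χ', j⟩
    rcases eq_or_ne χ χ' with rfl | hne
    · have := congrFun (congrFun (hc χ) i) j
      simp only [blk, Matrix.of_apply] at this
      rw [this]
      rcases eq_or_ne i j with rfl | hij
      · simp
      · have hne' : (⟨χ, i⟩ : ι) ≠ ⟨χ, j⟩ := fun e => hij (eq_of_heq (Sigma.mk.inj_iff.1 e).2)
        rw [Matrix.diagonal_apply_ne _ hne']; simp [hij]
    · have := congrFun (congrFun (hoff χ χ' hne) i) j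
      simp only [blk, Matrix.of_apply] at this
      rw [this, Matrix.diagonal_apply_ne]
      · rfl
      · exact fun e => hne (Sigma.mk.inj_iff.1 e).1
  refine ⟨w, fun g => ?_, ?_, fun χ hχ => ?_⟩
  · have h1 : (Φ * R g).trace = (Ψ * B g).trace := by
      rw [hΨ, Matrix.mul_assoc (X * Φ), ← hRY, ← Matrix.mul_assoc, Matrix.trace_mul_comm _ Y, ← Matrix.mul_assoc,
        ← Matrix.mul_assoc, hYX, Matrix.one_mul]
    rw [h1, hΨd, Matrix.trace, ← Finset.sum_coe_sort S, Fintype.sum_sigma]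
    refine Finset.sum_congr rfl fun χ _ => ?_
    rw [← htr χ.1 g, Matrix.trace, Finset.mul_sum]
    exact Finset.sum_congr rfl fun i _ => by
      rw [Matrix.diag_apply, Matrix.diagonal_mul, hw]
      simp [B]
  · let conjE : Matrix n n ℂ →ₐ[ℂ] Matrix ι ι ℂ := AlgHom.ofLinearMap
      { toFun := fun A => X * A * Y
        map_add' := fun a b => by rw [Matrix.mul_add, Matrix.add_mul]
        map_smul' := fun a b => by simp }
      (by simp [hXY]) (fun a b => by
        show X * (a * b) * Y = X * a * Y * (X * b * Y)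
        rw [show X * a * Y * (X * b * Y) = X * a * (Y * X) * b * Y by simp only [Matrix.mul_assoc],
          hYX, Matrix.mul_one]
        simp only [Matrix.mul_assoc])
    have h1 : Polynomial.aeval Ψ (∏ χ ∈ S, (Polynomial.X - Polynomial.C (w χ))) = 0 := by
      rw [hΨd]
      have : ∀ q : Polynomial ℂ, Polynomial.aeval (Matrix.diagonal fun a : ι => c a.1) q =
          Matrix.diagonal fun a : ι => q.eval (c a.1) := fun q => by
        refine (Polynomial.aeval_algHom_apply (Matrix.diagonalAlgHom ℂ)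
          (fun a : ι => c a.1) q).trans ?_
        simp only [Matrix.diagonalAlgHom_apply]
        congr 1
        funext a
        simp
      rw [this, Matrix.diagonal_eq_zero]
      funext a
      rw [Polynomial.eval_prod, Pi.zero_apply]
      exact Finset.prod_eq_zero a.1.2 (by simp [hw])
    rw [show Ψ = conjE Φ from rfl, Polynomial.aeval_algHom_apply] at h1
    have h2 : ∀ A, conjE A = 0 → A = 0 := fun A hA => by
      have : Y * (X * A * Y) * X = 0 := by
        rw [show X * A * Y = conjE A from rfl, hA, Matrix.mul_zero, Matrix.zero_mul]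
      rwa [← Matrix.mul_assoc, ← Matrix.mul_assoc, hYX, Matrix.one_mul, Matrix.mul_assoc, hYX,
        Matrix.mul_one] at this
    exact h2 _ h1
  · obtain ⟨i⟩ : Nonempty (Fin (d χ)) := by
      by_contra hne
      rw [not_nonempty_iff] at hne
      exact H26.irr_one_ne_zero χ (by rw [← htr χ 1, Matrix.trace]; simp)
    set a : ι := ⟨⟨χ, hχ⟩, i⟩ with ha
    refine ⟨Y *ᵥ Pi.single a (1 : ℂ), fun h0 => ?_, ?_⟩
    · have := congrArg (fun v => (X *ᵥ v) a) h0
      simp only [Matrix.mulVec_mulVec, hXY, Matrix.one_mulVec, Matrix.mulVec_zero, Pi.zero_apply,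
        Pi.single_eq_same] at this
      exact one_ne_zero this
    · have e : Φ * Y = Y * Ψ := by
        rw [hΨ, ← Matrix.mul_assoc, ← Matrix.mul_assoc, hYX, Matrix.one_mul]
      rw [Matrix.mulVec_mulVec, e, ← Matrix.mulVec_mulVec, hΨd, Matrix.diagonal_mulVec_single,
        ← Matrix.mulVec_smul, ← Pi.single_smul, smul_eq_mul, ← hw]

end SumOfIrr

end Cfsg.Agent.H31.Defect
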