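import Mathlib
import Cfsg.Agent.H27.SplittingField
import Cfsg.Agent.H31.Defect.Field

/-!
Realisation over a cyclotomic field of conductor prime to `p`.
-/

set_option autoImplicit false
set_option linter.unusedSectionVars false

namespace Cfsg.Agent.H31.Defect

open Module

universe u

variable {G : Type u} [Group G] [Fintype G] {F : Type*} [Field F]

/-- Differences of characters of representations over `F`. -/
noncomputable def virtOver (G : Type u) [Group G] [Fintype G] (emb : F →+* ℂ) :
    AddSubgroup (G → ℂ) where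
  carrier := {χ | ∃ (p q : ℕ) (P : Representation F G (Fin p → F))
    (Q : Representation F G (Fin q → F)), ∀ g, χ g = emb (P.character g) - emb (Q.character g)}
  zero_mem' := ⟨0, 0, 1, 1, fun g => by simp⟩
  neg_mem' := by
    rintro χ ⟨p, q, P, Q, h⟩
    exact ⟨q, p, Q, P, fun g => by simp [h g]⟩
  add_mem' := by
    rintro χ ψ ⟨p, q, P, Q, h⟩ ⟨p', q', P', Q', h'⟩
    let e1 := (finBasis F ((Fin p → F) × (Fin p' → F))).equivFun
    let e2 := (finBasis F ((Fin q → F) × (Fin q' → F))).equivFun
    refine ⟨_, _, (LinearEquiv.conjRingEquiv e1).toMonoidHom.comp (P.prod P'),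
      (LinearEquiv.conjRingEquiv e2).toMonoidHom.comp (Q.prod Q'), fun g => ?_⟩
    have t1 : Representation.character
        ((LinearEquiv.conjRingEquiv e1).toMonoidHom.comp (P.prod P')) g
        = P.character g + P'.character g :=
      (LinearMap.trace_conj' ((P.prod P') g) e1).trans (LinearMap.trace_prodMap' _ _)
    have t2 : Representation.character
        ((LinearEquiv.conjRingEquiv e2).toMonoidHom.comp (Q.prod Q')) g
        = Q.character g + Q'.character g :=
      (LinearMap.trace_conj' ((Q.prod Q') g) e2).trans (LinearMap.trace_prodMap' _ _)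
    rw [Pi.add_apply, h g, h' g, t1, t2, map_add, map_add]
    ring

/-- An `F`-representation as a complex character. -/
theorem isCharacter_emb (emb : F →+* ℂ) {q : ℕ} (Q : Representation F G (Fin q → F)) :
    Cfsg.IsCharacter G (fun g => emb (Q.character g)) := by
  let A : G →* Matrix (Fin q) (Fin q) ℂ :=
    (emb.mapMatrix : Matrix (Fin q) (Fin q) F →+* _).toMonoidHom.comp (H26.matHom Q)
  refine ⟨q, Matrix.toLinAlgEquiv'.toMonoidHom.comp A, funext fun g => ?_⟩
  show LinearMap.trace ℂ _ (Matrix.toLin' (A g)) = emb (LinearMap.trace F _ (Q g))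
  rw [Matrix.trace_toLin'_eq, ← H26.trace_matHom]
  exact (AddMonoidHom.map_trace emb.toAddMonoidHom _).symm

/-- A character which is virtual over `F` is the character of an `F`-representation. -/
theorem exists_rep_of_isCharacter (emb : F →+* ℂ) [CharZero F] :
    ∀ (N : ℕ) (p q : ℕ) (P : Representation F G (Fin p → F)) (Q : Representation F G (Fin q → F)),
      p + q ≤ N → ∀ χ : G → ℂ, Cfsg.IsCharacter G χ →
      (∀ g, χ g = emb (P.character g) - emb (Q.character g)) →
      ∃ (d : ℕ) (R : Representation F G (Fin d → F)), ∀ g, χ g = emb (R.character g) := by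
  intro N
  induction N using Nat.strong_induction_on with
  | _ N ih =>
  intro p q P Q hN χ hχc hχ
  classical
  haveI : Invertible (Nat.card G : F) :=
    invertibleOfNonzero (by exact_mod_cast Nat.card_pos.ne')
  haveI : NeZero (Nat.card G : F) := ⟨by exact_mod_cast Nat.card_pos.ne'⟩
  by_cases hhom : ∃ f : Representation.IntertwiningMap Q P, f ≠ 0
  · obtain ⟨f, hf⟩ := hhom
    obtain ⟨P', hP'⟩ := exists_isCompl f.range
    obtain ⟨Q', hQ'⟩ := exists_isCompl f.ker
    have hP1 : IsCompl f.range.toSubmodule P'.toSubmodule := IsCompl.of_eq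
      (congrArg Subrepresentation.toSubmodule hP'.inf_eq_bot)
      (congrArg Subrepresentation.toSubmodule hP'.sup_eq_top)
    have hQ1 : IsCompl f.ker.toSubmodule Q'.toSubmodule := IsCompl.of_eq
      (congrArg Subrepresentation.toSubmodule hQ'.inf_eq_bot)
      (congrArg Subrepresentation.toSubmodule hQ'.sup_eq_top)
    have hsplit : ∀ {n : ℕ} (R : Representation F G (Fin n → F)) (A B : Subrepresentation R),
        IsCompl A.toSubmodule B.toSubmodule → ∀ g,
        R.character g = A.toRepresentation.character g + B.toRepresentation.character g := by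
      intro n R A B hAB g
      have e : (A.toRepresentation.prod B.toRepresentation).Equiv R :=
        .mk (Submodule.prodEquivOfIsCompl _ _ hAB) fun g => LinearMap.ext fun x => by
          simp [Submodule.coe_prodEquivOfIsCompl', Representation.prod,
            Subrepresentation.toRepresentation]
      rw [← Representation.char_iso e]
      exact LinearMap.trace_prodMap' _ _
    let φ : Q'.toSubmodule →ₗ[F] f.range.toSubmodule :=
      (f.toLinearMap.domRestrict Q'.toSubmodule).codRestrict _ fun x => ⟨x.1, rfl⟩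
    have hφ : Function.Bijective φ := by
      constructor
      · rw [← LinearMap.ker_eq_bot, LinearMap.ker_eq_bot']
        intro x hx
        have h1 : (x : Fin q → F) ∈ f.ker.toSubmodule := congrArg Subtype.val hx
        exact Subtype.ext (Submodule.disjoint_def.1 hQ1.disjoint _ h1 x.2)
      · rintro ⟨y, z, rfl⟩
        obtain ⟨a, ha, b, hb, hab⟩ :
            ∃ a ∈ f.ker.toSubmodule, ∃ b ∈ Q'.toSubmodule, a + b = z := by
          rw [← Submodule.mem_sup, hQ1.sup_eq_top]; trivial
        refine ⟨⟨b, hb⟩, Subtype.ext ?_⟩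
        show f.toLinearMap b = f.toLinearMap z
        rw [← hab, map_add, show f.toLinearMap a = 0 from ha, zero_add]
    have hiso : Q'.toRepresentation.character = f.range.toRepresentation.character :=
      Representation.char_iso (.mk (LinearEquiv.ofBijective φ hφ) fun g => LinearMap.ext fun x =>
        Subtype.ext (Representation.IntertwiningMap.isIntertwining _ _ f g x.1))
    have hpos : 0 < finrank F f.range.toSubmodule := by
      rw [Module.finrank_pos_iff_exists_ne_zero]
      obtain ⟨v, hv⟩ : ∃ v, f.toLinearMap v ≠ 0 := by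
        by_contra h
        push Not at h
        exact hf (DFunLike.ext _ _ fun v => h v)
      exact ⟨⟨_, v, rfl⟩, fun h => hv (congrArg Subtype.val h)⟩
    have hdim := Submodule.finrank_add_eq_of_isCompl hP1
    have hdim2 := Submodule.finrank_le f.ker.toSubmodule
    simp only [Module.finrank_fintype_fun_eq_card, Fintype.card_fin] at hdim hdim2
    have hfin : ∀ {W : Type _} [AddCommGroup W] [Module F W] [FiniteDimensional F W]
        (R : Representation F G W), ∃ R' : Representation F G (Fin (finrank F W) → F),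
          R'.character = R.character := by
      intro W _ _ _ R
      refine ⟨(LinearEquiv.conjRingEquiv (finBasis F W).equivFun).toMonoidHom.comp R,
        funext fun g => ?_⟩
      exact LinearMap.trace_conj' (R g) _
    obtain ⟨P₁, hP₁⟩ := hfin P'.toRepresentation
    obtain ⟨Q₁, hQ₁⟩ := hfin f.ker.toRepresentation
    refine ih (finrank F P'.toSubmodule + finrank F f.ker.toSubmodule) (by omega) _ _ P₁ Q₁ le_rfl
      χ hχc fun g => ?_
    rw [hχ g, hsplit P f.range P' hP1 g, hsplit Q f.ker Q' hQ1 g, hiso, hP₁, hQ₁, map_add, map_add]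
    ring
  push Not at hhom
  haveI : Subsingleton (Representation.IntertwiningMap Q P) :=
    ⟨fun a b => (hhom a).trans (hhom b).symm⟩
  have hzero : ∑ g : G, P.character g * Q.character g⁻¹ = 0 := by
    have h := Representation.card_inv_mul_sum_char_mul_char_eq_finrank Q P
    rw [Module.finrank_zero_of_subsingleton, Nat.cast_zero, mul_eq_zero] at h
    exact h.resolve_left (inv_ne_zero (by exact_mod_cast Nat.card_pos.ne'))
  obtain ⟨k, hk, hk0⟩ : ∃ k : ℕ,
      (Nat.card G : F) * (k : F) = ∑ g : G, Q.character g * Q.character g⁻¹ ∧ (k = 0 → q = 0) := by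
    refine ⟨finrank F (Representation.IntertwiningMap Q Q), ?_, fun h0 => ?_⟩
    · rw [← Representation.card_inv_mul_sum_char_mul_char_eq_finrank Q Q,
        mul_inv_cancel_left₀ (by exact_mod_cast Nat.card_pos.ne')]
    · by_contra hn
      haveI : Subsingleton (Representation.IntertwiningMap Q Q) := Module.finrank_zero_iff.1 h0
      have h1 := DFunLike.congr_fun
        (Subsingleton.elim (Representation.IntertwiningMap.id (ρ := Q)) 0) (fun _ => (1 : F))
      exact one_ne_zero
        (congrFun (h1 : (fun _ => (1 : F)) = (0 : Fin q → F)) ⟨0, Nat.pos_of_ne_zero hn⟩)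
  have hQc := isCharacter_emb emb Q
  obtain ⟨cχ, ecχ⟩ := H26.exists_nat_coeffs hχc
  obtain ⟨cQ, ecQ⟩ := H26.exists_nat_coeffs hQc
  have hinner : Cfsg.classInner χ (fun g => emb (Q.character g)) = -(k : ℂ) := by
    rw [Cfsg.classInner, inv_mul_eq_iff_eq_mul₀ (by exact_mod_cast Nat.card_pos.ne')]
    calc ∑ g, χ g * (starRingEnd ℂ) (emb (Q.character g))
        = ∑ g, (emb (P.character g * Q.character g⁻¹) - emb (Q.character g * Q.character g⁻¹)) :=
          Finset.sum_congr rfl fun g _ => by
            rw [← H26.inv_eq_conj_of_isCharacter hQc g, hχ g, map_mul, map_mul]; ring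
      _ = _ := by
        rw [Finset.sum_sub_distrib, ← map_sum, ← map_sum, hzero, ← hk, map_zero, map_mul,
          map_natCast, map_natCast]
        ring
  obtain ⟨r, hr⟩ : ∃ r : ℕ, Cfsg.classInner χ (fun g => emb (Q.character g)) = (r : ℂ) := by
    refine ⟨∑ ψ, cχ ψ * cQ ψ, ?_⟩
    rw [ecχ.2, show (fun g => emb (Q.character g)) = _ from ecQ.2,
      H26.classInner_sum_right, Nat.cast_sum]
    refine Finset.sum_congr rfl fun ψ _ => ?_
    rw [H26.classInner_smul_right, H26.classInner_sum_smul_irr]
    simp [mul_comm]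
  have hk' : k = 0 := by
    have h : ((r + k : ℕ) : ℂ) = 0 := by
      push_cast
      rw [← hr, hinner]
      ring
    have : r + k = 0 := by exact_mod_cast h
    omega
  obtain rfl := hk0 hk'
  refine ⟨p, P, fun g => ?_⟩
  rw [hχ g, show Q.character g = 0 from by
    simp [Representation.character, Subsingleton.elim (Q g) 0], map_zero, sub_zero]

/-- Class functions on a `p'`-subgroup induced to `G` which are generalised characters are virtual
over a field with the roots of unity of order `m`. -/
theorem indFun_mem_virtOver {p : ℕ} (emb : F →+* ℂ) {m : ℕ} {ω : ℂ} [NeZero m]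
    (hprim : IsPrimitiveRoot ω m) (hω : ω ∈ emb.range)
    (hm : ∀ g : G, ¬ p ∣ orderOf g → g ^ m = 1) (S : Subgroup G) [Fintype S]
    (hS : ∀ s : S, ¬ p ∣ orderOf s) {η : S → ℂ} (hη : η ∈ H27.genChars S) :
    Cfsg.indFun S η ∈ virtOver G emb := by
  obtain ⟨a, b, ha, hb, rfl⟩ := hη
  have key : ∀ χ : S → ℂ, Cfsg.IsCharacter S χ → Cfsg.indFun S χ ∈ virtOver G emb := by
    intro χ hχ
    suffices h : H27.monoSpan (fun E : Subgroup S => ∃ q : ℕ, q.Prime ∧ Cfsg.IsElementary q E) ≤
        (virtOver G emb).comap (H39.indFunHom S) from h (H27.character_mem_monoSpan_elementary hχ)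
    refine (AddSubgroup.closure_le _).2 ?_
    rintro _ ⟨E, φ, -, rfl⟩
    show Cfsg.indFun S (Cfsg.indFun E _) ∈ virtOver G emb
    rw [H39.indFun_indFun]
    set eqv := E.equivMapOfInjective S.subtype S.subtype_injective with heqv
    have hval : ∀ e : E.map S.subtype, ((φ (eqv.symm e) : ℂˣ) : ℂ) ∈ emb.range := by
      intro e
      have h1 : ((φ (eqv.symm e) : ℂˣ) : ℂ) ^ m = 1 := by
        have h0 : (eqv.symm e) ^ m = 1 := by
          refine Subtype.ext (Subtype.ext ?_)
          push_cast
          exact hm _ (by rw [Subgroup.orderOf_coe]; exact hS _)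
        rw [← Units.val_pow_eq_pow_val, ← map_pow, h0, map_one, Units.val_one]
      obtain ⟨i, -, hi⟩ := hprim.eq_pow_of_pow_eq_one h1
      exact hi ▸ pow_mem hω i
    choose lf hlf using hval
    let lam : (E.map S.subtype) →* F :=
      { toFun := lf
        map_one' := emb.injective (by simp [hlf])
        map_mul' := fun x y => emb.injective (by simp [hlf]) }
    obtain ⟨d, P, hP⟩ := H27.exists_monomial (E.map S.subtype) lam emb
    refine ⟨d, 0, P, 1, fun g => ?_⟩
    rw [hP g, show Representation.character (1 : Representation F G (Fin 0 → F)) g = 0 from by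
      simp [Representation.character], map_zero, sub_zero]
    congr 1
    funext e
    exact (hlf e).symm
  rw [H25.indFun_sub]
  exact sub_mem (key a ha) (key b hb)

/-- A nilpotent group has a normal complement to its Sylow `p`-subgroup, with a retraction. -/
theorem exists_retraction {E : Type u} [Group E] [Finite E] [Group.IsNilpotent E] (p : ℕ)
    [hp : Fact p.Prime] : ∃ (R : Subgroup E) (π : E →* R), R.Normal ∧
      (∀ r : R, π r = r) ∧ ∀ x : E, x ∈ R ↔ ¬ p ∣ orderOf x := by
  classical
  let P : Sylow p E := default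
  obtain ⟨R, hR⟩ := Subgroup.exists_right_complement'_of_coprime (N := (P : Subgroup E))
    P.card_coprime_index
  have hidx : R.index = Nat.card P := hR.index_eq_card
  have hcardR : ¬ p ∣ Nat.card R := by
    intro hd
    refine P.not_dvd_index ?_
    rwa [hR.symm.index_eq_card]
  have hcomm : ∀ x : E, ¬ p ∣ orderOf x → ∀ a ∈ (P : Subgroup E), a * x = x * a := by
    intro x hx
    -- the centraliser of `P` contains every other Sylow subgroup
    set C := Subgroup.centralizer ((P : Subgroup E) : Set E)
    have hC : C.Normal := by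
      have : (P : Subgroup E).Normal := inferInstance
      exact Subgroup.normal_centralizer
    have hxC : x ∈ C := by
      have hord : orderOf (x : E ⧸ C) = 1 := by
        by_contra hne
        obtain ⟨r, hr, hrd⟩ := Nat.exists_prime_and_dvd hne
        have : Fact r.Prime := ⟨hr⟩
        have hrp : r ≠ p := fun e => hx (e ▸ hrd.trans (orderOf_map_dvd (QuotientGroup.mk' C) x))
        let Q : Sylow r E := default
        refine Q.not_dvd_index ((hrd.trans (orderOf_dvd_natCard _)).trans ?_)
        rw [← Subgroup.index_eq_card]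
        refine Subgroup.index_dvd_of_le fun y hy => Subgroup.mem_centralizer_iff.2 fun a ha => ?_
        exact (Subgroup.commute_of_normal_of_disjoint (P : Subgroup E) (Q : Subgroup E)
          inferInstance inferInstance
          (IsPGroup.disjoint_of_ne p r hrp.symm _ _ P.isPGroup' Q.isPGroup') a y ha hy).eq
      rw [orderOf_eq_one_iff] at hord
      exact (QuotientGroup.eq_one_iff x).1 hord
    exact fun a ha => Subgroup.mem_centralizer_iff.1 hxC a ha
  have hRn : R.Normal := by
    refine ⟨fun r hr g => ?_⟩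
    obtain ⟨⟨⟨a, ha⟩, ⟨s, hs⟩⟩, rfl⟩ := hR.2 g
    have hr' : ∀ {y : E}, y ∈ R → ¬ p ∣ orderOf y := fun {y} hy hd =>
      hcardR (hd.trans (Subgroup.orderOf_dvd_natCard R hy))
    have h1 : s * r * s⁻¹ ∈ R := R.mul_mem (R.mul_mem hs hr) (R.inv_mem hs)
    have h2 := hcomm _ (hr' h1) a ha
    show a * s * r * (a * s)⁻¹ ∈ R
    rw [show a * s * r * (a * s)⁻¹ = a * (s * r * s⁻¹) * a⁻¹ by group, h2, mul_inv_cancel_right]
    exact h1
  have hchar : ∀ x : E, x ∈ R ↔ ¬ p ∣ orderOf x := by
    refine fun x => ⟨fun hx hd => hcardR (hd.trans (Subgroup.orderOf_dvd_natCard R hx)),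
      fun hx => ?_⟩
    have h1 : orderOf (x : E ⧸ R) ∣ Nat.card P := by
      rw [← hidx, Subgroup.index_eq_card]; exact orderOf_dvd_natCard _
    obtain ⟨k, hk⟩ := P.isPGroup'.exists_card_eq
    rw [hk] at h1
    have h2 : orderOf (x : E ⧸ R) ∣ orderOf x := orderOf_map_dvd (QuotientGroup.mk' R) x
    have h3 : orderOf (x : E ⧸ R) = 1 := Nat.eq_one_of_dvd_coprimes
      ((Nat.Coprime.pow_left k ((hp.out.coprime_iff_not_dvd).2 hx))) h1 h2
    rw [orderOf_eq_one_iff] at h3
    exact (QuotientGroup.eq_one_iff x).1 h3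
  let e : R →* E ⧸ (P : Subgroup E) := (QuotientGroup.mk' (P : Subgroup E)).comp R.subtype
  have he : Function.Bijective e := by
    constructor
    · rw [← MonoidHom.ker_eq_bot_iff, eq_bot_iff]
      intro r hr
      have hmem : (r : E) ∈ (P : Subgroup E) := (QuotientGroup.eq_one_iff (r : E)).1 hr
      exact Subtype.ext (Subgroup.disjoint_def.1 hR.disjoint hmem r.2)
    · intro q
      obtain ⟨g, rfl⟩ := QuotientGroup.mk_surjective q
      obtain ⟨⟨⟨a, ha⟩, ⟨s, hs⟩⟩, rfl⟩ := hR.2 g
      refine ⟨⟨s, hs⟩, (QuotientGroup.eq.2 ?_)⟩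
      show s⁻¹ * (a * s) ∈ (P : Subgroup E)
      simpa [mul_assoc] using
        (inferInstance : (P : Subgroup E).Normal).conj_mem a ha s⁻¹
  let ei := MulEquiv.ofBijective e he
  exact ⟨R, ei.symm.toMonoidHom.comp (QuotientGroup.mk' (P : Subgroup E)), hRn,
    fun r => ei.symm_apply_apply r, hchar⟩

/-- A generalised character supported on `p`-regular elements is virtual over a field with the
roots of unity of order prime to `p`. -/
theorem mem_virtOver_of_vanish {p : ℕ} [hp : Fact p.Prime] (emb : F →+* ℂ) {m : ℕ} {ω : ℂ}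
    [NeZero m] (hprim : IsPrimitiveRoot ω m) (hω : ω ∈ emb.range)
    (hm : ∀ g : G, ¬ p ∣ orderOf g → g ^ m = 1) {θ : G → ℂ} (hθ : θ ∈ H27.genChars G)
    (hvan : ∀ g : G, p ∣ orderOf g → θ g = 0) : θ ∈ virtOver G emb := by
  classical
  obtain ⟨a, b, ha, hb, rfl⟩ := hθ
  have hcf : Cfsg.IsClassFunction G (a - b) := fun g h => by
    rw [Pi.sub_apply, Pi.sub_apply, H26.isClassFunction_of_isCharacter ha g h,
      H26.isClassFunction_of_isCharacter hb g h]
  refine H39.classFun_induction_elementary G _ _ hcf fun E q φ hq hE => ?_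
  haveI := H27.isNilpotent_of_isElementary hq hE
  obtain ⟨R, π, hRn, hπ, hR⟩ := exists_retraction (E := E) p
  set f : E → ℂ := fun e => (φ e : ℂ) * (a - b) (e : G) with hf
  have hfc : Cfsg.IsClassFunction E f := by
    intro g h
    simp only [hf, map_mul, map_inv, mul_inv_cancel_comm, Subgroup.coe_mul, Subgroup.coe_inv]
    rw [hcf]
  have hf0 : ∀ e : E, e ∉ R → f e = 0 := fun e he => by
    rw [hR, not_not] at he
    simp only [hf]
    rw [hvan _ (by rwa [Subgroup.orderOf_coe]), mul_zero]
  have hfch : ∃ A B : E → ℂ, Cfsg.IsCharacter E A ∧ Cfsg.IsCharacter E B ∧ f = A - B := by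
    refine ⟨_, _, H27.isCharacter_hom_mul_restrict ha E φ, H27.isCharacter_hom_mul_restrict hb E φ,
      ?_⟩
    funext e
    simp [hf, mul_sub]
  obtain ⟨A, B, hA, hB, hAB⟩ := hfch
  set η : R → ℂ := fun r => ((R.index : ℕ) : ℂ)⁻¹ * f (r : E) with hη
  have hηc : Cfsg.IsClassFunction R η := fun g h => by
    simp only [hη, Subgroup.coe_mul, Subgroup.coe_inv]
    rw [hfc]
  have hηg : η ∈ H27.genChars R := by
    have hnat : ∀ C : E → ℂ, Cfsg.IsCharacter E C → ∀ ν : Cfsg.IrrCharacter R,
        ∃ k : ℕ, Cfsg.classInner C (fun e => ν.1 (π e)) = (k : ℂ) := by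
      intro C hC ν
      obtain ⟨cC, ecC⟩ := H26.exists_nat_coeffs hC
      obtain ⟨cν, ecν⟩ :=
        H26.exists_nat_coeffs (H26.isCharacter_comp (H26.irr_isCharacter ν) π)
      refine ⟨∑ ψ, cC ψ * cν ψ, ?_⟩
      rw [ecC.2, show (fun e => ν.1 (π e)) = _ from ecν.2,
        H26.classInner_sum_right, Nat.cast_sum]
      refine Finset.sum_congr rfl fun ψ _ => ?_
      rw [H26.classInner_smul_right, H26.classInner_sum_smul_irr]
      simp [mul_comm]
    have hco : ∀ ν : Cfsg.IrrCharacter R, ∃ k : ℤ, Cfsg.classInner η ν.1 = (k : ℂ) := by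
      intro ν
      obtain ⟨kA, hkA⟩ := hnat A hA ν
      obtain ⟨kB, hkB⟩ := hnat B hB ν
      refine ⟨(kA : ℤ) - kB, ?_⟩
      push_cast
      rw [← hkA, ← hkB, ← H26.classInner_sub_left, ← hAB, Cfsg.classInner, Cfsg.classInner,
        ← Finset.sum_subset (Finset.subset_univ (Finset.univ.filter fun e : E => e ∈ R))
          (fun e _ he => by rw [hf0 e (by simpa using he), zero_mul]),
        Finset.sum_subtype (p := (· ∈ R)) _ (by simp), ← R.card_mul_index, Nat.cast_mul, mul_inv,
        mul_assoc]
      simp only [Finset.mul_sum]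
      exact Finset.sum_congr rfl fun r _ => by simp only [hη, hπ]; ring
    choose kk hkk using hco
    rw [H26.class_function_expansion η hηc]
    refine sum_mem fun ν _ => ?_
    rw [hkk, Int.cast_smul_eq_zsmul]
    exact zsmul_mem (H27.mem_genChars_of_isCharacter (H26.irr_isCharacter ν)) _
  have hind : Cfsg.indFun R η = f := by
    funext e
    have hterm : ∀ g : E, Cfsg.extendByZero R η (g⁻¹ * e * g) = ((R.index : ℕ) : ℂ)⁻¹ * f e := by
      intro g
      have hfe : f (g⁻¹ * e * g) = f e := by
        have := hfc e g⁻¹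
        rwa [inv_inv] at this
      by_cases hg : g⁻¹ * e * g ∈ R
      · rw [H25.extendByZero_of_mem _ _ hg, hη]
        simp only [hfe]
      · rw [H25.extendByZero_of_notMem _ _ hg, ← hfe, hf0 _ hg, mul_zero]
    rw [H25.indFun_apply, Finset.sum_congr rfl fun g _ => hterm g, Finset.sum_const,
      Finset.card_univ, nsmul_eq_mul, ← Nat.card_eq_fintype_card, ← R.card_mul_index]
    push_cast
    have h1 : (Nat.card R : ℂ) ≠ 0 := by exact_mod_cast Nat.card_pos.ne'
    have h2 : (R.index : ℂ) ≠ 0 := by exact_mod_cast Subgroup.index_ne_zero_of_finite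
    field_simp
  show Cfsg.indFun E f ∈ _
  rw [← hind, H39.indFun_indFun]
  set eqv := R.equivMapOfInjective E.subtype E.subtype_injective with heqv
  refine indFun_mem_virtOver (p := p) emb hprim hω hm (R.map E.subtype) (fun s => ?_) ?_
  · rw [← (eqv.symm).orderOf_eq s, ← Subgroup.orderOf_coe]
    exact (hR _).1 (eqv.symm s).2
  · obtain ⟨A', B', hA', hB', e'⟩ := hηg
    exact ⟨fun s => A' (eqv.symm s), fun s => B' (eqv.symm s),
      H26.isCharacter_comp hA' eqv.symm.toMonoidHom, H26.isCharacter_comp hB' eqv.symm.toMonoidHom,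
      funext fun s => congrFun e' _⟩

end Cfsg.Agent.H31.Defect
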