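import Mathlib
import Cfsg.Agent.H31.Defect.Gram
import Cfsg.Agent.H31.Defect.Realise
import Cfsg.Agent.H25.CharIntegral

/-!
The two stages: values on the `p`-singular elements are constant over `V`, and bounded by one.
-/

set_option autoImplicit false
set_option linter.unusedSectionVars false

namespace Cfsg.Agent.H31.Defect

open IsLocalRing Matrix
open scoped ComplexConjugate

variable {p : ℕ} [hp : Fact p.Prime]

section Generic

variable {G : Type*} [Group G] [Finite G] {z : G} {V H : Subgroup G}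
variable {K : Type*} [Field K] {O : ValuationSubring K}
variable {n : Type*} [Fintype n] [DecidableEq n]

/-- The averaging idempotent of `V` kills the cohomology or `V` acts trivially on it. -/
theorem kills_or_trivial (S : Parts p z V H) [Fintype V] (R : G →* Matrix n n O)
    (hmem : (p : O) ∈ maximalIdeal O) (hR : LocalEnd R) :
    ∃ w : O, w * (Nat.card V : O) = 1 ∧
      (w • ∑ v : V, R (v : G)) * (w • ∑ v : V, R (v : G)) = w • ∑ v : V, R (v : G) ∧
      Commute (w • ∑ v : V, R (v : G)) (R z) ∧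
      (Kills p (R z) (w • ∑ v : V, R (v : G)) ∨ ∀ v : V, Acts p (R z) (R (v : G)) 1) := by
  classical
  have hZ : OrderP O p (R z) := ⟨hmem, by rw [← map_pow, ← S.ord, pow_orderOf_eq_one, map_one]⟩
  have := hZ.charP
  obtain ⟨w, hw⟩ : ∃ w : O, w * (Nat.card V : O) = 1 := by
    refine IsUnit.exists_left_inv ((residue_ne_zero_iff_isUnit _).1 ?_)
    rw [map_natCast]
    exact fun e => S.ndvd_V ((CharP.cast_eq_zero_iff (ResidueField O) p _).1 e)
  set π := w • ∑ v : V, R (v : G) with hπ
  have habs : ∀ u : V, R (u : G) * π = π := by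
    intro u
    rw [hπ, mul_smul_comm, Finset.mul_sum]
    congr 1
    refine Fintype.sum_equiv (Equiv.mulLeft u) _ _ fun v => ?_
    rw [← map_mul]
    rfl
  have hidem : π * π = π := by
    conv_lhs => arg 1; rw [hπ]
    rw [smul_mul_assoc, Finset.sum_mul, Finset.sum_congr rfl fun v _ => habs v, Finset.sum_const,
      Finset.card_univ, ← Nat.card_eq_fintype_card, ← Nat.cast_smul_eq_nsmul O, smul_smul, hw,
      one_smul]
  have hcN : ∀ g ∈ Subgroup.normalizer ((Subgroup.zpowers z : Subgroup G) : Set G),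
      Commute π (R g) := by
    intro g hg
    refine Commute.smul_left ?_ w
    show (∑ v : V, R (v : G)) * R g = R g * ∑ v : V, R (v : G)
    rw [Finset.sum_mul, Finset.mul_sum]
    have hbij : Function.Bijective fun v : V =>
        (⟨g⁻¹ * v * g, by simpa using S.normal g⁻¹ (inv_mem hg) v v.2⟩ : V) :=
      Finite.injective_iff_bijective.1 fun a b h => Subtype.ext (by
        simpa using congrArg Subtype.val h)
    refine Fintype.sum_bijective _ hbij _ _ fun v => ?_
    rw [← map_mul, ← map_mul]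
    congr 1
    group
  refine ⟨w, hw, hidem, hcN z (Subgroup.le_normalizer (Subgroup.mem_zpowers z)), ?_⟩
  obtain ⟨ψ, hψ⟩ := (Normalises.of_commute (hcN z (Subgroup.le_normalizer
    (Subgroup.mem_zpowers z)))).exists_acts (p := p) hZ
  obtain ⟨a, N, hN⟩ := local_on_cohomology S.ord S.sq R hZ hR hcN hψ
  have hψψ : ψ * ψ = ψ := (hψ.mul hψ).unique (by rw [hidem]; exact hψ)
  have h1 : ∀ j : ℕ, ψ * (ψ - a • 1) ^ j = (1 - a) ^ j • ψ := by
    intro j
    induction j with
    | zero => simp
    | succ j ih =>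
      rw [pow_succ, ← mul_assoc, ih, smul_mul_assoc, mul_sub, hψψ, mul_smul_comm, mul_one,
        pow_succ, ← smul_smul]
      congr 1
      rw [sub_smul, one_smul]
  rcases eq_or_ne a 1 with rfl | ha
  · right
    intro v
    have hone : ψ = 1 := by
      have hid : IsIdempotentElem (1 - ψ) := IsIdempotentElem.one_sub hψψ
      have hNil : IsNilpotent (1 - ψ) := by
        have h4 : IsNilpotent (ψ - 1) := ⟨N, by rwa [one_smul] at hN⟩
        rw [← neg_sub]
        exact h4.neg
      obtain ⟨k, hk⟩ := hNil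
      have h5 : (1 - ψ) ^ (k + 1) = 0 := by rw [pow_succ, hk, zero_mul]
      rw [hid.pow_succ_eq] at h5
      exact (sub_eq_zero.1 h5).symm
    obtain ⟨U, hU⟩ : ∃ U, Acts p (R z) (R (v : G)) U := by
      refine (Normalises.of_commute ?_).exists_acts hZ
      exact ((S.commute v).symm.map R)
    have := hU.mul hψ
    rw [habs v, hone, mul_one] at this
    rw [hone] at hψ
    have hU1 : U = 1 := this.unique hψ
    rw [← hU1]
    exact hU
  · left
    have h3 := h1 N
    rw [hN, mul_zero, eq_comm, smul_eq_zero] at h3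
    have hzero : ψ = 0 := h3.resolve_left (pow_ne_zero _ (sub_ne_zero.2 (Ne.symm ha)))
    intro v hv
    obtain ⟨u, hu, e⟩ := hψ ⟨v, hv⟩
    rw [hzero, LinearMap.zero_apply, cls_eq_zero, hu] at e
    exact e

end Generic

variable {G : Type*} [Group G] [Fintype G] {z : G} {V H : Subgroup G}

theorem exists_matrix_rep (χ : Cfsg.IrrCharacter G) :
    ∃ (d : ℕ) (A : G →* Matrix (Fin d) (Fin d) ℂ), (∀ g, (A g).trace = χ.1 g) ∧
      ∀ Φ : Matrix (Fin d) (Fin d) ℂ, (∀ g, Commute Φ (A g)) → ∃ c : ℂ, Φ = c • 1 := by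
  obtain ⟨d, ρ, hρ, e⟩ := χ.2
  refine ⟨d, H26.matHom ρ, fun g => ?_, fun Φ hΦ => ?_⟩
  · rw [H26.trace_matHom, ← congrFun e g]; rfl
  · exact H26.matrix_schur ρ Φ fun g => (hΦ g).eq.symm

/-- A complex representation with an irreducible character has scalar centraliser. -/
theorem schur_of_char (χ : Cfsg.IrrCharacter G) {d : ℕ} (A : G →* Matrix (Fin d) (Fin d) ℂ)
    (hA : ∀ g, (A g).trace = χ.1 g) {Φ : Matrix (Fin d) (Fin d) ℂ}
    (hΦ : ∀ g, Commute Φ (A g)) : ∃ c : ℂ, Φ = c • 1 := by
  obtain ⟨m, ρ, hρ, e⟩ := χ.2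
  let σ : Representation ℂ G (Fin d → ℂ) := Matrix.toLinAlgEquiv'.toMonoidHom.comp A
  have hchar : ρ.character = σ.character := funext fun g => by
    rw [congrFun e g, ← hA g]
    exact (Matrix.trace_toLin'_eq (A g)).symm
  obtain ⟨φ⟩ := H26.nonempty_equiv_of_char_eq ρ σ hchar
  have : σ.IsIrreducible := H26.isIrreducible_of_equiv φ
  refine H26.matrix_schur σ Φ fun g => ?_
  have e2 : LinearMap.toMatrix' (σ g) = A g := LinearMap.toMatrix'_toLin' (A g)
  rw [e2]
  exact (hΦ g).eq.symm

/-- An irreducible complex lattice. -/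
theorem exists_complex_lattice (O : ValuationSubring ℂ) (χ : Cfsg.IrrCharacter G) :
    ∃ (d : ℕ) (R : G →* Matrix (Fin d) (Fin d) O),
      (∀ g, (toK O (Fin d) (R g)).trace = χ.1 g) ∧ LocalEnd R := by
  classical
  obtain ⟨d, A, hA, hS⟩ := exists_matrix_rep χ
  obtain ⟨R, X, hX⟩ := exists_lattice O A
  have hconj : ∀ g, toK O (Fin d) (R g) = (↑X⁻¹ : Matrix (Fin d) (Fin d) ℂ) * A g * X := fun g => by
    rw [mul_assoc, ← hX g, ← mul_assoc, Units.inv_mul, one_mul]
  have htr : ∀ g, (toK O (Fin d) (R g)).trace = χ.1 g := fun g => by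
    rw [hconj, Matrix.trace_units_conj', hA]
  refine ⟨d, R, htr, fun Φ hΦ => ?_⟩
  obtain ⟨c, hc⟩ := schur_of_char χ ((toK O (Fin d)).toMonoidHom.comp R) htr
    (Φ := toK O (Fin d) Φ) fun g => (hΦ g).map (toK O (Fin d))
  rcases isEmpty_or_nonempty (Fin d) with hn | ⟨⟨i₀⟩⟩
  · exact ⟨0, 0, Subsingleton.elim _ _⟩
  refine ⟨Φ i₀ i₀, 1, ?_⟩
  have hinj : Function.Injective (toK O (Fin d)) := fun a b h =>
    Matrix.map_injective (f := O.subtype) Subtype.val_injective h
  have e : Φ = Φ i₀ i₀ • 1 := hinj (by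
    have h0 := congrFun (congrFun hc i₀) i₀
    simp [toK] at h0
    rw [hc, ← h0]
    ext i j
    by_cases hij : i = j <;> simp [toK, hij])
  rw [pow_one, ← e, sub_self, map_zero]

/-- Character values at `z` are congruent to the degree. -/
theorem val_char_sub_lt_one {O : ValuationSubring ℂ} (hmem : (p : O) ∈ maximalIdeal O)
    (hz : orderOf z = p) (χ : Cfsg.IrrCharacter G) : O.valuation (χ.1 z - χ.1 1) < 1 := by
  classical
  obtain ⟨d, R, htr, -⟩ := exists_complex_lattice O χ
  have hZ : OrderP O p (R z) := ⟨hmem, by rw [← map_pow, ← hz, pow_orderOf_eq_one, map_one]⟩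
  have hnil : (red O (Fin d) (R z) - 1).trace = 0 :=
    isNilpotent_iff_eq_zero.1 (Matrix.isNilpotent_trace_of_isNilpotent ⟨p, hZ.sub_one_pow⟩)
  have h1 : residue O ((R z - 1).trace) = 0 := by
    rw [← hnil, ← map_one (red O (Fin d)), ← map_sub]
    exact AddMonoidHom.map_trace (residue O).toAddMonoidHom _
  rw [residue_eq_zero_iff, mem_maximalIdeal, mem_nonunits_iff] at h1
  have h2 : ((R z - 1).trace : ℂ) = χ.1 z - χ.1 1 := by
    rw [← htr z, ← htr 1, map_one, map_one, ← Matrix.trace_sub, ← map_one (toK O (Fin d)),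
      ← map_sub]
    exact AddMonoidHom.map_trace O.subtype.toAddMonoidHom _
  rw [← h2]
  exact (O.valuation_lt_one_iff _).1 ((mem_maximalIdeal _).2 h1)

theorem sum_pow_sq {R : Type*} [Ring R] {Y : R} {c : ℕ} (hY : Y ^ c = 1) :
    (∑ i ∈ Finset.range c, Y ^ i) * (∑ i ∈ Finset.range c, Y ^ i) =
      c • ∑ i ∈ Finset.range c, Y ^ i := by
  have h1 : Y * (∑ i ∈ Finset.range c, Y ^ i) = ∑ i ∈ Finset.range c, Y ^ i := by
    have h := mul_geom_sum Y c
    rw [hY, sub_self, sub_mul, one_mul, sub_eq_zero] at h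
    exact h
  have h : ∀ i, Y ^ i * (∑ j ∈ Finset.range c, Y ^ j) = ∑ j ∈ Finset.range c, Y ^ j := by
    intro i
    induction i with
    | zero => rw [pow_zero, one_mul]
    | succ i ih => rw [pow_succ, mul_assoc, h1, ih]
  rw [Finset.sum_mul, Finset.sum_congr rfl fun i _ => h i, Finset.sum_const, Finset.card_range]

/-- For an irreducible character either all averages over `V` at non-trivial powers of `z` vanish
or the values there do not depend on `V`. -/
theorem vsum_zero_or_const (S : Parts p z V H) (χ : Cfsg.IrrCharacter G) :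
    (∀ i : ZMod p, i ≠ 0 → vsum z V χ.1 i = 0) ∨
      ∀ i : ZMod p, i ≠ 0 → ∀ v : V, χ.1 (z ^ i.val * (v : G)) = χ.1 (z ^ i.val) := by
  classical
  obtain ⟨O, hmem⟩ := Cfsg.Agent.H44.exists_valuationSubring_natCast_mem p
  obtain ⟨d, R, htr, hR⟩ := exists_complex_lattice O χ
  have hZ : OrderP O p (R z) := ⟨hmem, by rw [← map_pow, ← S.ord, pow_orderOf_eq_one, map_one]⟩
  obtain ⟨ζ, hζ⟩ : ∃ ζ : O, IsPrimitiveRoot (ζ : ℂ) p := by
    have h := Complex.isPrimitiveRoot_exp p hp.out.ne_zero
    exact ⟨⟨_, (O.valuation_le_one_iff _).1 (val_root_of_unity hp.out.ne_zero h.pow_eq_one).le⟩, h⟩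
  have hi0 : ∀ i : ZMod p, i ≠ 0 → ¬ p ∣ i.val := fun i hi hd =>
    hi ((ZMod.val_eq_zero i).1 (Nat.eq_zero_of_dvd_of_lt hd (ZMod.val_lt i)))
  obtain ⟨w, hw, hidem, hc, hk | htriv⟩ := kills_or_trivial S R hmem hR
  · left
    intro i hi
    have h0 := trace_eq_zero hZ hidem hc hk hζ (hi0 i hi)
    rw [mul_smul_comm, Finset.mul_sum] at h0
    have h1 : toK O (Fin d) (w • ∑ v : V, R z ^ i.val * R (v : G)) =
        (w : ℂ) • ∑ v : V, toK O (Fin d) (R (z ^ i.val * (v : G))) := by
      simp only [map_mul R, map_pow R]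
      ext a b
      simp [toK, Matrix.sum_apply]
    rw [h1, Matrix.trace_smul, Matrix.trace_sum, smul_eq_zero] at h0
    have hw0 : (w : ℂ) ≠ 0 := by
      intro e
      have := congrArg (fun x : O => (x : ℂ)) hw
      push_cast at this
      rw [e, zero_mul] at this
      exact zero_ne_one this
    rw [vsum_eq]
    simpa only [htr] using h0.resolve_left hw0
  · right
    intro i hi v
    set c := Nat.card V with hcdef
    have hc0 : c ≠ 0 := Nat.card_pos.ne'
    obtain ⟨η₀, hprim⟩ : ∃ η₀ : ℂ, IsPrimitiveRoot η₀ c :=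
      ⟨_, Complex.isPrimitiveRoot_exp c hc0⟩
    set η : O := ⟨_, (O.valuation_le_one_iff _).1 (val_root_of_unity hc0 hprim.pow_eq_one).le⟩
      with hη
    have hηc : η ^ c = 1 := Subtype.ext (by push_cast; exact hprim.pow_eq_one)
    have hRv : R (v : G) ^ c = 1 := by
      rw [← map_pow, hcdef, show (v : G) ^ Nat.card V = 1 from
        congrArg Subtype.val (pow_card_eq_one' (x := v)), map_one]
    have hZv : Commute (R (v : G)) (R z) := (S.commute v).symm.map R
    -- the non-trivial eigenprojections kill the cohomology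
    have hzero : ∀ s : ℕ, s < c → s ≠ 0 →
        ∑ j ∈ Finset.range c, ((η : ℂ) ^ s) ^ j *
          (toK O (Fin d) (R z ^ i.val * R (v : G) ^ j)).trace = 0 := by
      intro s hs hs0
      set Y := η ^ s • R (v : G) with hYdef
      have hY : Y ^ c = 1 := by
        rw [hYdef, smul_pow, hRv, ← pow_mul, mul_comm, pow_mul, hηc, one_pow, one_smul]
      set π := w • ∑ j ∈ Finset.range c, Y ^ j with hπdef
      have hππ : π * π = π := by
        rw [hπdef, smul_mul_smul_comm, sum_pow_sq hY, ← Nat.cast_smul_eq_nsmul O, smul_smul,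
          mul_assoc, hw, mul_one]
      have hπc : Commute π (R z) :=
        (Commute.sum_left _ _ _ fun j _ => (hZv.smul_left (η ^ s)).pow_left j).smul_left w
      have hkill : Kills p (R z) π := by
        have hsum0 : ∑ j ∈ Finset.range c, residue O ((η ^ s) ^ j) = 0 := by
          rw [← map_sum, show ∑ j ∈ Finset.range c, (η ^ s) ^ j = 0 from ?_, map_zero]
          refine Subtype.ext ?_
          push_cast
          rw [geom_sum_eq (hprim.pow_ne_one_of_pos_of_lt hs0 hs), ← pow_mul, mul_comm, pow_mul,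
            hprim.pow_eq_one, one_pow, sub_self, zero_div]
        have hact : Acts p (R z) π 0 := by
          have h1 := (Acts.sum (Finset.range c) fun j _ =>
            (((htriv v).smul (η ^ s)).pow j)).smul w
          have h2 : residue O w • ∑ j ∈ Finset.range c, (residue O (η ^ s) •
              (1 : Hq p (R z) →ₗ[ResidueField O] Hq p (R z))) ^ j = 0 := by
            simp only [smul_pow, one_pow, ← map_pow]
            rw [← Finset.sum_smul, hsum0, zero_smul, smul_zero]
          rwa [h2] at h1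
        intro u hu
        obtain ⟨u', hu', e⟩ := hact ⟨u, hu⟩
        rw [LinearMap.zero_apply, cls_eq_zero, hu'] at e
        exact e
      have h0 := trace_eq_zero hZ hππ hπc hkill hζ (hi0 i hi)
      rw [hπdef, mul_smul_comm, Finset.mul_sum] at h0
      have h1 : toK O (Fin d) (w • ∑ j ∈ Finset.range c, R z ^ i.val * Y ^ j) =
          (w : ℂ) • ∑ j ∈ Finset.range c,
            ((η : ℂ) ^ s) ^ j • toK O (Fin d) (R z ^ i.val * R (v : G) ^ j) := by
        simp only [hYdef, smul_pow, mul_smul_comm]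
        ext a b
        simp [toK, Matrix.sum_apply]
      rw [h1, Matrix.trace_smul, Matrix.trace_sum, smul_eq_zero] at h0
      simp only [Matrix.trace_smul, smul_eq_mul] at h0
      refine h0.resolve_left fun e => ?_
      have := congrArg (fun x : O => (x : ℂ)) hw
      push_cast at this
      rw [e, zero_mul] at this
      exact zero_ne_one this
    set T : ℕ → ℂ := fun j => (toK O (Fin d) (R z ^ i.val * R (v : G) ^ j)).trace with hT
    have hTc : T c = T 0 := by simp only [hT, hRv, pow_zero]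
    have key : ∀ j₀ : ℕ, j₀ < c → (c : ℂ) * T j₀ = ∑ j ∈ Finset.range c, T j := by
      intro j₀ hj₀
      have h1 : ∀ j ∈ Finset.range c, ∑ s ∈ Finset.range c,
          ((η : ℂ) ^ s) ^ (c - j₀) * (((η : ℂ) ^ s) ^ j * T j) =
            if j = j₀ then (c : ℂ) * T j else 0 := by
        intro j hj
        rw [Finset.mem_range] at hj
        have h2 : ∀ s : ℕ, ((η : ℂ) ^ s) ^ (c - j₀) * (((η : ℂ) ^ s) ^ j * T j) =
            ((η : ℂ) ^ (c - j₀ + j)) ^ s * T j := fun s => by
          rw [← mul_assoc, ← pow_add, ← pow_mul, ← pow_mul, mul_comm s]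
        rw [Finset.sum_congr rfl fun s _ => h2 s, ← Finset.sum_mul]
        split_ifs with hjj
        · subst hjj
          rw [Nat.sub_add_cancel hj.le, hprim.pow_eq_one]
          simp
        · rw [geom_sum_eq, ← pow_mul, mul_comm (c - j₀ + j), pow_mul, hprim.pow_eq_one, one_pow,
            sub_self, zero_div, zero_mul]
          intro e
          obtain ⟨q, hq⟩ := (hprim.pow_eq_one_iff_dvd _).1 e
          rcases q with _ | _ | q
          · omega
          · omega
          · rw [Nat.mul_add, Nat.mul_add] at hq; omega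
      have h3 : ∑ s ∈ Finset.range c, ∑ j ∈ Finset.range c,
          ((η : ℂ) ^ s) ^ (c - j₀) * (((η : ℂ) ^ s) ^ j * T j) = (c : ℂ) * T j₀ := by
        rw [Finset.sum_comm, Finset.sum_congr rfl h1, Finset.sum_ite_eq',
          if_pos (Finset.mem_range.2 hj₀)]
      rw [← h3, Finset.sum_eq_single_of_mem 0 (Finset.mem_range.2 (Nat.pos_of_ne_zero hc0))]
      · simp
      · intro s hs hs0
        rw [← Finset.mul_sum, hzero s (Finset.mem_range.1 hs) hs0, mul_zero]
    have hval : ∀ j, χ.1 (z ^ i.val * (v : G) ^ j) = T j := fun j => by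
      simp only [hT, ← map_pow R, ← map_mul R, htr]
    rcases Nat.lt_or_ge 1 c with h1 | h1
    · have e := (key 1 h1).trans (key 0 (by omega)).symm
      have := mul_left_cancel₀ (Nat.cast_ne_zero.2 hc0) e
      simpa [← hval] using this
    · have : c = 1 := by omega
      have hv1 : v = 1 := by
        have : Subsingleton V := (Nat.card_eq_one_iff_unique.1 (by rw [← hcdef]; omega)).1
        exact Subsingleton.elim _ _
      simp [hv1]

/-- The realised bound: a constant non-zero value on the `p`-singular elements is at most one. -/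
theorem abs_le_one_of_const (S : Parts p z V H) {χ : G → ℂ} (hχ : Cfsg.IsCharacter G χ) {a : ℤ}
    (ha : a ≠ 0) (hval : ∀ i : ZMod p, i ≠ 0 → ∀ v : V, χ (z ^ i.val * (v : G)) = a)
    (hloc : ∀ (O : ValuationSubring ℂ) (m : ℕ) (ω : ℂ), Unram p O m ω → ∀ (d : ℕ)
      (R : G →* Matrix (Fin d) (Fin d) (cycRing O ω)),
      (∀ g, (toC O ω (R g)).trace = χ g) → LocalEnd R) : |a| ≤ 1 := by
  classical
  -- the roots of unity of order prime to `p`
  have hpG : p ∣ Nat.card G := S.ord ▸ orderOf_dvd_natCard z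
  set m := Nat.card G / p with hm
  have hmG : Nat.card G = p * m := (Nat.mul_div_cancel' hpG).symm
  have hpm : ¬ p ∣ m := fun hd => S.sq (by rw [hmG, pow_two]; exact mul_dvd_mul_left p hd)
  obtain ⟨O, ω, hprim, hU⟩ := exists_unram p hpm
  have : NeZero m := ⟨fun e => hpm (e ▸ dvd_zero p)⟩
  have hgm : ∀ g : G, ¬ p ∣ orderOf g → g ^ m = 1 := by
    intro g hg
    refine orderOf_dvd_iff_pow_eq_one.1 (Nat.Coprime.dvd_of_dvd_mul_left ?_ (hmG ▸ orderOf_dvd_natCard g))
    exact ((hp.out.coprime_iff_not_dvd).2 hg).symm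
  let emb : cycField ω →+* ℂ := algebraMap (cycField ω) ℂ
  have hωr : ω ∈ emb.range := ⟨⟨ω, IntermediateField.mem_adjoin_simple_self ℚ ω⟩, rfl⟩
  -- subtract the constant
  have h1c : Cfsg.IsCharacter G (1 : G → ℂ) := H26.irr_isCharacter (H26.oneIrr G)
  have hgen : χ - (a : ℂ) • (1 : G → ℂ) ∈ H27.genChars G := by
    refine sub_mem (H27.mem_genChars_of_isCharacter hχ) ?_
    rw [Int.cast_smul_eq_zsmul]
    exact zsmul_mem (H27.mem_genChars_of_isCharacter h1c) _
  have hcf := H26.isClassFunction_of_isCharacter hχ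
  have hvirt := mem_virtOver_of_vanish (p := p) emb hprim hωr hgm hgen fun g hg => by
    obtain ⟨i, v, hi, hcj⟩ := S.exists_conj hg
    obtain ⟨y, hy⟩ := isConj_iff.1 hcj
    simp only [Pi.sub_apply, Pi.smul_apply, Pi.one_apply, smul_eq_mul, mul_one]
    rw [← hcf g y, hy, hval i hi v, sub_self]
  have hone : (1 : G → ℂ) ∈ virtOver G emb :=
    ⟨1, 0, 1, 1, fun g => by simp [Representation.character]⟩
  have hmemv : χ ∈ virtOver G emb := by
    have := add_mem hvirt (zsmul_mem hone a)
    rwa [← Int.cast_smul_eq_zsmul ℂ a (1 : G → ℂ), sub_add_cancel] at this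
  obtain ⟨P₀, Q₀, P, Q, hPQ⟩ := hmemv
  obtain ⟨d, ρ, hρ⟩ := exists_rep_of_isCharacter emb _ P₀ Q₀ P Q le_rfl χ hχ hPQ
  obtain ⟨R, X, hX⟩ := exists_lattice (cycRing O ω) (H26.matHom ρ)
  have htr : ∀ g, (toC O ω (R g)).trace = χ g := fun g => by
    rw [trace_toC, hρ g]
    show emb _ = emb _
    congr 1
    have e : toK (cycRing O ω) (Fin d) (R g) =
        (↑X⁻¹ : Matrix (Fin d) (Fin d) (cycField ω)) * H26.matHom ρ g * X := by
      rw [mul_assoc, ← hX g, ← mul_assoc, Units.inv_mul, one_mul]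
    rw [e, Matrix.trace_units_conj', H26.trace_matHom]
    rfl
  have hR := hloc O m ω hU d R htr
  have hZ : OrderP (cycRing O ω) p (R z) :=
    ⟨hU.mem_cyc, by rw [← map_pow, ← S.ord, pow_orderOf_eq_one, map_one]⟩
  have := hU.isPrincipal
  have htrK : ∀ g, (toK (cycRing O ω) (Fin d) (R g)).trace = (a : cycField ω) ↔ χ g = a := by
    intro g
    rw [← htr g, trace_toC]
    constructor
    · intro h; rw [h]; simp
    · intro h; exact Subtype.ext (by simpa using h)
  have hi0 : ∀ i ∈ Finset.range p, i ≠ 0 → (i : ZMod p) ≠ 0 := by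
    intro i hi h0 e
    rw [CharP.cast_eq_zero_iff (ZMod p) p] at e
    exact h0 (Nat.eq_zero_of_dvd_of_lt e (Finset.mem_range.1 hi))
  obtain ⟨w, hw, hidem, hc, hk | htriv⟩ := kills_or_trivial S R hU.mem_cyc hR
  · exfalso
    refine ha ((trace_bound hZ hidem hc (c := a) fun i hi h0 => ?_).2 hk)
    have e1 : toK (cycRing O ω) (Fin d) (R z ^ i * (w • ∑ v : V, R (v : G))) =
        (w : cycField ω) • ∑ v : V, toK (cycRing O ω) (Fin d) (R (z ^ i * (v : G))) := by
      rw [mul_smul_comm, Finset.mul_sum]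
      simp only [map_mul R, map_pow R, ← map_sum]
      ext x y
      simp [toK, Matrix.sum_apply]
    rw [e1, Matrix.trace_smul, Matrix.trace_sum]
    have hv : ∀ v : V, (toK (cycRing O ω) (Fin d) (R (z ^ i * (v : G)))).trace =
        (a : cycField ω) := fun v => (htrK _).2 (by
          rw [← pow_val_natCast S.ord i]; exact hval _ (hi0 i hi h0) v)
    rw [Finset.sum_congr rfl fun v _ => hv v, Finset.sum_const, Finset.card_univ, smul_eq_mul,
      nsmul_eq_mul, ← mul_assoc, ← Nat.card_eq_fintype_card]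
    have hw' : (w : cycField ω) * (Nat.card V : cycField ω) = 1 := by
      have := congrArg (fun x : cycRing O ω => (x : cycField ω)) hw
      push_cast at this
      exact this
    rw [hw', one_mul]
  · have hab : ∀ x ∈ H, ∀ y ∈ H,
        ∀ ψ φ : Hq p (R z) →ₗ[ResidueField (cycRing O ω)] Hq p (R z),
        Acts p (R z) (R x) ψ → Acts p (R z) (R y) φ → Commute ψ φ := by
      intro x hx y hy ψ φ h1 h2
      have e : R x * R y = R (x * y * x⁻¹ * y⁻¹) * (R y * R x) := by
        rw [← map_mul, ← map_mul, ← map_mul]; congr 1; group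
      have h3 := (htriv ⟨_, S.comm x hx y hy⟩).mul (h2.mul h1)
      rw [← e, one_mul] at h3
      exact (h1.mul h2).unique h3
    have hd1 := hdim_le_one_of_local hU.dvd_cyc hU.mem_cyc S.ord S.sq R hR H S.ndvd S.H_le S.N_le hab
    have hb := (trace_bound hZ (π := 1) (one_mul _) (Commute.one_left _) (c := a)
      fun i hi h0 => by
        rw [mul_one, ← map_pow R]
        exact (htrK _).2 (by
          have := hval _ (hi0 i hi h0) 1
          rwa [pow_val_natCast S.ord, Subgroup.coe_one, mul_one] at this)).1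
    exact hb.trans (by exact_mod_cast hd1)

end Cfsg.Agent.H31.Defect
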