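import Mathlib
import Cfsg.Agent.H31.Defect.Stages
import Cfsg.Agent.H26.CharInvolutions

/-!
The principal-type block data attached to a Sylow subgroup of order `p`: exceptional characters,
signs, degree congruences and divisibility.
-/

set_option autoImplicit false
set_option linter.unusedSectionVars false

namespace Cfsg.Agent.H31.Defect

open IsLocalRing Matrix
open scoped ComplexConjugate

variable {G : Type*} [Group G] [Fintype G] {p : ℕ} [hp : Fact p.Prime] {z : G}
variable {V H : Subgroup G}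

/-- Two exponents in the same orbit of the automiser. -/
def Linked (z : G) (k j : ZMod p) : Prop := ∃ a ∈ H30.conjExps p z, j = a * k

theorem Parts.linked_symm (S : Parts p z V H) {k j : ZMod p} (h : Linked z k j) : Linked z j k := by
  obtain ⟨a, ha, rfl⟩ := h
  exact ⟨a⁻¹, S.inv_mem ha, by rw [← mul_assoc, inv_mul_cancel₀ (S.ne_zero_of_mem ha), one_mul]⟩

open scoped Classical in
theorem Parts.cnt_eq (S : Parts p z V H) {k : ZMod p} (hk : k ≠ 0) (j : ZMod p) :
    cnt z k j = if Linked z k j then 1 else 0 := by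
  classical
  unfold cnt
  split_ifs with h
  · obtain ⟨a, ha, rfl⟩ := h
    rw [Finset.card_eq_one]
    refine ⟨a, ?_⟩
    ext x
    simp only [Finset.mem_filter, Finset.mem_singleton]
    exact ⟨fun h => mul_right_cancel₀ hk h.2.symm, fun h => by subst h; exact ⟨ha, rfl⟩⟩
  · rw [Finset.card_eq_zero, Finset.filter_eq_empty_iff]
    exact fun a ha e => h ⟨a, ha, e⟩

theorem Parts.cnt_zero_zero (S : Parts p z V H) :
    cnt z (0 : ZMod p) 0 = (H30.conjExps p z).card := by
  simp [cnt]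

theorem Parts.cnt_zero_left (S : Parts p z V H) {j : ZMod p} (hj : j ≠ 0) : cnt z 0 j = 0 := by
  simp [cnt, hj]

theorem Parts.cnt_zero_right (S : Parts p z V H) {k : ZMod p} (hk : k ≠ 0) : cnt z k 0 = 0 := by
  classical
  rw [S.cnt_eq hk, if_neg]
  rintro ⟨a, ha, e⟩
  exact mul_ne_zero (S.ne_zero_of_mem ha) hk e.symm

theorem irr_degree (χ : Cfsg.IrrCharacter G) :
    χ.1 1 = (Cfsg.charDegree χ.1 : ℂ) ∧ 0 < Cfsg.charDegree χ.1 := by
  obtain ⟨d, hd⟩ := H26.exists_nat_char_one (H26.irr_isCharacter χ)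
  rw [H26.charDegree_eq hd]
  refine ⟨hd, Nat.pos_of_ne_zero fun e => H26.irr_one_ne_zero χ ?_⟩
  rw [hd, e, Nat.cast_zero]

/-- The nonzero exponents assigned to `x`. -/
noncomputable def fib {α : Type*} (κ : ZMod p → α) (x : α) : Finset (ZMod p) := by
  classical exact Finset.univ.filter fun k => k ≠ 0 ∧ κ k = x

theorem mem_fib {α : Type*} {κ : ZMod p → α} {x : α} {k : ZMod p} :
    k ∈ fib κ x ↔ k ≠ 0 ∧ κ k = x := by
  classical
  simp [fib]

theorem Parts.card_exp_pos (S : Parts p z V H) : 0 < (H30.conjExps p z).card :=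
  Finset.card_pos.2 ⟨1, S.one_mem_conjExps⟩

theorem Parts.dist (S : Parts p z V H) {m : Cfsg.IrrCharacter G → ZMod p → ℕ}
    (hg : ∀ k l j, ∑ χ, ((m χ k : ℤ) - m χ l) * m χ j = (cnt z k j : ℤ) - cnt z l j)
    (k l : ZMod p) : ∑ χ, ((m χ k : ℤ) - m χ l) ^ 2 =
      ((cnt z k k : ℤ) - cnt z l k) - ((cnt z k l : ℤ) - cnt z l l) := by
  rw [← hg k l k, ← hg k l l, ← Finset.sum_sub_distrib]
  exact Finset.sum_congr rfl fun χ _ => by ring

/-- The exceptional characters. -/
theorem Parts.exists_star (S : Parts p z V H) {m : Cfsg.IrrCharacter G → ZMod p → ℕ}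
    (hg : ∀ k l j, ∑ χ, ((m χ k : ℤ) - m χ l) * m χ j = (cnt z k j : ℤ) - cnt z l j)
    (hreg : ∀ u : G, ¬ p ∣ orderOf u → ∀ k l,
      ∑ χ : Cfsg.IrrCharacter G, χ.1 u * (((m χ k : ℤ) - m χ l : ℤ) : ℂ) = 0)
    (h1 : ∀ k, m (H26.oneIrr G) k = if k = 0 then 1 else 0) :
    ∃ (t : ℕ) (b : Cfsg.IrrCharacter G → ℤ) (ε : ℤ) (K : Finset (Cfsg.IrrCharacter G))
      (κ : ZMod p → Cfsg.IrrCharacter G),
      (H30.conjExps p z).card * t = p - 1 ∧ (ε = 1 ∨ ε = -1) ∧ H26.oneIrr G ∉ K ∧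
      b (H26.oneIrr G) = 0 ∧
      ((t = 1 ∧ K = ∅ ∧ ∀ χ, ∀ k ≠ 0, (m χ k : ℤ) = b χ) ∨
        (2 ≤ t ∧ K.card = t ∧ (∀ k ≠ 0, κ k ∈ K) ∧
          (∀ x ∈ K, (fib κ x).card = (H30.conjExps p z).card) ∧
          (∀ x ∈ K, ∀ y ∈ K, Cfsg.charDegree x.1 = Cfsg.charDegree y.1) ∧
          ∀ χ, ∀ k ≠ 0, (m χ k : ℤ) = b χ + if κ k = χ then ε else 0)) := by
  classical
  set E := H30.conjExps p z with hE
  let mz : ZMod p → Cfsg.IrrCharacter G → ℤ := fun k χ => m χ k
  let Zs : Finset (ZMod p) := Finset.univ.erase 0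
  let W := Zs.image mz
  have hsame : ∀ k l, k ≠ 0 → l ≠ 0 → (mz k = mz l ↔ Linked z l k) := by
    intro k l hk hl
    constructor
    · intro h
      by_contra hn
      have hd := S.dist hg k l
      rw [S.cnt_eq hk k, S.cnt_eq hl k, S.cnt_eq hk l, S.cnt_eq hl l, if_neg hn,
        if_neg (fun h => hn (S.linked_symm h)), if_pos ⟨1, S.one_mem_conjExps, (one_mul k).symm⟩,
        if_pos ⟨1, S.one_mem_conjExps, (one_mul l).symm⟩] at hd
      simp only [show ∀ χ, (m χ k : ℤ) = m χ l from congrFun h, sub_self] at hd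
      norm_num at hd
    · intro h
      have hd := S.dist hg k l
      rw [S.cnt_eq hk k, S.cnt_eq hl k, S.cnt_eq hk l, S.cnt_eq hl l, if_pos h,
        if_pos (S.linked_symm h), if_pos ⟨1, S.one_mem_conjExps, (one_mul k).symm⟩,
        if_pos ⟨1, S.one_mem_conjExps, (one_mul l).symm⟩] at hd
      funext χ
      have h0 : ((m χ k : ℤ) - m χ l) ^ 2 ≤ 0 := by
        refine (Finset.single_le_sum (fun y _ => sq_nonneg ((m y k : ℤ) - m y l))
          (Finset.mem_univ χ)).trans ?_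
        rw [hd]; norm_num
      exact sub_eq_zero.1 (pow_eq_zero_iff two_ne_zero |>.1 (le_antisymm h0 (sq_nonneg _)))
  have hfib : ∀ v ∈ W, (Zs.filter fun k => mz k = v).card = E.card := by
    intro v hv
    obtain ⟨l, hlZ, rfl⟩ := Finset.mem_image.1 hv
    have hl : l ≠ 0 := Finset.ne_of_mem_erase hlZ
    rw [show (Zs.filter fun k => mz k = mz l) = E.image fun a => a * l from ?_,
      Finset.card_image_of_injective _ (mul_left_injective₀ hl)]
    ext k
    simp only [Zs, Finset.mem_filter, Finset.mem_erase, Finset.mem_univ, and_true, Finset.mem_image]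
    constructor
    · rintro ⟨hk, h⟩
      obtain ⟨a, ha, e⟩ := (hsame k l hk hl).1 h
      exact ⟨a, ha, e.symm⟩
    · rintro ⟨a, ha, rfl⟩
      exact ⟨mul_ne_zero (S.ne_zero_of_mem ha) hl,
        (hsame _ _ (mul_ne_zero (S.ne_zero_of_mem ha) hl) hl).2 ⟨a, ha, rfl⟩⟩
  have hcard : E.card * W.card = p - 1 := by
    have h2 := Finset.card_eq_sum_card_image mz Zs
    rw [Finset.sum_congr rfl hfib, Finset.sum_const, smul_eq_mul] at h2
    rw [mul_comm, ← h2]
    simp [Zs, ZMod.card]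
  have hone : ∀ k ≠ 0, mz k (H26.oneIrr G) = 0 := fun k hk => by simp [mz, h1, hk]
  have h1Z : (1 : ZMod p) ∈ Zs := by simp [Zs]
  rcases Nat.lt_or_ge W.card 2 with hlt | hge
  · have hW : W.card = 1 := le_antisymm (by omega)
      (Finset.card_pos.2 ⟨_, Finset.mem_image_of_mem mz h1Z⟩)
    refine ⟨1, mz 1, 1, ∅, fun _ => H26.oneIrr G, hW ▸ hcard, Or.inl rfl, Finset.notMem_empty _,
      hone 1 one_ne_zero, Or.inl ⟨rfl, rfl, fun χ k hk => ?_⟩⟩
    have := Finset.card_le_one.1 hW.le _ (Finset.mem_image_of_mem mz (show k ∈ Zs by simp [Zs, hk]))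
      _ (Finset.mem_image_of_mem mz h1Z)
    exact congrFun this χ
  have hdist : ∀ v ∈ W, ∀ w ∈ W, v ≠ w → ∑ χ, (v χ - w χ) ^ 2 = 2 := by
    intro v hv w hw hne
    obtain ⟨k, hk, rfl⟩ := Finset.mem_image.1 hv
    obtain ⟨l, hl, rfl⟩ := Finset.mem_image.1 hw
    have hk0 := Finset.ne_of_mem_erase hk
    have hl0 := Finset.ne_of_mem_erase hl
    have hn : ¬ Linked z l k := fun h => hne ((hsame k l hk0 hl0).2 h)
    show ∑ χ, ((m χ k : ℤ) - m χ l) ^ 2 = 2
    rw [S.dist hg k l, S.cnt_eq hk0 k, S.cnt_eq hl0 k, S.cnt_eq hk0 l, S.cnt_eq hl0 l, if_neg hn,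
      if_neg (fun h => hn (S.linked_symm h)), if_pos ⟨1, S.one_mem_conjExps, (one_mul k).symm⟩,
      if_pos ⟨1, S.one_mem_conjExps, (one_mul l).symm⟩]
    norm_num
  have hdeg : ∀ v ∈ W, ∀ w ∈ W, ∑ χ, (Cfsg.charDegree χ.1 : ℤ) * (v χ - w χ) = 0 := by
    intro v hv w hw
    obtain ⟨k, hk, rfl⟩ := Finset.mem_image.1 hv
    obtain ⟨l, hl, rfl⟩ := Finset.mem_image.1 hw
    have h := hreg 1 (by rw [orderOf_one]; exact hp.out.not_dvd_one) k l
    simp only [(irr_degree _).1] at h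
    show ∑ χ : Cfsg.IrrCharacter G, (Cfsg.charDegree χ.1 : ℤ) * ((m χ k : ℤ) - m χ l) = 0
    have h' : ((∑ χ : Cfsg.IrrCharacter G, (Cfsg.charDegree χ.1 : ℤ) * ((m χ k : ℤ) - m χ l) : ℤ)
        : ℂ) = 0 := by
      push_cast at h ⊢
      exact h
    exact Int.cast_eq_zero.1 h' 
  obtain ⟨b, ε, K, D, hε, hK, hWK, hKW, hKD⟩ := H30.equidistant_star W
    (fun χ => (Cfsg.charDegree χ.1 : ℤ)) (fun χ => by exact_mod_cast (irr_degree χ).2) hge hdist hdeg
  have h1K : H26.oneIrr G ∉ K := by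
    intro h
    obtain ⟨k2, hk2, hne⟩ := Finset.exists_mem_ne (s := K) (by omega) (H26.oneIrr G)
    obtain ⟨v, hv, hv'⟩ := hKW _ h
    obtain ⟨w, hw, hw'⟩ := hKW _ hk2
    obtain ⟨k, hk, rfl⟩ := Finset.mem_image.1 hv
    obtain ⟨l, hl, rfl⟩ := Finset.mem_image.1 hw
    have e1 := hv' (H26.oneIrr G)
    have e2 := hw' (H26.oneIrr G)
    rw [hone k (Finset.ne_of_mem_erase hk), if_pos rfl] at e1
    rw [hone l (Finset.ne_of_mem_erase hl), if_neg hne.symm] at e2
    omega
  let κ : ZMod p → Cfsg.IrrCharacter G := fun k =>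
    if h : mz k ∈ W then (hWK _ h).choose else H26.oneIrr G
  have hκ : ∀ k ≠ 0, κ k ∈ K ∧ ∀ χ, mz k χ = b χ + if χ = κ k then ε else 0 := by
    intro k hk
    have h : mz k ∈ W := Finset.mem_image_of_mem mz (by simp [Zs, hk])
    have := (hWK _ h).choose_spec
    simp only [κ, dif_pos h]
    exact this
  have hb1 : b (H26.oneIrr G) = 0 := by
    have e1 := (hκ 1 one_ne_zero).2 (H26.oneIrr G)
    rw [hone 1 one_ne_zero, if_neg (fun h : H26.oneIrr G = κ 1 => h1K (h ▸ (hκ 1 one_ne_zero).1)),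
      add_zero] at e1
    exact e1.symm
  refine ⟨W.card, b, ε, K, κ, hcard, hε, h1K, hb1, Or.inr ⟨hge, hK, fun k hk => (hκ k hk).1,
    fun x hx => ?_, fun x hx y hy => by exact_mod_cast (hKD x hx).trans (hKD y hy).symm,
    fun χ k hk => ?_⟩⟩
  · obtain ⟨v, hv, hv'⟩ := hKW x hx
    rw [← hfib v hv]
    congr 1
    ext k
    simp only [mem_fib, Zs, Finset.mem_filter, Finset.mem_erase, Finset.mem_univ, and_true]
    refine and_congr_right fun hk => ⟨fun h => funext fun χ => ?_, fun h => ?_⟩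
    · rw [hv' χ, (hκ k hk).2 χ, h]
    · have e1 := congrFun h x
      rw [hv' x, (hκ k hk).2 x, if_pos rfl] at e1
      by_contra hne
      rw [if_neg (Ne.symm hne)] at e1
      omega
  · rw [show ((m χ k : ℤ)) = mz k χ from rfl, (hκ k hk).2 χ]
    congr 1
    simp only [eq_comm]

theorem sum_std_ne_zero {i : ZMod p} (hi : i ≠ 0) :
    ∑ k ∈ Finset.univ.erase (0 : ZMod p), ZMod.stdAddChar (k * i) = (-1 : ℂ) := by
  have h := AddChar.sum_mulShift i (ZMod.isPrimitive_stdAddChar p)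
  rw [if_neg hi, Nat.cast_zero, ← Finset.add_sum_erase _ _ (Finset.mem_univ (0 : ZMod p)),
    zero_mul, AddChar.map_zero_eq_one] at h
  linear_combination h

/-- The value of the average over `V` in terms of a decomposition of the multiplicities. -/
theorem vsum_of_mult (S : Parts p z V H) {m : Cfsg.IrrCharacter G → ZMod p → ℕ}
    (hv : ∀ χ i, vsum z V χ.1 i =
      (Nat.card V : ℂ) * ∑ k : ZMod p, (m χ k : ℂ) * ZMod.stdAddChar (k * i))
    {χ : Cfsg.IrrCharacter G} {b : ℤ} {f : ZMod p → ℤ}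
    (hf : ∀ k ≠ 0, (m χ k : ℤ) = b + f k) {i : ZMod p} (hi : i ≠ 0) :
    vsum z V χ.1 i = (Nat.card V : ℂ) * ((((m χ 0 : ℤ) - b : ℤ) : ℂ) +
      ∑ k ∈ Finset.univ.erase (0 : ZMod p), (f k : ℂ) * ZMod.stdAddChar (k * i)) := by
  classical
  rw [hv, ← Finset.add_sum_erase _ _ (Finset.mem_univ (0 : ZMod p))]
  congr 1
  rw [zero_mul, AddChar.map_zero_eq_one, mul_one, Finset.sum_congr rfl fun k hk => by
    rw [show (m χ k : ℂ) = (b : ℂ) + (f k : ℂ) by exact_mod_cast hf k (Finset.ne_of_mem_erase hk),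
      add_mul], Finset.sum_add_distrib, ← Finset.mul_sum, sum_std_ne_zero hi]
  push_cast
  ring

theorem vsum_of_const {χ : G → ℂ} {i : ZMod p}
    (h : ∀ v : V, χ (z ^ i.val * (v : G)) = χ (z ^ i.val)) :
    vsum z V χ i = (Nat.card V : ℂ) * χ (z ^ i.val) := by
  classical
  rw [vsum_eq, Finset.sum_congr rfl fun v _ => h v, Finset.sum_const, Finset.card_univ,
    nsmul_eq_mul, Nat.card_eq_fintype_card]

/-- A non-exceptional character with non-zero coefficient is constant and bounded by one. -/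
theorem nonexceptional (S : Parts p z V H) {m : Cfsg.IrrCharacter G → ZMod p → ℕ}
    (hv : ∀ χ i, vsum z V χ.1 i =
      (Nat.card V : ℂ) * ∑ k : ZMod p, (m χ k : ℂ) * ZMod.stdAddChar (k * i))
    {χ : Cfsg.IrrCharacter G} {b : ℤ} (hf : ∀ k ≠ 0, (m χ k : ℤ) = b) :
    (b - m χ 0 ≠ 0 → ∀ i : ZMod p, i ≠ 0 → ∀ v : V,
      χ.1 (z ^ i.val * (v : G)) = ((-(b - m χ 0) : ℤ) : ℂ)) ∧
    (b - m χ 0 = 0 → ∀ i : ZMod p, i ≠ 0 → vsum z V χ.1 i = 0) ∧ |b - m χ 0| ≤ 1 := by
  have hval : ∀ i : ZMod p, i ≠ 0 →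
      vsum z V χ.1 i = (Nat.card V : ℂ) * ((-(b - m χ 0) : ℤ) : ℂ) := by
    intro i hi
    rw [vsum_of_mult S hv (f := fun _ => 0) (fun k hk => by rw [add_zero]; exact hf k hk) hi]
    simp
  have hc0 : (Nat.card V : ℂ) ≠ 0 := Nat.cast_ne_zero.2 Nat.card_pos.ne'
  have hconst : b - m χ 0 ≠ 0 → ∀ i : ZMod p, i ≠ 0 → ∀ v : V,
      χ.1 (z ^ i.val * (v : G)) = ((-(b - m χ 0) : ℤ) : ℂ) := by
    intro hne i hi v
    rcases vsum_zero_or_const S χ with h | h
    · have := (hval i hi).symm.trans (h i hi)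
      rw [mul_eq_zero, Int.cast_eq_zero] at this
      exact absurd (neg_eq_zero.1 (this.resolve_left hc0)) hne
    · rw [h i hi v]
      exact mul_left_cancel₀ hc0 ((vsum_of_const (h i hi)).symm.trans (hval i hi))
  refine ⟨hconst, fun h0 i hi => by rw [hval i hi, h0]; simp, ?_⟩
  rcases eq_or_ne (b - (m χ 0 : ℤ)) 0 with h | h
  · rw [h]; simp
  · rw [← abs_neg]
    refine abs_le_one_of_const S (H26.irr_isCharacter χ) (neg_ne_zero.2 h) (hconst h)
      fun O _ ω _ d R htr => localEnd_of_schur R fun Φ hΦ =>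
        schur_of_char χ ((toC O ω).toMonoidHom.comp R) htr hΦ

theorem val_eigen_le_one {O : ValuationSubring ℂ} {n : Type*} [Fintype n] {A : Matrix n n ℂ}
    (hA : ∀ i j, O.valuation (A i j) ≤ 1) {u : n → ℂ} (hu : u ≠ 0) {w : ℂ}
    (h : A *ᵥ u = w • u) : O.valuation w ≤ 1 := by
  obtain ⟨i₀, hi₀⟩ := Function.ne_iff.1 hu
  obtain ⟨i, -, hi⟩ := Finset.exists_max_image Finset.univ (fun i => O.valuation (u i))
    ⟨i₀, Finset.mem_univ _⟩
  have hpos : O.valuation (u i) ≠ 0 := fun e => hi₀ (by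
    have := hi i₀ (Finset.mem_univ _)
    rw [e] at this
    exact (map_eq_zero _).1 (le_antisymm this zero_le))
  have he : w * u i = ∑ j, A i j * u j := by
    have := congrFun h i
    simpa [Matrix.mulVec, dotProduct, eq_comm] using this
  have hle : O.valuation (w * u i) ≤ O.valuation (u i) := by
    rw [he]
    refine Valuation.map_sum_le _ fun j _ => ?_
    rw [map_mul]
    exact (mul_le_of_le_one_left' (hA i j)).trans (hi j (Finset.mem_univ _))
  rw [map_mul] at hle
  exact le_of_mul_le_mul_right (hle.trans_eq (one_mul _).symm) (zero_lt_iff.2 hpos)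

/-- Integrality of the coefficients of an integral element of the cyclotomic field. -/
theorem Unram.coeff_integral {O : ValuationSubring ℂ} {m : ℕ} {ω : ℂ} (hU : Unram p O m ω)
    {ζ : ℂ} (hζ : IsPrimitiveRoot ζ p) {A : Polynomial (cycField ω)}
    (hdeg : A.natDegree < p - 1)
    (hval : O.valuation ((A.map (algebraMap (cycField ω) ℂ)).eval ζ) ≤ 1) :
    ∀ j, O.valuation ((A.coeff j : cycField ω) : ℂ) ≤ 1 := by
  classical
  have hp2 := hp.out.two_le
  set u := O.valuation (ζ - 1) with hu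
  have hu0 : u ≠ 0 := (Valuation.ne_zero_iff _).2 (sub_ne_zero.2 (hζ.ne_one hp.out.one_lt))
  have hu_le : u ≤ 1 := by
    refine (Valuation.map_sub _ _ _).trans (max_le ?_ (by rw [map_one]))
    exact (val_root_of_unity hp.out.ne_zero hζ.pow_eq_one).le
  -- all `ζ^k - 1` have the valuation of `ζ - 1`
  have hk : ∀ k ∈ Finset.range (p - 1), O.valuation (1 - ζ ^ (k + 1)) = u := by
    intro k hk
    rw [Finset.mem_range] at hk
    have hle : ∀ (a : ℕ) (x : ℂ), O.valuation x ≤ 1 →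
        O.valuation (x ^ a - 1) ≤ O.valuation (x - 1) := fun a x hx => by
      rw [← mul_geom_sum, map_mul]
      refine mul_le_of_le_one_right' (Valuation.map_sum_le _ fun j _ => ?_)
      rw [map_pow]
      exact pow_le_one₀ zero_le hx
    have hζ1 := (val_root_of_unity (O := O) hp.out.ne_zero hζ.pow_eq_one).le
    rw [Valuation.map_sub_swap]
    refine le_antisymm (hle _ _ hζ1) ?_
    have hnd : ¬ p ∣ k + 1 := fun hd => by have := Nat.le_of_dvd (by omega) hd; omega
    obtain ⟨l, hl⟩ := Nat.exists_mul_mod_eq_one_of_coprime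
      ((hp.out.coprime_iff_not_dvd).2 hnd).symm hp.out.one_lt
    have h2 := hle l (ζ ^ (k + 1)) (by rw [map_pow]; exact pow_le_one₀ zero_le hζ1)
    rwa [← pow_mul, ← Nat.div_add_mod ((k + 1) * l) p, hl.2, pow_add, pow_mul, hζ.pow_eq_one,
      one_pow, one_mul, pow_one] at h2
  have hup : u ^ (p - 1) = O.valuation (p : ℂ) := by
    have hprod := IsPrimitiveRoot.prod_one_sub_pow_eq_order (R := ℂ) (n := p - 1)
      (μ := ζ) (by rwa [Nat.sub_add_cancel hp.out.one_le])
    rw [← Nat.cast_succ] at hprod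
    rw [show ((p : ℕ) : ℂ) = (((p - 1).succ : ℕ) : ℂ) by
      rw [Nat.succ_eq_add_one, Nat.sub_add_cancel hp.out.one_le], ← hprod, map_prod,
      Finset.prod_congr rfl hk, Finset.prod_const, Finset.card_range]
  have hp1 := val_prime_lt_one hU.mem
  have hu1 : u < 1 := lt_of_le_of_ne hu_le fun e => by
    rw [e, one_pow] at hup
    exact hp1.ne hup.symm
  -- shift
  set B := A.comp (Polynomial.X + 1) with hB
  have hBdeg : B.natDegree < p - 1 := by
    have : (Polynomial.X + 1 : Polynomial (cycField ω)).natDegree = 1 := by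
      simpa using Polynomial.natDegree_X_add_C (1 : cycField ω)
    rw [hB, Polynomial.natDegree_comp, this, mul_one]
    exact hdeg
  let trm : ℕ → ℂ := fun j => ((B.coeff j : cycField ω) : ℂ) * (ζ - 1) ^ j
  have hsum : ∑ j ∈ Finset.range (p - 1), trm j =
      (A.map (algebraMap (cycField ω) ℂ)).eval ζ := by
    have h1 : (B.map (algebraMap (cycField ω) ℂ)).eval (ζ - 1) =
        (A.map (algebraMap (cycField ω) ℂ)).eval ζ := by
      simp [hB, Polynomial.map_comp, Polynomial.eval_comp]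
    rw [← h1, Polynomial.eval_eq_sum_range' (Polynomial.natDegree_map_le.trans_lt hBdeg)]
    refine Finset.sum_congr rfl fun j _ => ?_
    rw [Polynomial.coeff_map]
    rfl
  have hexp : ∀ j, B.coeff j ≠ 0 → ∃ a : ℤ,
      O.valuation ((B.coeff j : cycField ω) : ℂ) = O.valuation (p : ℂ) ^ a ∧
      O.valuation (trm j) = u ^ ((p - 1 : ℕ) * a + j) := by
    intro j hj
    obtain ⟨a, ha⟩ := hU.val_field (B.coeff j).2 (by simpa using hj)
    refine ⟨a, ha, ?_⟩
    simp only [trm]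
    rw [map_mul, map_pow, ← hu, ha, ← hup, ← zpow_natCast u (p - 1), ← _root_.zpow_mul, zpow_add₀ hu0,
      zpow_natCast]
  have hBint : ∀ j, O.valuation ((B.coeff j : cycField ω) : ℂ) ≤ 1 := by
    intro j
    by_cases hj0 : B.coeff j = 0
    · simp [hj0]
    have hjlt : j < p - 1 := lt_of_le_of_lt (Polynomial.le_natDegree_of_ne_zero hj0) hBdeg
    set s := (Finset.range (p - 1)).filter fun j => B.coeff j ≠ 0 with hs
    have hjs : j ∈ s := Finset.mem_filter.2 ⟨Finset.mem_range.2 hjlt, hj0⟩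
    obtain ⟨i, hi, himax⟩ := Finset.exists_max_image s (fun j => O.valuation (trm j)) ⟨j, hjs⟩
    rw [hs, Finset.mem_filter, Finset.mem_range] at hi
    obtain ⟨ai, hai, hti⟩ := hexp i hi.2
    have hstrict : ∀ k ∈ Finset.range (p - 1) \ {i}, O.valuation (trm k) < O.valuation (trm i) := by
      intro k hk
      rw [Finset.mem_sdiff, Finset.mem_range, Finset.mem_singleton] at hk
      by_cases hk0 : B.coeff k = 0
      · simp only [trm, hk0]
        rw [show O.valuation (((0 : cycField ω) : ℂ) * (ζ - 1) ^ k) = 0 by simp]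
        refine zero_lt_iff.2 ?_
        rw [hti]
        exact zpow_ne_zero _ hu0
      · refine lt_of_le_of_ne (himax k (Finset.mem_filter.2 ⟨Finset.mem_range.2 hk.1, hk0⟩))
          fun e => ?_
        obtain ⟨ak, -, htk⟩ := hexp k hk0
        rw [htk, hti] at e
        have hexp_eq := (zpow_right_inj₀ (zero_lt_iff.2 hu0) hu1.ne).1 e
        refine hk.2 ?_
        have h1 : ((p - 1 : ℕ) : ℤ) ∣ (k : ℤ) - i := ⟨ai - ak, by linarith⟩
        have h2 : (k : ℤ) - i = 0 := by
          refine Int.eq_zero_of_abs_lt_dvd h1 ?_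
          rw [abs_lt]
          constructor <;> omega
        omega
    have hS : O.valuation (∑ k ∈ Finset.range (p - 1), trm k) = O.valuation (trm i) :=
      Valuation.map_sum_eq_of_lt _ (Finset.mem_range.2 hi.1) (fun k hk => hstrict k hk)
    have hle : O.valuation (trm i) ≤ 1 := by rw [← hS, hsum]; exact hval
    obtain ⟨aj, haj, htj⟩ := hexp j hj0
    have hjle := (himax j hjs).trans hle
    rw [htj] at hjle
    have hnn : 0 ≤ ((p - 1 : ℕ) : ℤ) * aj + j := by
      by_contra hneg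
      exact (one_lt_zpow_of_neg₀ (zero_lt_iff.2 hu0) hu1 (not_le.1 hneg)).not_ge hjle
    have haj0 : 0 ≤ aj := by
      by_contra hneg
      have : ((p - 1 : ℕ) : ℤ) * aj ≤ ((p - 1 : ℕ) : ℤ) * (-1) :=
        mul_le_mul_of_nonneg_left (by omega) (by omega)
      omega
    obtain ⟨q, rfl⟩ := Int.eq_ofNat_of_zero_le haj0
    rw [haj, zpow_natCast]
    exact pow_le_one₀ zero_le hp1.le
  -- shift back
  set Ai := cycRing O ω
  have hlift : ∀ j, B.coeff j ∈ Ai := fun j => mem_cycRing.2 (hBint j)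
  intro j
  have hA : A = B.comp (Polynomial.X - 1) := by
    rw [hB, Polynomial.comp_assoc]; simp
  rw [hA, ← mem_cycRing]
  have : B.comp (Polynomial.X - 1) =
      ((∑ i ∈ B.support, Polynomial.C (⟨B.coeff i, hlift i⟩ : Ai) *
        (Polynomial.X - 1) ^ i)).map Ai.subtype := by
    rw [Polynomial.map_sum, Polynomial.comp, Polynomial.eval₂_eq_sum, Polynomial.sum_def]
    refine Finset.sum_congr rfl fun i _ => ?_
    simp
  rw [this, Polynomial.coeff_map]
  exact SetLike.coe_mem _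

end Cfsg.Agent.H31.Defect
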