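import Mathlib
import Cfsg.Agent.H31.Defect.Block

/-!
The centraliser of the sum of the exceptional characters, and the assembled block data.
-/

set_option autoImplicit false
set_option linter.unusedSectionVars false

namespace Cfsg.Agent.H31.Defect

open IsLocalRing Matrix
open scoped ComplexConjugate

variable {G : Type*} [Group G] [Fintype G] {p : ℕ} [hp : Fact p.Prime] {z : G}
variable {V H : Subgroup G}

theorem std_isPrimitiveRoot {j : ZMod p} (hj : j ≠ 0) :
    IsPrimitiveRoot (ZMod.stdAddChar j : ℂ) p := by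
  have h1 : (ZMod.stdAddChar j : ℂ) ^ p = 1 := by
    rw [← AddChar.map_nsmul_eq_pow, nsmul_eq_mul, ZMod.natCast_self, zero_mul,
      AddChar.map_zero_eq_one]
  have h2 : (ZMod.stdAddChar j : ℂ) ≠ 1 := fun h =>
    hj (ZMod.injective_stdAddChar (h.trans (AddChar.map_zero_eq_one _).symm))
  have := IsPrimitiveRoot.orderOf (ZMod.stdAddChar j : ℂ)
  rwa [(Nat.dvd_prime hp.out).1 (orderOf_dvd_of_pow_eq_one h1) |>.resolve_left
    fun e => h2 (orderOf_eq_one_iff.1 e)] at this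

theorem std_mul_eq_pow (x j : ZMod p) :
    (ZMod.stdAddChar (x * j) : ℂ) = ZMod.stdAddChar j ^ x.val := by
  rw [← AddChar.map_nsmul_eq_pow, nsmul_eq_mul, ZMod.natCast_zmod_val]

theorem val_root_sub_one_lt {O : ValuationSubring ℂ} (hmem : (p : O) ∈ maximalIdeal O) {ζ : ℂ}
    (hζ : ζ ^ p = 1) : O.valuation (ζ - 1) < 1 := by
  have hch : CharP (ResidueField O) p := (CharP.charP_iff_prime_eq_zero hp.out).2 (by
    rw [← map_natCast (residue O), residue_eq_zero_iff]; exact hmem)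
  set x : O := ⟨ζ, (O.valuation_le_one_iff _).1 (val_root_of_unity hp.out.ne_zero hζ).le⟩
  have hx : x ^ p = 1 := Subtype.ext (by push_cast; exact hζ)
  have h : residue O (x - 1) = 0 := by
    refine (pow_eq_zero_iff hp.out.ne_zero).1 ?_
    rw [map_sub, map_one, sub_pow_char, one_pow, ← map_pow, hx, map_one, sub_self]
  rw [residue_eq_zero_iff] at h
  exact (O.valuation_lt_one_iff _).1 h

/-- The exceptional sum has local centraliser. -/
theorem localEnd_sum (S : Parts p z V H) {K : Finset (Cfsg.IrrCharacter G)}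
    {κ : ZMod p → Cfsg.IrrCharacter G} {e : ℕ} (he : 0 < e) (hκ : ∀ k ≠ 0, κ k ∈ K)
    (hfib : ∀ x ∈ K, (fib κ x).card = e) {ε C : ℤ} (hε : ε = 1 ∨ ε = -1) {D : ℕ} (hD0 : D ≠ 0)
    (hD : ∀ θ ∈ K, θ.1 1 = (D : ℂ))
    (hval : ∀ θ ∈ K, ∀ i : ZMod p, i ≠ 0 → θ.1 (z ^ i.val) =
      -(C : ℂ) + ε * ∑ k ∈ fib κ θ, ZMod.stdAddChar (k * i))
    {O : ValuationSubring ℂ} {m : ℕ} {ω : ℂ} (hU : Unram p O m ω) {d : ℕ}
    (R : G →* Matrix (Fin d) (Fin d) (cycRing O ω))
    (htr : ∀ g, (toC O ω (R g)).trace = ∑ θ ∈ K, θ.1 g) : LocalEnd R := by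
  classical
  intro Φ hΦ
  set ΦC := toC O ω Φ with hΦC
  obtain ⟨w, hw, hpoly, heig⟩ := exists_eigen_of_multfree K ((toC O ω).toMonoidHom.comp R) htr
    (Φ := ΦC) fun g => (hΦ g).map (toC O ω)
  have hentry : ∀ i j, O.valuation (ΦC i j) ≤ 1 := fun i j => mem_cycRing.1 (Φ i j).2
  have hwint : ∀ θ ∈ K, O.valuation (w θ) ≤ 1 := fun θ hθ => by
    obtain ⟨u, hu, hu'⟩ := heig θ hθ
    exact val_eigen_le_one hentry hu hu'
  let τ : G → cycField ω := fun g => (toK (cycRing O ω) (Fin d) (Φ * R g)).trace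
  have hτ : ∀ g, (τ g : ℂ) = ∑ θ ∈ K, w θ * θ.1 g := fun g => by
    rw [← hw g]
    show _ = (ΦC * toC O ω (R g)).trace
    rw [hΦC, ← map_mul, trace_toC]
  set Ω : cycField ω := τ 1 / (D : cycField ω) with hΩdef
  have hΩ : (Ω : ℂ) = ∑ θ ∈ K, w θ := by
    have h1 : (τ 1 : ℂ) = (∑ θ ∈ K, w θ) * D := by
      rw [hτ 1, Finset.sum_mul]
      exact Finset.sum_congr rfl fun θ hθ => by rw [hD θ hθ]
    rw [hΩdef]
    push_cast
    rw [h1, mul_div_assoc, div_self (Nat.cast_ne_zero.2 hD0), mul_one]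
  let f : ZMod p → ℂ := fun k => w (κ k)
  let σ : ZMod p → cycField ω := fun i =>
    if i = 0 then (e : cycField ω) * Ω
    else (ε : cycField ω) * (τ (z ^ i.val) + (C : cycField ω) * Ω)
  have hεε : (ε : ℂ) * ε = 1 := by rcases hε with rfl | rfl <;> norm_num
  have hfibdecomp : ∀ g : ZMod p → ℂ, ∑ θ ∈ K, ∑ k ∈ fib κ θ, g k =
      ∑ k ∈ Finset.univ.erase (0 : ZMod p), g k := by
    intro g
    rw [← Finset.sum_fiberwise_of_maps_to (g := κ) (t := K)
      (fun k hk => hκ k (Finset.ne_of_mem_erase hk))]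
    refine Finset.sum_congr rfl fun θ _ => Finset.sum_congr ?_ fun _ _ => rfl
    ext k
    simp [mem_fib]
  have hσ : ∀ i : ZMod p, (σ i : ℂ) =
      ∑ k ∈ Finset.univ.erase (0 : ZMod p), f k * ZMod.stdAddChar (k * i) := by
    intro i
    rw [← hfibdecomp fun k => f k * ZMod.stdAddChar (k * i)]
    have hfk : ∀ θ, ∑ k ∈ fib κ θ, f k * ZMod.stdAddChar (k * i) =
        w θ * ∑ k ∈ fib κ θ, ZMod.stdAddChar (k * i) := fun θ => by
      rw [Finset.mul_sum]
      exact Finset.sum_congr rfl fun k hk => by simp only [f, (mem_fib.1 hk).2]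
    rw [Finset.sum_congr rfl fun θ _ => hfk θ]
    rcases eq_or_ne i 0 with rfl | hi
    · simp only [σ, if_pos rfl, mul_zero, AddChar.map_zero_eq_one, Finset.sum_const, nsmul_eq_mul,
        mul_one]
      push_cast
      rw [hΩ, Finset.mul_sum]
      exact Finset.sum_congr rfl fun θ hθ => by rw [hfib θ hθ, mul_comm]
    · simp only [σ, if_neg hi]
      push_cast
      rw [hΩ, hτ, Finset.mul_sum, ← Finset.sum_add_distrib, Finset.mul_sum]
      refine Finset.sum_congr rfl fun θ hθ => ?_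
      rw [hval θ hθ i hi]
      linear_combination (w θ * ∑ k ∈ fib κ θ, (ZMod.stdAddChar (k * i) : ℂ)) * hεε
  have hp0 : (p : ℂ) ≠ 0 := Nat.cast_ne_zero.2 hp.out.ne_zero
  have hinv : ∀ j : ZMod p, j ≠ 0 →
      f j = (p : ℂ)⁻¹ * ∑ x : ZMod p, (σ (-x) : ℂ) * ZMod.stdAddChar (x * j) := by
    intro j hj
    have h2 : ∑ x : ZMod p, (σ (-x) : ℂ) * ZMod.stdAddChar (x * j) =
        ∑ i : ZMod p, (σ i : ℂ) * conj (ZMod.stdAddChar (j * i)) := by
      refine Fintype.sum_equiv (Equiv.neg _) _ _ fun x => ?_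
      rw [Equiv.neg_apply, ← AddChar.map_neg_eq_conj]
      congr 2
      ring
    rw [h2]
    simp only [hσ, Finset.sum_mul]
    rw [Finset.sum_comm]
    simp only [mul_assoc, ← Finset.mul_sum, sum_std_conj]
    rw [Finset.sum_eq_single_of_mem j (Finset.mem_erase.2 ⟨hj, Finset.mem_univ _⟩)
      (fun k _ hk => by rw [if_neg hk, mul_zero]), if_pos rfl]
    field_simp
  -- the interpolating polynomial
  let q : ℕ → cycField ω := fun n =>
    (p : cycField ω)⁻¹ * (σ (-(n : ZMod p)) - σ (-((p - 1 : ℕ) : ZMod p)))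
  set A : Polynomial (cycField ω) :=
    ∑ n ∈ Finset.range (p - 1), Polynomial.C (q n) * Polynomial.X ^ n with hA
  have hp2 := hp.out.two_le
  have hdeg : A.natDegree < p - 1 := by
    refine lt_of_le_of_lt (Polynomial.natDegree_sum_le_of_forall_le (n := p - 2) _ _ fun n hn =>
      (Polynomial.natDegree_C_mul_X_pow_le _ _).trans ?_) (by omega)
    rw [Finset.mem_range] at hn
    omega
  have hcoeff : ∀ n < p - 1, A.coeff n = q n := by
    intro n hn
    rw [hA, Polynomial.finsetSum_coeff]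
    simp only [Polynomial.coeff_C_mul_X_pow]
    rw [Finset.sum_ite_eq, if_pos (Finset.mem_range.2 hn)]
  have hev : ∀ j : ZMod p, j ≠ 0 → f j =
      ∑ n ∈ Finset.range (p - 1), (q n : ℂ) * (ZMod.stdAddChar j : ℂ) ^ n := by
    intro j hj
    rw [hinv j hj]
    have h2 : ∑ x : ZMod p, (σ (-x) : ℂ) * ZMod.stdAddChar (x * j) =
        ∑ n ∈ Finset.range p, (σ (-(n : ZMod p)) : ℂ) * (ZMod.stdAddChar j : ℂ) ^ n := by
      refine Finset.sum_bij' (fun x _ => x.val) (fun n _ => (n : ZMod p))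
        (fun x _ => Finset.mem_range.2 (ZMod.val_lt x)) (fun n _ => Finset.mem_univ _)
        (fun x _ => ZMod.natCast_zmod_val x)
        (fun n hn => by rw [ZMod.val_natCast, Nat.mod_eq_of_lt (Finset.mem_range.1 hn)])
        (fun x _ => by rw [ZMod.natCast_zmod_val, std_mul_eq_pow])
    have hgeom : ∑ n ∈ Finset.range p, (ZMod.stdAddChar j : ℂ) ^ n = 0 :=
      (std_isPrimitiveRoot hj).geom_sum_eq_zero hp.out.one_lt
    have hsp : ∀ g : ℕ → ℂ, ∑ n ∈ Finset.range p, g n =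
        ∑ n ∈ Finset.range (p - 1), g n + g (p - 1) := fun g => by
      rw [← Finset.sum_range_succ, Nat.sub_add_cancel hp.out.one_le]
    rw [hsp] at hgeom
    rw [h2, hsp]
    simp only [q]
    push_cast
    simp only [sub_mul, mul_sub, Finset.sum_sub_distrib, mul_assoc, ← Finset.mul_sum]
    linear_combination ((p : ℂ)⁻¹ * (σ (-((p - 1 : ℕ) : ZMod p)) : ℂ)) * hgeom
  have hqint : ∀ n < p - 1, O.valuation ((q n : cycField ω) : ℂ) ≤ 1 := by
    intro n hn
    rw [← hcoeff n hn]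
    refine hU.coeff_integral (std_isPrimitiveRoot (one_ne_zero (α := ZMod p))) hdeg ?_ n
    have : (A.map (algebraMap (cycField ω) ℂ)).eval (ZMod.stdAddChar (1 : ZMod p) : ℂ) = f 1 := by
      rw [hev 1 one_ne_zero, hA, Polynomial.map_sum, Polynomial.eval_finsetSum]
      refine Finset.sum_congr rfl fun n _ => ?_
      simp
    rw [this]
    exact hwint _ (hκ 1 one_ne_zero)
  let a₀ : cycField ω := ∑ n ∈ Finset.range (p - 1), q n
  have ha₀ : O.valuation (a₀ : ℂ) ≤ 1 := by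
    simp only [a₀]
    push_cast
    exact Valuation.map_sum_le _ fun n hn => hqint n (Finset.mem_range.1 hn)
  have hclose : ∀ θ ∈ K, O.valuation (w θ - (a₀ : ℂ)) < 1 := by
    intro θ hθ
    obtain ⟨j, hj⟩ := Finset.card_pos.1 (show 0 < (fib κ θ).card by rw [hfib θ hθ]; exact he)
    obtain ⟨hj0, rfl⟩ := mem_fib.1 hj
    rw [show w (κ j) = f j from rfl, hev j hj0]
    simp only [a₀]
    push_cast
    rw [← Finset.sum_sub_distrib]
    refine Valuation.map_sum_lt _ one_ne_zero fun n hn => ?_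
    rw [← mul_sub_one, map_mul]
    refine mul_lt_one_of_nonneg_of_lt_one_right (hqint n (Finset.mem_range.1 hn)) zero_le ?_
    exact val_root_sub_one_lt hU.mem
      (by rw [← pow_mul, mul_comm, pow_mul, (std_isPrimitiveRoot hj0).pow_eq_one, one_pow])
  -- reduce over `O`
  refine ⟨⟨a₀, mem_cycRing.2 ha₀⟩, K.card, ?_⟩
  set a : cycRing O ω := ⟨a₀, mem_cycRing.2 ha₀⟩
  let ι : cycRing O ω →+* O :=
    ((algebraMap (cycField ω) ℂ).comp (cycRing O ω).subtype).codRestrict O.toSubring fun x => x.2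
  let ΦO : Matrix (Fin d) (Fin d) O := ι.mapMatrix Φ
  have hwO : ∀ θ, θ ∈ K → w θ ∈ O := fun θ hθ => (O.valuation_le_one_iff _).1 (hwint θ hθ)
  let wO : {θ // θ ∈ K} → O := fun θ => ⟨w θ.1, hwO θ.1 θ.2⟩
  let P : Polynomial O := ∏ θ ∈ K.attach, (Polynomial.X - Polynomial.C (wO θ))
  have hP0 : Polynomial.aeval ΦO P = 0 := by
    refine Matrix.map_injective (f := O.subtype) Subtype.val_injective ?_
    show O.subtype.mapMatrix (Polynomial.aeval ΦO P) = O.subtype.mapMatrix 0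
    rw [map_zero, Polynomial.aeval_def, Polynomial.hom_eval₂]
    have hcomp : (O.subtype.mapMatrix).comp (algebraMap O (Matrix (Fin d) (Fin d) O)) =
        (algebraMap ℂ (Matrix (Fin d) (Fin d) ℂ)).comp O.subtype := by
      refine RingHom.ext fun x => ?_
      ext i j
      by_cases hij : i = j <;> simp [Matrix.algebraMap_matrix_apply, hij]
    rw [hcomp, ← Polynomial.eval₂_map, show O.subtype.mapMatrix ΦO = ΦC from rfl,
      ← Polynomial.aeval_def, Polynomial.map_prod]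
    rw [← hpoly, ← Finset.prod_attach K (fun χ => Polynomial.X - Polynomial.C (w χ))]
    congr 1
    exact Finset.prod_congr rfl fun θ _ => by simp [wO]
  have hres : ∀ θ : {θ // θ ∈ K}, residue O (wO θ) = residue O (ι a) := fun θ => by
    rw [← sub_eq_zero, ← map_sub, residue_eq_zero_iff]
    exact (O.valuation_lt_one_iff _).2 (hclose θ.1 θ.2)
  have hredO : (red O (Fin d) ΦO - residue O (ι a) • 1) ^ K.card = 0 := by
    have := congrArg (red O (Fin d)) hP0
    rw [map_zero, Polynomial.aeval_def, Polynomial.hom_eval₂] at this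
    have hcomp : (red O (Fin d)).comp (algebraMap O (Matrix (Fin d) (Fin d) O)) =
        (algebraMap (ResidueField O) (Matrix (Fin d) (Fin d) (ResidueField O))).comp (residue O) := by
      refine RingHom.ext fun x => ?_
      ext i j
      by_cases hij : i = j <;> simp [red, Matrix.algebraMap_matrix_apply, hij]
    rw [hcomp, ← Polynomial.eval₂_map, Polynomial.map_prod, ← Polynomial.aeval_def,
      Finset.prod_congr rfl (g := fun _ => Polynomial.X - Polynomial.C (residue O (ι a)))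
        (fun θ _ => by simp [hres θ]),
      Finset.prod_const, Finset.card_attach, map_pow, map_sub, Polynomial.aeval_X,
      Polynomial.aeval_C, Algebra.algebraMap_eq_smul_one] at this
    exact this
  rw [← map_pow]
  have hzero : red O (Fin d) ((ΦO - ι a • 1) ^ K.card) = 0 := by
    rw [map_pow, map_sub, show red O (Fin d) (ι a • (1 : Matrix (Fin d) (Fin d) O)) =
      residue O (ι a) • 1 from ?_]
    · exact hredO
    · ext i j
      by_cases hij : i = j <;> simp [red, hij]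
  have hmap : ι.mapMatrix ((Φ - a • 1) ^ K.card) = (ΦO - ι a • 1) ^ K.card := by
    have hone : ι.mapMatrix (a • (1 : Matrix (Fin d) (Fin d) (cycRing O ω))) =
        ι a • (1 : Matrix (Fin d) (Fin d) O) := by
      ext i j
      rw [RingHom.mapMatrix_apply, Matrix.map_apply, Matrix.smul_apply, Matrix.smul_apply,
        smul_eq_mul, smul_eq_mul, map_mul]
      by_cases hij : i = j
      · subst hij; rw [Matrix.one_apply_eq, Matrix.one_apply_eq, map_one]
      · rw [Matrix.one_apply_ne hij, Matrix.one_apply_ne hij, map_zero]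
    rw [map_pow, map_sub, hone]
  ext i j
  have h1 : residue O (ι (((Φ - a • 1) ^ K.card) i j)) = 0 := by
    rw [show ι (((Φ - a • 1) ^ K.card) i j) = ((ΦO - ι a • 1) ^ K.card) i j from
      congrFun (congrFun hmap i) j]
    exact congrFun (congrFun hzero i) j
  rw [residue_eq_zero_iff, mem_maximalIdeal, mem_nonunits_iff] at h1
  show residue (cycRing O ω) _ = 0
  rw [residue_eq_zero_iff, mem_maximalIdeal, mem_nonunits_iff, not_isUnit_iff_val_lt_one]
  exact (O.valuation_lt_one_iff _).1 ((mem_maximalIdeal _).2 h1)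

/-- The data of the block with a Sylow subgroup of order `p` as defect group. -/
structure BlockData {G : Type*} [Group G] [Fintype G] (p : ℕ) [Fact p.Prime] (z : G)
    (V : Subgroup G) where
  m : Cfsg.IrrCharacter G → ZMod p → ℕ
  b : Cfsg.IrrCharacter G → ℤ
  ε : ℤ
  K : Finset (Cfsg.IrrCharacter G)
  κ : ZMod p → Cfsg.IrrCharacter G
  D : ℕ
  t : ℕ
  m_spec : ∀ χ k, (m χ k : ℂ) * (p * Nat.card V : ℕ) =
    ∑ i : ZMod p, vsum z V χ.1 i * conj (ZMod.stdAddChar (k * i))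
  m_one : ∀ k, m (H26.oneIrr G) k = if k = 0 then 1 else 0
  et : (H30.conjExps p z).card * t = p - 1
  eps : ε = 1 ∨ ε = -1
  cardK : K.card = t
  one_not : H26.oneIrr G ∉ K
  κ_mem : ∀ k ≠ 0, κ k ∈ K
  fiber : ∀ x ∈ K, (fib κ x).card = (H30.conjExps p z).card
  b_one : b (H26.oneIrr G) = 0
  mult : ∀ χ, ∀ k ≠ 0, (m χ k : ℤ) = b χ + if κ k = χ then ε else 0
  bK : ∀ χ ∈ K, b χ = m χ 0
  abs_le : ∀ χ, |b χ - m χ 0| ≤ 1
  sq_sum : ∑ χ, (b χ - m χ 0) ^ 2 = (H30.conjExps p z).card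
  degK : ∀ χ ∈ K, Cfsg.charDegree χ.1 = D
  D_pos : 0 < D
  deg_sum : ∑ χ, (Cfsg.charDegree χ.1 : ℤ) * (b χ - m χ 0) + ε * D = 0
  regular : ∀ u : G, ¬ p ∣ orderOf u → ∀ θ ∈ K,
    ∑ χ : Cfsg.IrrCharacter G, χ.1 u * ((b χ - m χ 0 : ℤ) : ℂ) + ε * θ.1 u = 0
  val : ∀ χ, b χ - m χ 0 ≠ 0 → ∀ i : ZMod p, i ≠ 0 → ∀ v : V,
    χ.1 (z ^ i.val * (v : G)) = ((-(b χ - m χ 0) : ℤ) : ℂ)
  valK : ∀ θ ∈ K, ∀ i : ZMod p, i ≠ 0 → ∀ v : V,
    θ.1 (z ^ i.val * (v : G)) = ε * ∑ k ∈ fib κ θ, ZMod.stdAddChar (k * i)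
  valZero : ∀ χ ∉ K, b χ - m χ 0 = 0 → ∀ i : ZMod p, i ≠ 0 → vsum z V χ.1 i = 0
  cong : ∀ χ, b χ - m χ 0 ≠ 0 → (p : ℤ) ∣ (Cfsg.charDegree χ.1 : ℤ) + (b χ - m χ 0)
  congK : (p : ℤ) ∣ (D : ℤ) - ε * (H30.conjExps p z).card
  dvd : ∀ χ, b χ - m χ 0 ≠ 0 → Cfsg.charDegree χ.1 * (p * Nat.card V) ∣ Nat.card G
  dvdK : D * (p * Nat.card V) ∣ Nat.card G

theorem Parts.card_centralizer (S : Parts p z V H) :
    Nat.card (Subgroup.centralizer ({z} : Set G)) = p * Nat.card V := by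
  rw [← S.card_fiber S.one_mem_conjExps]
  refine Nat.card_congr (Equiv.subtypeEquivRight fun g => ?_)
  rw [ZMod.val_one, pow_one, Subgroup.mem_centralizer_singleton_iff, mul_inv_eq_iff_eq_mul]

theorem dvd_index_of_integral (S : Parts p z V H) {d : ℕ} (hd : d ≠ 0)
    (h : IsIntegral ℤ (((Subgroup.centralizer ({z} : Set G)).index : ℂ) / (d : ℂ))) :
    d * (p * Nat.card V) ∣ Nat.card G := by
  have h1 := H25.dvd_of_isIntegral_div hd h
  rw [← (Subgroup.centralizer ({z} : Set G)).index_mul_card, S.card_centralizer]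
  exact Nat.mul_dvd_mul_right h1 _

theorem prime_dvd_of_val_lt {O : ValuationSubring ℂ} (hmem : (p : O) ∈ maximalIdeal O) {x : ℤ}
    (h : O.valuation (x : ℂ) < 1) : (p : ℤ) ∣ x := by
  by_contra hn
  exact h.ne (val_int_eq_one hmem hn)

set_option maxHeartbeats 1000000 in
/-- The block data exists. -/
theorem Parts.nonempty_blockData (S : Parts p z V H) : Nonempty (BlockData p z V) := by
  classical
  obtain ⟨m, hm, hv, h1⟩ := S.exists_mult
  obtain ⟨hg, hreg⟩ := S.gram hm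
  obtain ⟨t, b, ε, K, κ, het, hε, h1K, hb1, hcase⟩ := S.exists_star hg hreg h1
  set e := (H30.conjExps p z).card with he
  have he0 : 0 < e := S.card_exp_pos
  have hc0 : (Nat.card V : ℂ) ≠ 0 := Nat.cast_ne_zero.2 Nat.card_pos.ne'
  obtain ⟨O, hmem⟩ := Cfsg.Agent.H44.exists_valuationSubring_natCast_mem p
  have h1z : z = z ^ (1 : ZMod p).val * ((1 : V) : G) := by
    rw [ZMod.val_one, pow_one, Subgroup.coe_one, mul_one]
  -- the norm of a difference
  have hdist0 : ∀ k ≠ 0, ∑ χ, ((m χ k : ℤ) - m χ 0) ^ 2 = (e : ℤ) + 1 := by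
    intro k hk
    rw [S.dist hg k 0, S.cnt_eq hk k, S.cnt_zero_left hk, S.cnt_zero_right hk, S.cnt_zero_zero,
      if_pos ⟨1, S.one_mem_conjExps, (one_mul k).symm⟩]
    push_cast
    ring
  -- integrality of a central character
  have hdvd : ∀ (χ : Cfsg.IrrCharacter G) (a : ℤ), (a = 1 ∨ a = -1) → χ.1 z = a →
      Cfsg.charDegree χ.1 * (p * Nat.card V) ∣ Nat.card G := by
    intro χ a ha hz'
    obtain ⟨hdeg, hpos⟩ := irr_degree χ
    obtain ⟨n, ρ, hρ, hρe⟩ := χ.2
    have h := H25.isIntegral_classSize_mul_char_div ρ z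
    have hfr : (Module.finrank ℂ (Fin n → ℂ) : ℂ) = (Cfsg.charDegree χ.1 : ℂ) := by
      rw [← ρ.char_one, congrFun hρe 1, hdeg]
    rw [congrFun hρe z, hz', hfr] at h
    refine dvd_index_of_integral S hpos.ne' ?_
    rcases ha with rfl | rfl
    · simpa using h
    · simpa [neg_div] using h.neg
  have hcong : ∀ (χ : Cfsg.IrrCharacter G) (a : ℤ), χ.1 z = (-a : ℤ) →
      (p : ℤ) ∣ (Cfsg.charDegree χ.1 : ℤ) + a := by
    intro χ a hz'
    refine prime_dvd_of_val_lt hmem ?_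
    have := val_char_sub_lt_one hmem S.ord χ
    rw [hz', (irr_degree χ).1, Valuation.map_sub_swap] at this
    push_cast at this ⊢
    rwa [sub_neg_eq_add] at this
  rcases hcase with ⟨ht1, hK0, hf⟩ | ⟨ht2, hKc, hκ, hfibc, hDK, hf⟩
  · -- one exceptional character, to be chosen
    subst ht1
    have hN := fun χ => nonexceptional S hv (χ := χ) (b := b χ) (hf χ)
    have hsq : ∑ χ, (b χ - m χ 0) ^ 2 = (e : ℤ) + 1 := by
      rw [← hdist0 1 one_ne_zero]
      exact Finset.sum_congr rfl fun χ _ => by rw [hf χ 1 one_ne_zero]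
    obtain ⟨χ₀, hχ₀, hc₀⟩ : ∃ χ₀, χ₀ ≠ H26.oneIrr G ∧ b χ₀ - m χ₀ 0 ≠ 0 := by
      by_contra hcon
      push Not at hcon
      rw [Finset.sum_eq_single_of_mem (H26.oneIrr G) (Finset.mem_univ _)
        (fun χ _ hχ => by rw [hcon χ hχ]; norm_num), hb1, h1, if_pos rfl] at hsq
      push_cast at hsq
      omega
    set ε' : ℤ := b χ₀ - m χ₀ 0 with hε'def
    have hε' : ε' = 1 ∨ ε' = -1 := by
      have := abs_le.1 (hN χ₀).2.2
      omega
    let b' : Cfsg.IrrCharacter G → ℤ := fun χ => if χ = χ₀ then m χ₀ 0 else b χ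
    have hb'0 : b' χ₀ = m χ₀ 0 := if_pos rfl
    have hb' : ∀ χ, χ ≠ χ₀ → b' χ = b χ := fun χ h => if_neg h
    have hsplit : ∀ f : Cfsg.IrrCharacter G → ℤ,
        ∑ χ, f χ * (b' χ - m χ 0) = (∑ χ, f χ * (b χ - m χ 0)) - f χ₀ * ε' := by
      intro f
      rw [eq_sub_iff_add_eq, ← Finset.add_sum_erase _ _ (Finset.mem_univ χ₀),
        ← Finset.add_sum_erase _ (fun χ => f χ * (b χ - m χ 0)) (Finset.mem_univ χ₀), hb'0,
        sub_self, mul_zero, zero_add, ← hε'def, add_comm]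
      congr 1
      exact Finset.sum_congr rfl fun χ hχ => by rw [hb' χ (Finset.ne_of_mem_erase hχ)]
    have hne : ∀ χ, b' χ - m χ 0 ≠ 0 → χ ≠ χ₀ ∧ b' χ = b χ := by
      intro χ h
      have hχ : χ ≠ χ₀ := fun e => h (by rw [e, hb'0, sub_self])
      exact ⟨hχ, hb' χ hχ⟩
    have het1 : e = p - 1 := by rw [mul_one] at het; exact het
    have hregu : ∀ u : G, ¬ p ∣ orderOf u →
        ∑ χ : Cfsg.IrrCharacter G, χ.1 u * ((b χ - m χ 0 : ℤ) : ℂ) = 0 := by
      intro u hu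
      rw [← hreg u hu 1 0]
      exact Finset.sum_congr rfl fun χ _ => by rw [hf χ 1 one_ne_zero]
    refine ⟨{
      m := m, b := b', ε := ε', K := {χ₀}, κ := fun _ => χ₀, D := Cfsg.charDegree χ₀.1, t := 1,
      m_spec := hm, m_one := h1, et := het, eps := hε', cardK := Finset.card_singleton _,
      one_not := by simpa using hχ₀.symm
      κ_mem := fun k _ => Finset.mem_singleton_self _
      fiber := ?_, b_one := by rw [hb' _ hχ₀.symm]; exact hb1, mult := ?_, bK := ?_, abs_le := ?_,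
      sq_sum := ?_, degK := ?_, D_pos := (irr_degree χ₀).2, deg_sum := ?_, regular := ?_, val := ?_,
      valK := ?_, valZero := ?_, cong := ?_, congK := ?_, dvd := ?_, dvdK := ?_ }⟩
    · intro x hx
      rw [Finset.mem_singleton.1 hx, ← he, het1]
      rw [show fib (fun _ : ZMod p => χ₀) χ₀ = Finset.univ.erase 0 from ?_]
      · simp [ZMod.card]
      · ext k; simp [mem_fib]
    · intro χ k hk
      rcases eq_or_ne χ χ₀ with rfl | h
      · rw [hb'0, if_pos rfl, hf _ k hk, hε'def]; ring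
      · rw [hb' χ h, if_neg h.symm, add_zero]; exact hf χ k hk
    · intro χ hχ
      rw [Finset.mem_singleton.1 hχ, hb'0]
    · intro χ
      rcases eq_or_ne χ χ₀ with rfl | h
      · rw [hb'0, sub_self]; norm_num
      · rw [hb' χ h]; exact (hN χ).2.2
    · have h3 : ∀ χ, (b' χ - m χ 0) ^ 2 = (b χ - m χ 0) * (b' χ - m χ 0) := fun χ => by
        rcases eq_or_ne χ χ₀ with rfl | h
        · rw [hb'0, sub_self]; ring
        · rw [hb' χ h, pow_two]
      rw [Finset.sum_congr rfl fun χ _ => h3 χ, hsplit, ← hε'def,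
        Finset.sum_congr rfl fun χ _ => (pow_two _).symm, hsq]
      rcases hε' with e' | e' <;> rw [e'] <;> ring
    · intro χ hχ
      rw [Finset.mem_singleton.1 hχ]
    · rw [hsplit]
      have h := hregu 1 (by rw [orderOf_one]; exact hp.out.not_dvd_one)
      simp only [(irr_degree _).1] at h
      have h' : ∑ χ : Cfsg.IrrCharacter G, (Cfsg.charDegree χ.1 : ℤ) * (b χ - m χ 0) = 0 :=
        (Int.cast_eq_zero (α := ℂ)).1 (by push_cast at h ⊢; exact h)
      rw [h']
      ring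
    · intro u hu θ hθ
      rw [Finset.mem_singleton.1 hθ]
      have h := hregu u hu
      rw [← Finset.add_sum_erase _ _ (Finset.mem_univ χ₀), ← hε'def] at h
      rw [← Finset.add_sum_erase _ _ (Finset.mem_univ χ₀), hb'0, sub_self, Int.cast_zero, mul_zero,
        zero_add, Finset.sum_congr rfl fun χ hχ => by rw [hb' χ (Finset.ne_of_mem_erase hχ)]]
      linear_combination h
    · intro χ hχ i hi v
      obtain ⟨-, hb''⟩ := hne χ hχ
      rw [hb''] at hχ ⊢
      exact (hN χ).1 hχ i hi v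
    · intro θ hθ i hi v
      rw [Finset.mem_singleton.1 hθ, (hN χ₀).1 hc₀ i hi v, ← hε'def,
        show fib (fun _ : ZMod p => χ₀) χ₀ = Finset.univ.erase 0 from by ext k; simp [mem_fib],
        sum_std_ne_zero hi]
      push_cast
      ring
    · intro χ hχ hcz i hi
      rw [hb' χ (by simpa using hχ)] at hcz
      exact (hN χ).2.1 hcz i hi
    · intro χ hχ
      obtain ⟨-, hb''⟩ := hne χ hχ
      rw [hb''] at hχ ⊢
      exact hcong χ _ (by rw [h1z]; exact (hN χ).1 hχ 1 one_ne_zero 1)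
    · have h := hcong χ₀ ε' (by rw [h1z]; exact (hN χ₀).1 hc₀ 1 one_ne_zero 1)
      obtain ⟨q, hq⟩ := h
      refine ⟨q - ε', ?_⟩
      rw [← he, het1, Nat.cast_sub hp.out.one_le]
      push_cast
      linear_combination hq
    · intro χ hχ
      rw [(hne χ hχ).2] at hχ
      refine hdvd χ (-(b χ - m χ 0)) ?_ (by rw [h1z]; exact (hN χ).1 hχ 1 one_ne_zero 1)
      have := abs_le.1 (hN χ).2.2
      omega
    · exact hdvd χ₀ (-ε') (by omega) (by rw [h1z]; exact (hN χ₀).1 hc₀ 1 one_ne_zero 1)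
  -- at least two exceptional characters
  have hNE : ∀ χ ∉ K, (b χ - m χ 0 ≠ 0 → ∀ i : ZMod p, i ≠ 0 → ∀ v : V,
      χ.1 (z ^ i.val * (v : G)) = ((-(b χ - m χ 0) : ℤ) : ℂ)) ∧
      (b χ - m χ 0 = 0 → ∀ i : ZMod p, i ≠ 0 → vsum z V χ.1 i = 0) ∧ |b χ - m χ 0| ≤ 1 :=
    fun χ hχ => nonexceptional S hv (fun k hk => by
      rw [hf χ k hk, if_neg (fun e : κ k = χ => hχ (e ▸ hκ k hk)), add_zero])
  -- values of the exceptional characters
  have hvK : ∀ θ ∈ K, ∀ i : ZMod p, i ≠ 0 → ∀ v : V, θ.1 (z ^ i.val * (v : G)) =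
      -((b θ - m θ 0 : ℤ) : ℂ) + ε * ∑ k ∈ fib κ θ, ZMod.stdAddChar (k * i) := by
    intro θ hθ i hi v
    have hval : ∀ j : ZMod p, j ≠ 0 → vsum z V θ.1 j = (Nat.card V : ℂ) *
        (-((b θ - m θ 0 : ℤ) : ℂ) + ε * ∑ k ∈ fib κ θ, ZMod.stdAddChar (k * j)) := by
      intro j hj
      rw [vsum_of_mult S hv (f := fun k => if κ k = θ then ε else 0) (fun k hk => hf θ k hk) hj]
      congr 1
      push_cast
      rw [Finset.mul_sum, ← Finset.sum_filter_add_sum_filter_not (Finset.univ.erase (0 : ZMod p))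
        (fun k => κ k = θ), Finset.sum_eq_zero (s := Finset.filter (fun k => ¬ κ k = θ) _)
        fun k hk => by rw [if_neg (Finset.mem_filter.1 hk).2]; simp]
      rw [show Finset.filter (fun k => κ k = θ) (Finset.univ.erase (0 : ZMod p)) = fib κ θ by
        ext k; simp [mem_fib], add_zero, Finset.sum_congr rfl fun k hk => by
          rw [if_pos (mem_fib.1 hk).2]]
      ring
    rcases vsum_zero_or_const S θ with h0 | hc
    · exfalso
      -- all averages vanish, so the multiplicities of non-zero exponents agree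
      have hz0 : ∀ k : ZMod p, k ≠ 0 → (m θ k : ℂ) * (p * Nat.card V : ℕ) = vsum z V θ.1 (0 : ZMod p) := by
        intro k _
        rw [hm θ k, Finset.sum_eq_single_of_mem 0 (Finset.mem_univ _)
          (fun j _ hj => by rw [h0 j hj, zero_mul]), mul_zero, AddChar.map_zero_eq_one, map_one,
          mul_one]
      obtain ⟨k, hk⟩ := Finset.card_pos.1 (show 0 < (fib κ θ).card by rw [hfibc θ hθ]; exact he0)
      obtain ⟨hk0, hkθ⟩ := mem_fib.1 hk
      obtain ⟨θ', hθ', hne⟩ := Finset.exists_mem_ne (s := K) (by omega) θ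
      obtain ⟨l, hl⟩ := Finset.card_pos.1 (show 0 < (fib κ θ').card by rw [hfibc θ' hθ']; exact he0)
      obtain ⟨hl0, hlθ⟩ := mem_fib.1 hl
      have heq : (m θ k : ℂ) = m θ l := mul_right_cancel₀
        (Nat.cast_ne_zero.2 (mul_ne_zero hp.out.ne_zero Nat.card_pos.ne'))
        ((hz0 k hk0).trans (hz0 l hl0).symm)
      have e1 := hf θ k hk0
      have e2 := hf θ l hl0
      rw [if_pos hkθ] at e1
      rw [if_neg (fun h => hne (hlθ.symm.trans h))] at e2
      have heq' : (m θ k : ℤ) = m θ l := by exact_mod_cast heq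
      omega
    · rw [hc i hi v]
      exact mul_left_cancel₀ hc0 ((vsum_of_const (hc i hi)).symm.trans (hval i hi))
  -- the quadratic relation
  have hqK : ∀ θ ∈ K, ∑ χ, (b χ - m χ 0) ^ 2 + 2 * ε * (b θ - m θ 0) = (e : ℤ) := by
    intro θ hθ
    obtain ⟨k, hk⟩ := Finset.card_pos.1 (show 0 < (fib κ θ).card by rw [hfibc θ hθ]; exact he0)
    obtain ⟨hk0, hkθ⟩ := mem_fib.1 hk
    have h := hdist0 k hk0
    have h2 : ∀ χ, ((m χ k : ℤ) - m χ 0) ^ 2 =
        (b χ - m χ 0) ^ 2 + (if χ = θ then 2 * ε * (b θ - m θ 0) + 1 else 0) := by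
      intro χ
      rw [hf χ k hk0, hkθ]
      by_cases hχ : χ = θ
      · subst hχ
        rw [if_pos rfl, if_pos rfl]
        rcases hε with rfl | rfl <;> ring
      · rw [if_neg (Ne.symm hχ), if_neg hχ]; ring
    rw [Finset.sum_congr rfl fun χ _ => h2 χ, Finset.sum_add_distrib, Finset.sum_ite_eq',
      if_pos (Finset.mem_univ θ)] at h
    omega
  obtain ⟨θ₀, hθ₀⟩ := Finset.card_pos.1 (show 0 < K.card by omega)
  set C : ℤ := b θ₀ - m θ₀ 0 with hC
  set D := Cfsg.charDegree θ₀.1 with hDdef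
  have hCK : ∀ θ ∈ K, b θ - (m θ 0 : ℤ) = C := by
    intro θ hθ
    have e1 := hqK θ hθ
    have e2 := hqK θ₀ hθ₀
    rw [hC]
    rcases hε with rfl | rfl <;> omega
  have hdK : ∀ θ ∈ K, Cfsg.charDegree θ.1 = D := fun θ hθ => hDK θ hθ θ₀ hθ₀
  have hsumfib : ∀ i : ZMod p, i ≠ 0 →
      ∑ θ ∈ K, ∑ k ∈ fib κ θ, (ZMod.stdAddChar (k * i) : ℂ) = -1 := by
    intro i hi
    rw [← sum_std_ne_zero hi, ← Finset.sum_fiberwise_of_maps_to (g := κ) (t := K)
      (fun k hk => hκ k (Finset.ne_of_mem_erase hk))]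
    refine Finset.sum_congr rfl fun θ _ => Finset.sum_congr ?_ fun _ _ => rfl
    ext k; simp [mem_fib]
  have hΘval : ∀ i : ZMod p, i ≠ 0 → ∀ v : V,
      ∑ θ ∈ K, θ.1 (z ^ i.val * (v : G)) = ((-((t : ℤ) * C + ε) : ℤ) : ℂ) := by
    intro i hi v
    rw [Finset.sum_congr rfl fun θ hθ => by rw [hvK θ hθ i hi v, hCK θ hθ],
      Finset.sum_add_distrib, ← Finset.mul_sum, hsumfib i hi, Finset.sum_const, hKc, nsmul_eq_mul]
    push_cast
    ring
  have habsΘ : |(t : ℤ) * C + ε| ≤ 1 := by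
    rcases eq_or_ne ((t : ℤ) * C + ε) 0 with h | h
    · rw [h]; norm_num
    rw [← abs_neg]
    refine abs_le_one_of_const S (χ := fun g => ∑ θ ∈ K, θ.1 g) ?_ (neg_ne_zero.2 h) hΘval
      fun O' _ ω hU d R htr => ?_
    · have := H26.isCharacter_sum K (fun θ : Cfsg.IrrCharacter G => θ.1)
        fun θ _ => H26.irr_isCharacter θ
      rwa [show (fun g => ∑ θ ∈ K, θ.1 g) = ∑ θ ∈ K, θ.1 from funext fun g =>
        (Finset.sum_apply g K fun θ => θ.1).symm]
    · refine localEnd_sum S he0 hκ hfibc hε (irr_degree θ₀).2.ne' (C := C)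
        (fun θ hθ => by rw [(irr_degree θ).1, hdK θ hθ]) (fun θ hθ i hi => ?_) hU R htr
      have := hvK θ hθ i hi 1
      rw [Subgroup.coe_one, mul_one, hCK θ hθ] at this
      exact this
  have hC01 : C = 0 ∨ (t = 2 ∧ C = -ε) := by
    obtain ⟨hl, hh⟩ := abs_le.1 habsΘ
    have ht : (2 : ℤ) ≤ t := by exact_mod_cast ht2
    rcases lt_trichotomy C 0 with hneg | h0 | hpos
    · refine Or.inr ?_
      have h5 : (t : ℤ) * C ≤ t * (-1) := mul_le_mul_of_nonneg_left (by omega) (by omega)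
      rcases hε with rfl | rfl
      · have ht' : t = 2 := by omega
        subst ht'
        exact ⟨rfl, by omega⟩
      · omega
    · exact Or.inl h0
    · refine Or.inr ?_
      have h5 : (t : ℤ) * 1 ≤ t * C := mul_le_mul_of_nonneg_left (by omega) (by omega)
      rcases hε with rfl | rfl
      · omega
      · have ht' : t = 2 := by omega
        subst ht'
        exact ⟨rfl, by omega⟩
  -- normalise the sign
  obtain ⟨b', ε', κ', hε', hb1', hκ', hfib', hf', hbK', hb'⟩ :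
      ∃ (b' : Cfsg.IrrCharacter G → ℤ) (ε' : ℤ) (κ' : ZMod p → Cfsg.IrrCharacter G),
        (ε' = 1 ∨ ε' = -1) ∧ b' (H26.oneIrr G) = 0 ∧ (∀ k ≠ 0, κ' k ∈ K) ∧
        (∀ x ∈ K, (fib κ' x).card = e) ∧
        (∀ χ, ∀ k ≠ 0, (m χ k : ℤ) = b' χ + if κ' k = χ then ε' else 0) ∧
        (∀ χ ∈ K, b' χ = m χ 0) ∧ ∀ χ ∉ K, b' χ = b χ := by
    rcases hC01 with h0 | ⟨ht, hCε⟩
    · exact ⟨b, ε, κ, hε, hb1, hκ, hfibc, hf,
        fun χ hχ => sub_eq_zero.1 ((hCK χ hχ).trans h0), fun _ _ => rfl⟩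
    obtain ⟨x, y, hxy, hKxy⟩ := Finset.card_eq_two.1 (hKc.trans ht)
    let σ : Cfsg.IrrCharacter G → Cfsg.IrrCharacter G := fun χ => if χ = x then y else x
    have hσK : ∀ χ ∈ K, σ χ ∈ K ∧ σ (σ χ) = χ ∧ σ χ ≠ χ := by
      intro χ hχ
      rw [hKxy, Finset.mem_insert, Finset.mem_singleton] at hχ
      rcases hχ with rfl | rfl
      · simp [σ, hKxy, hxy.symm]
      · simp [σ, hKxy, hxy, hxy.symm]
    refine ⟨fun χ => if χ ∈ K then b χ + ε else b χ, -ε, fun k => σ (κ k), by omega,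
      by simp only [if_neg h1K, hb1], fun k hk => (hσK _ (hκ k hk)).1, fun θ hθ => ?_,
      fun χ k hk => ?_, fun χ hχ => ?_, fun χ hχ => if_neg hχ⟩
    · obtain ⟨h1σ, h2σ, -⟩ := hσK θ hθ
      rw [← hfibc (σ θ) h1σ]
      congr 1
      ext k
      simp only [mem_fib]
      refine and_congr_right fun hk => ⟨fun h => ?_, fun h => by rw [h, h2σ]⟩
      rw [← h, (hσK _ (hκ k hk)).2.1]
    · rw [hf χ k hk]
      obtain ⟨hσ1, hσ2, hσ3⟩ := hσK _ (hκ k hk)
      by_cases hχ : χ ∈ K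
      · obtain ⟨_, hσχ, hσne⟩ := hσK χ hχ
        simp only [if_pos hχ]
        by_cases hk' : κ k = χ
        · rw [if_pos hk', if_neg (by rw [hk']; exact hσne)]; ring
        · rw [if_neg hk', if_pos ?_]; · ring
          have h1 := hκ k hk
          rw [hKxy, Finset.mem_insert, Finset.mem_singleton] at h1 hχ
          rcases h1 with h1 | h1 <;> rcases hχ with h2 | h2
          · exact absurd (h1.trans h2.symm) hk'
          · simp [σ, h1, h2]
          · simp [σ, h1, h2, hxy.symm]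
          · exact absurd (h1.trans h2.symm) hk'
      · simp only [if_neg hχ]
        rw [if_neg (fun h : κ k = χ => hχ (h ▸ hκ k hk)),
          if_neg (fun h : σ (κ k) = χ => hχ (h ▸ hσ1))]
    · simp only [if_pos hχ]
      have := hCK χ hχ
      omega
  have hvK' : ∀ θ ∈ K, ∀ i : ZMod p, i ≠ 0 → ∀ v : V, θ.1 (z ^ i.val * (v : G)) =
      ε' * ∑ k ∈ fib κ' θ, ZMod.stdAddChar (k * i) := by
    intro θ hθ i hi v
    rcases vsum_zero_or_const S θ with h0 | hc
    · exfalso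
      obtain ⟨k, hk⟩ := Finset.card_pos.1 (show 0 < (fib κ' θ).card by rw [hfib' θ hθ]; exact he0)
      obtain ⟨hk0, hkθ⟩ := mem_fib.1 hk
      obtain ⟨θ', hθ', hne⟩ := Finset.exists_mem_ne (s := K) (by omega) θ
      obtain ⟨l, hl⟩ := Finset.card_pos.1 (show 0 < (fib κ' θ').card by rw [hfib' θ' hθ']; exact he0)
      obtain ⟨hl0, hlθ⟩ := mem_fib.1 hl
      have hz0 : ∀ j : ZMod p, (m θ j : ℂ) * (p * Nat.card V : ℕ) = vsum z V θ.1 (0 : ZMod p) := by
        intro j
        rw [hm θ j, Finset.sum_eq_single_of_mem 0 (Finset.mem_univ _)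
          (fun a _ ha => by rw [h0 a ha, zero_mul]), mul_zero, AddChar.map_zero_eq_one, map_one,
          mul_one]
      have heq : (m θ k : ℂ) = m θ l := mul_right_cancel₀
        (Nat.cast_ne_zero.2 (mul_ne_zero hp.out.ne_zero Nat.card_pos.ne'))
        ((hz0 k).trans (hz0 l).symm)
      have e1 := hf' θ k hk0
      have e2 := hf' θ l hl0
      rw [if_pos hkθ] at e1
      rw [if_neg (fun h => hne (hlθ.symm.trans h))] at e2
      have heq' : (m θ k : ℤ) = m θ l := by exact_mod_cast heq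
      omega
    · rw [hc i hi v]
      refine mul_left_cancel₀ hc0 ((vsum_of_const (hc i hi)).symm.trans ?_)
      rw [vsum_of_mult S hv (f := fun k => if κ' k = θ then ε' else 0) (fun k hk => hf' θ k hk) hi,
        hbK' θ hθ, sub_self, Int.cast_zero, zero_add]
      congr 1
      rw [Finset.mul_sum, ← Finset.sum_subset (show fib κ' θ ⊆ Finset.univ.erase 0 from fun k hk =>
        Finset.mem_erase.2 ⟨(mem_fib.1 hk).1, Finset.mem_univ _⟩) (fun k hk hk' => by
          rw [if_neg fun h => hk' (mem_fib.2 ⟨Finset.ne_of_mem_erase hk, h⟩), Int.cast_zero,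
            zero_mul])]
      exact Finset.sum_congr rfl fun k hk => by rw [if_pos (mem_fib.1 hk).2]
  have hne : ∀ χ, b' χ - m χ 0 ≠ 0 → χ ∉ K ∧ b' χ = b χ := by
    intro χ h
    have hχ : χ ∉ K := fun hh => h (by rw [hbK' χ hh, sub_self])
    exact ⟨hχ, hb' χ hχ⟩
  -- differences at the first exponent
  have hdiffK : ∀ θ ∈ K, ∃ k ≠ 0, ∀ χ, (m χ k : ℤ) - m χ 0 =
      (b' χ - m χ 0) + if θ = χ then ε' else 0 := by
    intro θ hθ
    obtain ⟨k, hk⟩ := Finset.card_pos.1 (show 0 < (fib κ' θ).card by rw [hfib' θ hθ]; exact he0)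
    obtain ⟨hk0, hkθ⟩ := mem_fib.1 hk
    refine ⟨k, hk0, fun χ => ?_⟩
    rw [hf' χ k hk0, hkθ]
    ring
  have hregK : ∀ u : G, ¬ p ∣ orderOf u → ∀ θ ∈ K,
      ∑ χ : Cfsg.IrrCharacter G, χ.1 u * ((b' χ - m χ 0 : ℤ) : ℂ) + ε' * θ.1 u = 0 := by
    intro u hu θ hθ
    obtain ⟨k, hk, hd⟩ := hdiffK θ hθ
    have h := hreg u hu k 0
    have h3 : ∀ χ : Cfsg.IrrCharacter G, χ.1 u * (((m χ k : ℤ) - m χ 0 : ℤ) : ℂ) =
        χ.1 u * ((b' χ - m χ 0 : ℤ) : ℂ) + if θ = χ then ε' * θ.1 u else 0 := by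
      intro χ
      rw [hd χ]
      by_cases hθχ : θ = χ
      · subst hθχ; rw [if_pos rfl, if_pos rfl]; push_cast; ring
      · rw [if_neg hθχ, if_neg hθχ]; push_cast; ring
    rw [Finset.sum_congr rfl fun χ _ => h3 χ, Finset.sum_add_distrib, Finset.sum_ite_eq,
      if_pos (Finset.mem_univ θ)] at h
    exact h
  have hval' : ∀ χ, b' χ - m χ 0 ≠ 0 → ∀ i : ZMod p, i ≠ 0 → ∀ v : V,
      χ.1 (z ^ i.val * (v : G)) = ((-(b' χ - m χ 0) : ℤ) : ℂ) := by
    intro χ hχ i hi v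
    obtain ⟨hK', hb''⟩ := hne χ hχ
    rw [hb''] at hχ ⊢
    exact (hNE χ hK').1 hχ i hi v
  refine ⟨{
    m := m, b := b', ε := ε', K := K, κ := κ', D := D, t := t,
    m_spec := hm, m_one := h1, et := het, eps := hε', cardK := hKc, one_not := h1K, κ_mem := hκ',
    fiber := hfib', b_one := hb1', mult := hf', bK := hbK', abs_le := ?_, sq_sum := ?_,
    degK := hdK, D_pos := (irr_degree θ₀).2, deg_sum := ?_, regular := hregK, val := hval',
    valK := hvK', valZero := ?_, cong := ?_, congK := ?_, dvd := ?_, dvdK := ?_ }⟩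
  · intro χ
    by_cases hχ : χ ∈ K
    · rw [hbK' χ hχ, sub_self]; norm_num
    · rw [hb' χ hχ]; exact (hNE χ hχ).2.2
  · obtain ⟨k, hk, hd⟩ := hdiffK θ₀ hθ₀
    have h := hdist0 k hk
    have h4 : ∀ χ, ((m χ k : ℤ) - m χ 0) ^ 2 = (b' χ - m χ 0) ^ 2 + if θ₀ = χ then 1 else 0 := by
      intro χ
      rw [hd χ]
      by_cases hθχ : θ₀ = χ
      · subst hθχ
        rw [if_pos rfl, if_pos rfl, hbK' _ hθ₀]
        rcases hε' with rfl | rfl <;> ring
      · rw [if_neg hθχ, if_neg hθχ]; ring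
    rw [Finset.sum_congr rfl fun χ _ => h4 χ, Finset.sum_add_distrib, Finset.sum_ite_eq,
      if_pos (Finset.mem_univ θ₀)] at h
    linarith
  · have h := hregK 1 (by rw [orderOf_one]; exact hp.out.not_dvd_one) θ₀ hθ₀
    simp only [(irr_degree _).1] at h
    exact (Int.cast_eq_zero (α := ℂ)).1 (by push_cast at h ⊢; exact h)
  · intro χ hχ hcz i hi
    rw [hb' χ hχ] at hcz
    exact (hNE χ hχ).2.1 hcz i hi
  · intro χ hχ
    exact hcong χ _ (by rw [h1z]; exact hval' χ hχ 1 one_ne_zero 1)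
  · -- the degree of the exceptional characters
    have hsum : ∑ θ ∈ K, θ.1 z = -(ε' : ℂ) := by
      have hfs : ∑ θ ∈ K, ∑ k ∈ fib κ' θ, (ZMod.stdAddChar (k * (1 : ZMod p)) : ℂ) = -1 := by
        rw [← sum_std_ne_zero (one_ne_zero (α := ZMod p)),
          ← Finset.sum_fiberwise_of_maps_to (g := κ') (t := K)
            (fun k hk => hκ' k (Finset.ne_of_mem_erase hk))]
        refine Finset.sum_congr rfl fun θ _ => Finset.sum_congr ?_ fun _ _ => rfl
        ext k; simp [mem_fib]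
      rw [Finset.sum_congr rfl fun θ hθ => by rw [h1z, hvK' θ hθ 1 one_ne_zero 1], ← Finset.mul_sum,
        hfs]
      ring
    have hlt : O.valuation (((-ε' - (t : ℤ) * D : ℤ)) : ℂ) < 1 := by
      rw [show ((-ε' - (t : ℤ) * D : ℤ) : ℂ) = ∑ θ ∈ K, (θ.1 z - θ.1 1) by
        rw [Finset.sum_sub_distrib, hsum, Finset.sum_congr rfl fun θ hθ => by
          rw [(irr_degree θ).1, hdK θ hθ], Finset.sum_const, hKc, nsmul_eq_mul]
        push_cast
        ring]
      exact Valuation.map_sum_lt _ one_ne_zero fun θ _ => val_char_sub_lt_one hmem S.ord θ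
    obtain ⟨q, hq⟩ := prime_dvd_of_val_lt hmem hlt
    refine ⟨(D : ℤ) + e * q, ?_⟩
    have hpe : (e : ℤ) * t + 1 = p := by
      have := hp.out.one_lt
      exact_mod_cast (by omega : e * t + 1 = p)
    linear_combination (e : ℤ) * hq + (D : ℤ) * hpe
  · intro χ hχ
    refine hdvd χ (-(b' χ - m χ 0)) ?_ (by rw [h1z]; exact hval' χ hχ 1 one_ne_zero 1)
    have h := abs_le.1 ((hNE χ (hne χ hχ).1).2.2)
    obtain ⟨-, hb''⟩ := hne χ hχ
    rw [hb''] at hχ ⊢
    omega
  · refine dvd_index_of_integral S (irr_degree θ₀).2.ne' ?_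
    have hint : ∀ θ ∈ K, IsIntegral ℤ (((Subgroup.centralizer ({z} : Set G)).index : ℂ) *
        θ.1 z / (D : ℂ)) := by
      intro θ hθ
      obtain ⟨n, ρ, hρ, hρe⟩ := θ.2
      have h := H25.isIntegral_classSize_mul_char_div ρ z
      have hfr : (Module.finrank ℂ (Fin n → ℂ) : ℂ) = (D : ℂ) := by
        rw [← ρ.char_one, congrFun hρe 1, (irr_degree θ).1, hdK θ hθ]
      rwa [congrFun hρe z, hfr] at h
    have h := IsIntegral.sum (s := K)
      (fun θ : Cfsg.IrrCharacter G => ((Subgroup.centralizer ({z} : Set G)).index : ℂ) * θ.1 z / (D : ℂ)) hint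
    have hsum : ∑ θ ∈ K, θ.1 z = -(ε' : ℂ) := by
      have hfs : ∑ θ ∈ K, ∑ k ∈ fib κ' θ, (ZMod.stdAddChar (k * (1 : ZMod p)) : ℂ) = -1 := by
        rw [← sum_std_ne_zero (one_ne_zero (α := ZMod p)),
          ← Finset.sum_fiberwise_of_maps_to (g := κ') (t := K)
            (fun k hk => hκ' k (Finset.ne_of_mem_erase hk))]
        refine Finset.sum_congr rfl fun θ _ => Finset.sum_congr ?_ fun _ _ => rfl
        ext k; simp [mem_fib]
      rw [Finset.sum_congr rfl fun θ hθ => by rw [h1z, hvK' θ hθ 1 one_ne_zero 1], ← Finset.mul_sum,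
        hfs]
      ring
    rw [← Finset.sum_div, ← Finset.mul_sum, hsum] at h
    rcases hε' with rfl | rfl
    · simpa [neg_div] using h.neg
    · simpa using h

end Cfsg.Agent.H31.Defect
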